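import Cfsg.Agent.H956.K1.Main
import Cfsg.Agent.H793.TA.Nine

/-!
# Socle `A₆` in dimension nine (helper956)

* `not_core_linear`, `not_core_unitary` : a residual core with socle `A₆`, not self-dual, is impossible in a maximal
  subgroup of `SL₉(q)`, `SU₉(q)`, in characteristic `≠ 3`.
-/

set_option autoImplicit false

namespace Cfsg.Agent.H956.K1

open Matrix Cfsg Cfsg.Geo Cfsg.Agent.H920.Nine Cfsg.Agent.H915.LD

universe u

variable {F : Type u} [Field F] [Fintype F]

theorem five_of_core {P : Subgroup (GL (Fin 9) F)} (hC : Core P) (e : Soc P ≃* alternatingGroup (Fin 6))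
    (hsd : ¬ SD P) : Five P := by
  intro h5
  have : Fact (Nat.Prime 5) := ⟨by norm_num⟩
  have hch : CharP F 5 := by
    refine (CharP.charP_iff_prime_eq_zero (by norm_num)).2 ?_
    exact_mod_cast h5
  exact (H793.TA.not_nine hC e (dvd_of_eq (card_scalars hC e hsd).symm)).elim

/-- **The linear case.** -/
theorem not_core_linear (p : ℕ) [Fact p.Prime] [CharP F p] (hp3 : p ≠ 3) {H P : Subgroup (GL (Fin 9) F)}
    (hH : IsMaximalIn (specialLinear (Fin 9) F) H) (hP : IsResidualCore H P)
    (e : Soc P ≃* alternatingGroup (Fin 6)) (hsd : ¬ SD P) : False :=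
  not_core_linear_of p hp3 hH hP e hsd (five_of_core (core_of_residual hP) e hsd)

/-- **The unitary case.** -/
theorem not_core_unitary (p : ℕ) [Fact p.Prime] [CharP F p] (hp3 : p ≠ 3) {q : ℕ} (hF : Fintype.card F = q ^ 2)
    {H P : Subgroup (GL (Fin 9) F)}
    (hH : IsMaximalIn (GU 9 F q ⊓ specialLinear (Fin 9) F) H) (hP : IsResidualCore H P)
    (e : Soc P ≃* alternatingGroup (Fin 6)) (hsd : ¬ SD P) : False :=
  not_core_unitary_of p hp3 hF hH hP e hsd (five_of_core (core_of_residual hP) e hsd)

end Cfsg.Agent.H956.K1
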