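import Cfsg.Agent.S0277
import Cfsg.Agent.ClassicalGeometry.GUBasic
import Cfsg.Prelude.Def_GeometricClasses

/-!
# Lower bounds for `|SL₉(q)|` and `|SU₉(q)|` (helper956)
-/

set_option autoImplicit false

namespace Cfsg.Agent.H956.K1

open Matrix Cfsg Cfsg.Geo

universe u

variable {F : Type u} [Field F] [Fintype F]

theorem two_le_card : 2 ≤ Fintype.card F := Fintype.one_lt_card

theorem prod_range_pow (q : ℕ) : ∏ i ∈ Finset.range 9, q ^ i = q ^ 36 := by
  rw [Finset.prod_pow_eq_pow_sum]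
  rfl

theorem two_mul_pow_lt {q N m : ℕ} (hq : 2 ≤ q) (hm : 38 ≤ m) (h : q ^ m ≤ N) : 2 * q ^ 36 < N := by
  have h1 : q ^ 36 * q ^ 2 ≤ q ^ m := by
    rw [← pow_add]
    exact Nat.pow_le_pow_right (by omega) hm
  have h2 : 2 ^ 2 ≤ q ^ 2 := Nat.pow_le_pow_left hq 2
  have h3 : 0 < q ^ 36 := by positivity
  have h4 : q ^ 36 * 2 ^ 2 ≤ q ^ 36 * q ^ 2 := Nat.mul_le_mul_left _ h2
  omega

theorem card_sl : 2 * Fintype.card F ^ 36 < Nat.card (specialLinear (Fin 9) F) := by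
  classical
  have hq : 2 ≤ Fintype.card F := two_le_card
  obtain ⟨q, hqF⟩ : ∃ q, q = Fintype.card F := ⟨_, rfl⟩
  rw [← hqF] at hq
  have h1 := Subgroup.card_mul_index (specialLinear (Fin 9) F)
  have h2 : (specialLinear (Fin 9) F).index = q - 1 := by
    unfold specialLinear
    rw [Subgroup.index_ker, MonoidHom.range_eq_top.2 Matrix.GeneralLinearGroup.det_surjective, Subgroup.card_top,
      Nat.card_eq_fintype_card, Fintype.card_units, hqF]
  rw [h2, Matrix.card_GL_field, ← hqF] at h1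
  have h3 : ∏ i : Fin 9, q ^ 8 ≤ ∏ i : Fin 9, (q ^ 9 - q ^ (i : ℕ)) := by
    apply Finset.prod_le_prod'
    intro i _
    have h4 : q ^ (i : ℕ) ≤ q ^ 8 := Nat.pow_le_pow_right (by omega) (by omega)
    have h5 : q ^ 9 = q ^ 8 * q := pow_succ q 8
    have h6 : q ^ 8 * 2 ≤ q ^ 8 * q := Nat.mul_le_mul_left _ hq
    omega
  rw [Finset.prod_const, Finset.card_univ, Fintype.card_fin, ← pow_mul, ← h1] at h3
  rw [← hqF]
  have h4 : q ^ 71 ≤ Nat.card (specialLinear (Fin 9) F) := by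
    by_contra hlt
    push Not at hlt
    have h5 : Nat.card (specialLinear (Fin 9) F) * (q - 1) ≤ q ^ 71 * (q - 1) := Nat.mul_le_mul_right _ hlt.le
    have h6 : q ^ 71 * (q - 1) < q ^ 71 * q := (Nat.mul_lt_mul_left (by positivity)).2 (by omega)
    have h7 : q ^ (8 * 9) = q ^ 71 * q := pow_succ q 71
    omega
  exact two_mul_pow_lt hq (by norm_num) h4

theorem card_su {q : ℕ} (hF : Fintype.card F = q ^ 2) : 2 * q ^ 36 < Nat.card ↥(GU 9 F q ⊓ specialLinear (Fin 9) F) := by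
  classical
  have hq : 2 ≤ q := Cfsg.Agent.ClassicalGeometry.GUBasic.two_le hF
  have h0 := Cfsg.Agent.S0277.result hF 9
  have h1 := Subgroup.card_mul_index ((Matrix.GeneralLinearGroup.det.comp (GU 9 F q).subtype).ker)
  have h2 : ((Matrix.GeneralLinearGroup.det.comp (GU 9 F q).subtype).ker).index ≤ q ^ 2 := by
    rw [Subgroup.index_ker]
    refine (Subgroup.card_le_card_group _).trans ?_
    rw [Nat.card_eq_fintype_card, Fintype.card_units, hF]
    omega
  have h3 : Nat.card ((Matrix.GeneralLinearGroup.det.comp (GU 9 F q).subtype).ker) =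
      Nat.card ↥(GU 9 F q ⊓ specialLinear (Fin 9) F) := by
    apply Nat.card_congr
    exact
      { toFun := fun g => ⟨(g : GU 9 F q), (g : GU 9 F q).2, g.2⟩
        invFun := fun g => ⟨⟨g, g.2.1⟩, g.2.2⟩
        left_inv := fun g => rfl
        right_inv := fun g => rfl }
  rw [h3, h0] at h1
  have h4 : ∏ i ∈ Finset.range 9, q ^ i ≤
      ∏ i ∈ Finset.range 9, (if Even i then q ^ (i + 1) + 1 else q ^ (i + 1) - 1) := by
    apply Finset.prod_le_prod'
    intro i _
    have h5 : q ^ (i + 1) = q ^ i * q := pow_succ q i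
    have h6 : q ^ i * 2 ≤ q ^ i * q := Nat.mul_le_mul_left _ hq
    have h7 : 0 < q ^ i := by positivity
    split_ifs <;> omega
  rw [prod_range_pow] at h4
  have h5 : q ^ (9 * (9 - 1) / 2) = q ^ 36 := rfl
  rw [h5] at h1
  have h6 : q ^ 36 * q ^ 36 ≤ Nat.card ↥(GU 9 F q ⊓ specialLinear (Fin 9) F) * q ^ 2 := by
    calc q ^ 36 * q ^ 36 ≤ q ^ 36 * _ := Nat.mul_le_mul_left _ h4
      _ = _ := h1.symm
      _ ≤ _ := Nat.mul_le_mul_left _ h2
  have h7 : q ^ 70 ≤ Nat.card ↥(GU 9 F q ⊓ specialLinear (Fin 9) F) := by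
    have h8 : q ^ 36 * q ^ 36 = q ^ 70 * q ^ 2 := by rw [← pow_add, ← pow_add]
    rw [h8] at h6
    exact Nat.le_of_mul_le_mul_right h6 (by positivity)
  exact two_mul_pow_lt hq (by norm_num) h7

end Cfsg.Agent.H956.K1
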