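import Cfsg.Agent.H956.K1.Core
import Cfsg.Agent.H920.NineField
import Cfsg.Agent.S0277
import Cfsg.Agent.ClassicalGeometry.GUBasic

/-!
# `3.A₆` in dimension nine: the two involutory automorphisms (helper956)
-/

set_option autoImplicit false

namespace Cfsg.Agent.H956.K1

open Matrix Cfsg Cfsg.Geo Cfsg.Agent.H920.Nine

universe u v

section circ

variable {E : Type v} [Field E] (σ : E →+* E) (hσ : ∀ x, σ (σ x) = x)

theorem val_map {n : Type*} [Fintype n] [DecidableEq n] (g : GL n E) :
    (Matrix.GeneralLinearGroup.map σ g : Matrix n n E) = (g : Matrix n n E).map σ := rfl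

theorem map_scl {n : Type*} [Fintype n] [DecidableEq n] (c : Eˣ) :
    Matrix.GeneralLinearGroup.map σ (scl n c) = scl n (Units.map σ.toMonoidHom c) := by
  apply Units.ext
  rw [val_map, val_scl, val_scl]
  ext i j
  rw [Matrix.map_apply, Matrix.smul_apply, Matrix.smul_apply, smul_eq_mul, smul_eq_mul, map_mul, Matrix.one_apply]
  split_ifs
  · rw [map_one]
    rfl
  · rw [map_zero]
    simp

include hσ in
theorem map_map_self {n : Type*} [Fintype n] [DecidableEq n] (M : Matrix n n E) : (M.map σ).map σ = M := by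
  ext i j
  exact hσ _

theorem det_map_eq {n : Type*} [Fintype n] [DecidableEq n] (M : Matrix n n E) : (M.map σ).det = σ M.det :=
  (RingHom.map_det σ M).symm

/-- the field automorphism -/
def circLin : Circ E where
  τ := Units.map σ.toMonoidHom
  c3 := Matrix.GeneralLinearGroup.map σ
  c9 := Matrix.GeneralLinearGroup.map σ
  inv9 g := Units.ext (by rw [val_map, val_map, map_map_self σ hσ])
  inv3 g := Units.ext (by rw [val_map, val_map, map_map_self σ hσ])
  c9_kr X Y := Units.ext (by rw [val_map, val_kr, val_kr, kron9_map, val_map, val_map])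
  c9_sw := Units.ext (by rw [val_map, val_sw, swm_map])
  c3_scl c := map_scl σ c
  c9_scl c := map_scl σ c
  det3 g hg := by rw [val_map, det_map_eq, hg, map_one]

/-- the transpose inverse -/
def ti {n : Type*} [Fintype n] [DecidableEq n] : GL n E →* GL n E := du (MonoidHom.id _)

theorem val_ti {n : Type*} [Fintype n] [DecidableEq n] (g : GL n E) :
    (ti g : Matrix n n E) = ((g⁻¹ : GL n E) : Matrix n n E)ᵀ := rfl

theorem ti_inv {n : Type*} [Fintype n] [DecidableEq n] (g : GL n E) :
    (((ti g)⁻¹ : GL n E) : Matrix n n E) = (g : Matrix n n E)ᵀ := rfl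

theorem ti_ti {n : Type*} [Fintype n] [DecidableEq n] (g : GL n E) : ti (ti g) = g :=
  Units.ext (by rw [val_ti, ti_inv, Matrix.transpose_transpose])

theorem ti_map {n : Type*} [Fintype n] [DecidableEq n] (g : GL n E) :
    ti (Matrix.GeneralLinearGroup.map σ g) = Matrix.GeneralLinearGroup.map σ (ti g) := by
  apply Units.ext
  rw [val_ti, val_map, val_ti, ← map_inv, val_map, Matrix.transpose_map]

theorem ti_kr (X Y : GL (Fin 3) E) : ti (kr X Y) = kr (ti X) (ti Y) := by
  apply Units.ext
  rw [val_ti, kr_inv, val_kr, kron9_transpose, val_kr, val_ti, val_ti]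

theorem ti_sw : ti (sw : GL (Fin 9) E) = sw := by
  apply Units.ext
  rw [val_ti, sw_inv, val_sw, swm_transpose]

theorem ti_scl {n : Type*} [Fintype n] [DecidableEq n] (c : Eˣ) : ti (scl n c) = scl n c⁻¹ := by
  apply Units.ext
  rw [val_ti, ← map_inv, val_scl, Matrix.transpose_smul, Matrix.transpose_one]

theorem ti_det {n : Type*} [Fintype n] [DecidableEq n] {g : GL n E} (h : (g : Matrix n n E).det = 1) :
    (ti g : Matrix n n E).det = 1 := by
  have h1 : (g : Matrix n n E).det * ((g⁻¹ : GL n E) : Matrix n n E).det = 1 := by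
    rw [← Matrix.det_mul, ← Units.val_mul, mul_inv_cancel, Units.val_one, Matrix.det_one]
  rw [h, one_mul] at h1
  rw [val_ti, Matrix.det_transpose, h1]

/-- the transpose inverse composed with the field automorphism -/
def circUni : Circ E where
  τ c := (Units.map σ.toMonoidHom c)⁻¹
  c3 := ti.comp (Matrix.GeneralLinearGroup.map σ)
  c9 := ti.comp (Matrix.GeneralLinearGroup.map σ)
  inv9 g := by
    show ti (Matrix.GeneralLinearGroup.map σ (ti (Matrix.GeneralLinearGroup.map σ g))) = g
    rw [← ti_map, ti_ti]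
    exact Units.ext (by rw [val_map, val_map, map_map_self σ hσ])
  inv3 g := by
    show ti (Matrix.GeneralLinearGroup.map σ (ti (Matrix.GeneralLinearGroup.map σ g))) = g
    rw [← ti_map, ti_ti]
    exact Units.ext (by rw [val_map, val_map, map_map_self σ hσ])
  c9_kr X Y := by
    show ti (Matrix.GeneralLinearGroup.map σ (kr X Y)) = kr (ti (Matrix.GeneralLinearGroup.map σ X))
      (ti (Matrix.GeneralLinearGroup.map σ Y))
    rw [← ti_kr]
    congr 1
    exact Units.ext (by rw [val_map, val_kr, val_kr, kron9_map, val_map, val_map])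
  c9_sw := by
    show ti (Matrix.GeneralLinearGroup.map σ sw) = sw
    have : Matrix.GeneralLinearGroup.map σ (sw : GL (Fin 9) E) = sw := Units.ext (by rw [val_map, val_sw, swm_map])
    rw [this, ti_sw]
  c3_scl c := by
    show ti (Matrix.GeneralLinearGroup.map σ (scl _ c)) = _
    rw [map_scl, ti_scl]
  c9_scl c := by
    show ti (Matrix.GeneralLinearGroup.map σ (scl _ c)) = _
    rw [map_scl, ti_scl]
  det3 g hg := ti_det (by rw [val_map, det_map_eq, hg, map_one])

end circ

/-- a root of `x² - x - 1` in a field with `q²` elements -/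
theorem exists_phi {E : Type v} [Field E] [Fintype E] {q : ℕ} (hE : Fintype.card E = q ^ 2) {ω : E}
    (hω : ω * ω = -ω - 1) : ∃ φ : E, φ * φ = φ + 1 := by
  by_cases h2 : (2 : E) = 0
  · exact ⟨ω, by linear_combination hω - (ω + 1) * h2⟩
  obtain ⟨σ, hσ⟩ := Cfsg.Agent.ClassicalGeometry.GUBasic.exists_powHom hE
  have h5 : (5 : E) ^ q = 5 := by
    rw [← hσ]
    exact map_ofNat σ 5
  obtain ⟨s, hs⟩ : IsSquare (5 : E) := by
    by_cases h0 : (5 : E) = 0
    · exact ⟨0, by rw [h0, mul_zero]⟩
    have hch : ringChar E ≠ 2 := by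
      intro h
      apply h2
      have := ringChar.Nat.cast_ringChar (R := E)
      rw [h] at this
      exact_mod_cast this
    rw [FiniteField.isSquare_iff hch h0, hE]
    have hq1 : (5 : E) ^ (q - 1) = 1 := by
      have hq : q ≠ 0 := by
        rintro rfl
        have := Fintype.card_ne_zero (α := E)
        rw [hE] at this
        exact this rfl
      have h6 : (5 : E) ^ (q - 1) * 5 = 1 * 5 := by
        rw [← pow_succ, Nat.sub_add_cancel (by omega), h5, one_mul]
      exact mul_right_cancel₀ h0 h6
    have hodd : q % 2 = 1 := by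
      have h7 := FiniteField.odd_card_of_char_ne_two hch
      rw [hE] at h7
      rcases Nat.mod_two_eq_zero_or_one q with h8 | h8
      · exfalso
        rw [pow_two, Nat.mul_mod, h8] at h7
        omega
      · exact h8
    obtain ⟨k, rfl⟩ : ∃ k, q = 2 * k + 1 := ⟨q / 2, by omega⟩
    have h8 : (2 * k + 1) ^ 2 / 2 = (2 * k + 1 - 1) * (k + 1) := by
      have : (2 * k + 1) ^ 2 = 2 * ((2 * k) * (k + 1)) + 1 := by ring
      rw [this, Nat.add_sub_cancel]
      omega
    rw [h8, pow_mul, hq1, one_pow]
  refine ⟨(1 + s) / 2, ?_⟩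
  field_simp
  linear_combination -hs

end Cfsg.Agent.H956.K1
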