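import Cfsg.Agent.H956.K1.PSide

/-!
# Sums of class functions over the threefold cover of `A₆` (helper956)

`Cov.sum_eq` : `2 ∑ f = 6 f(1) + 270 f(a) + 540 f(b) + 432 (f(u) + f(u²))` for a class function on `P`
which is constant on the cosets of the centre and vanishes on the elements of order three.
-/

set_option autoImplicit false
set_option maxRecDepth 20000

namespace Cfsg.Agent.H956.K1

open Matrix Cfsg Cfsg.Geo Cfsg.Agent.H173.Pres Equiv

/-- counting in `A₆` by counting in `S₆` -/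
theorem card_filter_a6 (q : Perm (Fin 6) → Prop) [DecidablePred q] :
    (Finset.univ.filter fun σ : alternatingGroup (Fin 6) => q σ).card =
      (Finset.univ.filter fun σ : Perm (Fin 6) => q σ ∧ Perm.sign σ = 1).card := by
  refine Finset.card_bij (fun (σ : alternatingGroup (Fin 6)) _ => (σ : Perm (Fin 6))) ?_ ?_ ?_
  · intro σ hσ
    rw [Finset.mem_filter] at hσ ⊢
    exact ⟨Finset.mem_univ _, hσ.2, Perm.mem_alternatingGroup.1 σ.2⟩
  · intro σ _ τ _ h
    exact Subtype.ext h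
  · intro σ hσ
    rw [Finset.mem_filter] at hσ
    exact ⟨⟨σ, Perm.mem_alternatingGroup.2 hσ.2.2⟩, by rw [Finset.mem_filter]; exact ⟨Finset.mem_univ _, hσ.2.1⟩, rfl⟩

theorem sum_ite_const {α : Type*} [Fintype α] {E : Type*} [Field E] (q : α → Prop) [DecidablePred q] (e : E) {n : ℕ}
    (h : (Finset.univ.filter q).card = n) : (∑ σ, if q σ then e else 0) = n * e := by
  rw [← Finset.sum_filter, Finset.sum_const, h, nsmul_eq_mul]

/-- the sum over `A₆` -/
theorem sum_a6 {E : Type*} [Field E] (F : alternatingGroup (Fin 6) → E)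
    (hF : ∀ t σ r, t * σ = r * t → F σ = F r) (hx : F za6 = 0) (hw : F (za6 * tc) = 0) :
    2 * ∑ σ, F σ = 2 * F 1 + 90 * F ta + 180 * F zs6 + 144 * (F (ta * zs6 ^ 2) + F ((ta * zs6 ^ 2) ^ 2)) := by
  have ea : (ta : Perm (Fin 6)) = Dec.pa := by decide
  have eb : (zs6 : Perm (Fin 6)) = Dec.pb := by decide
  have eu : ((ta * zs6 ^ 2 : alternatingGroup (Fin 6)) : Perm (Fin 6)) = Dec.pu := by decide
  have ex : (za6 : Perm (Fin 6)) = Dec.px := by decide
  have ew : ((za6 * tc : alternatingGroup (Fin 6)) : Perm (Fin 6)) = Dec.pw := by decide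
  have mk : ∀ (σ r : alternatingGroup (Fin 6)) (τ : Perm (Fin 6)), Perm.sign τ = 1 → τ * σ = r * τ → F σ = F r :=
    fun σ r τ h1 h2 => hF ⟨τ, Perm.mem_alternatingGroup.2 h1⟩ σ r (Subtype.ext h2)
  have one : ∀ (g : alternatingGroup (Fin 6)) (n : ℕ), g ^ n = 1 ↔ (g : Perm (Fin 6)) ^ n = 1 := by
    intro g n
    rw [← Subgroup.coe_pow]
    exact ⟨fun h => by rw [h]; rfl, fun h => Subtype.ext h⟩
  have one' : ∀ (g : alternatingGroup (Fin 6)), g = 1 ↔ (g : Perm (Fin 6)) = 1 :=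
    fun g => ⟨fun h => by rw [h]; rfl, fun h => Subtype.ext h⟩
  -- elements of order five
  have h5 : ∀ g : alternatingGroup (Fin 6), (g : Perm (Fin 6)) ^ 5 = 1 → ¬ (g : Perm (Fin 6)) = 1 →
      F g + F (g ^ 2) = F (ta * zs6 ^ 2) + F ((ta * zs6 ^ 2) ^ 2) := by
    intro g hg hg1
    have hinv : F ((ta * zs6 ^ 2) ^ 4) = F (ta * zs6 ^ 2) := by
      apply hF ⟨swap 2 4 * swap 3 5, Perm.mem_alternatingGroup.2 (by decide)⟩
      decide
    obtain ⟨τ, ⟨-, -, h5, h6⟩ | ⟨-, -, h5, h6⟩⟩ := Dec.five_dec g hg hg1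
    · rw [← eu] at h6
      have h7 : τ * (g ^ 2 : alternatingGroup (Fin 6)) = ((ta * zs6 ^ 2) ^ 2 : alternatingGroup (Fin 6)) * τ := by
        rw [Subgroup.coe_pow, Subgroup.coe_pow, pow_two, pow_two, ← mul_assoc, h6, mul_assoc, h6, mul_assoc]
      rw [mk _ _ τ h5 h6, mk _ _ τ h5 h7]
    · rw [← eu, ← Subgroup.coe_pow] at h6
      have h7 : τ * (g ^ 2 : alternatingGroup (Fin 6)) = ((ta * zs6 ^ 2) ^ 4 : alternatingGroup (Fin 6)) * τ := by
        have e4 : (ta * zs6 ^ 2) ^ 4 = (ta * zs6 ^ 2) ^ 2 * (ta * zs6 ^ 2) ^ 2 := by rw [← pow_add]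
        rw [e4, Subgroup.coe_mul, Subgroup.coe_pow, pow_two, ← mul_assoc, h6, mul_assoc, h6, mul_assoc]
      rw [mk _ _ τ h5 h6, mk _ _ τ h5 h7, hinv, add_comm]
  have hall : ∀ σ : alternatingGroup (Fin 6), F σ = (if σ = 1 then F 1 else 0) +
      (if (σ : Perm (Fin 6)) ^ 2 = 1 ∧ ¬ (σ : Perm (Fin 6)) = 1 then F ta else 0) +
      (if (σ : Perm (Fin 6)) ^ 4 = 1 ∧ ¬ (σ : Perm (Fin 6)) ^ 2 = 1 then F zs6 else 0) +
      (if (σ : Perm (Fin 6)) ^ 5 = 1 ∧ ¬ (σ : Perm (Fin 6)) = 1 then F σ else 0) := by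
    intro σ
    have hs : Perm.sign (σ : Perm (Fin 6)) = 1 := Perm.mem_alternatingGroup.1 σ.2
    by_cases h1 : σ = 1
    · subst h1
      simp
    have h1' := h1
    rw [one'] at h1
    rw [if_neg h1', zero_add]
    by_cases h4 : (σ : Perm (Fin 6)) ^ 4 = 1
    · have h5 : ¬ (σ : Perm (Fin 6)) ^ 5 = 1 := by
        intro h5
        apply h1
        have : (σ : Perm (Fin 6)) ^ 5 = (σ : Perm (Fin 6)) ^ 4 * σ := pow_succ _ 4
        rw [h5, h4, one_mul] at this
        exact this.symm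
      rw [if_neg (c := (σ : Perm (Fin 6)) ^ 5 = 1 ∧ ¬ (σ : Perm (Fin 6)) = 1) (fun h => h5 h.1), add_zero]
      by_cases h2 : (σ : Perm (Fin 6)) ^ 2 = 1
      · rw [if_pos ⟨h2, h1⟩, if_neg (fun h => h.2 h2), add_zero]
        obtain ⟨τ, -, -, h5, h6⟩ := Dec.two_dec σ h2 h1 hs
        rw [← ea] at h6
        exact mk _ _ τ h5 h6
      · rw [if_neg (fun h => h2 h.1), if_pos ⟨h4, h2⟩, zero_add]
        obtain ⟨τ, -, -, h5, h6⟩ := Dec.four_dec σ h4 h2 hs
        rw [← eb] at h6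
        exact mk _ _ τ h5 h6
    · have h2 : ¬ (σ : Perm (Fin 6)) ^ 2 = 1 := by
        intro h2
        apply h4
        rw [show (4 : ℕ) = 2 * 2 from rfl, pow_mul, h2, one_pow]
      rw [if_neg (fun h => h2 h.1), if_neg (fun h => h4 h.1), zero_add, zero_add]
      by_cases h3 : (σ : Perm (Fin 6)) ^ 3 = 1
      · have h5 : ¬ (σ : Perm (Fin 6)) ^ 5 = 1 := by
          intro h5
          apply h2
          have : (σ : Perm (Fin 6)) ^ 5 = (σ : Perm (Fin 6)) ^ 3 * (σ : Perm (Fin 6)) ^ 2 := pow_add _ 3 2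
          rw [h5, h3, one_mul] at this
          exact this.symm
        rw [if_neg (fun h => h5 h.1)]
        obtain ⟨τ, ⟨-, -, h5, h6⟩ | ⟨-, -, h5, h6⟩⟩ := Dec.three_dec σ h3 h1
        · rw [← ex] at h6
          rw [mk _ _ τ h5 h6, hx]
        · rw [← ew] at h6
          rw [mk _ _ τ h5 h6, hw]
      · have h5 : (σ : Perm (Fin 6)) ^ 5 = 1 := by
          by_contra h5
          exact Dec.ord_dec σ h4 h3 h5 hs
        rw [if_pos ⟨h5, h1⟩]
  have s5 : 2 * (∑ σ : alternatingGroup (Fin 6), if (σ : Perm (Fin 6)) ^ 5 = 1 ∧ ¬ (σ : Perm (Fin 6)) = 1 then F σ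
      else 0) = 144 * (F (ta * zs6 ^ 2) + F ((ta * zs6 ^ 2) ^ 2)) := by
    rw [← Finset.sum_filter]
    set S := Finset.univ.filter fun σ : alternatingGroup (Fin 6) => (σ : Perm (Fin 6)) ^ 5 = 1 ∧
      ¬ (σ : Perm (Fin 6)) = 1 with hS
    have h6 : ∑ σ ∈ S, F (σ ^ 2) = ∑ σ ∈ S, F σ := by
      refine Finset.sum_bij' (fun σ _ => σ ^ 2) (fun σ _ => σ ^ 3) ?_ ?_ ?_ ?_ ?_
      · intro σ hσ
        rw [hS, Finset.mem_filter] at hσ ⊢
        refine ⟨Finset.mem_univ _, ?_, ?_⟩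
        · rw [Subgroup.coe_pow, ← pow_mul, mul_comm, pow_mul, hσ.2.1, one_pow]
        · rw [Subgroup.coe_pow]
          intro h
          apply hσ.2.2
          have : (σ : Perm (Fin 6)) ^ 5 = (σ : Perm (Fin 6)) ^ 2 * (σ : Perm (Fin 6)) ^ 2 * σ := by group
          rw [hσ.2.1, h, one_mul, one_mul] at this
          exact this.symm
      · intro σ hσ
        rw [hS, Finset.mem_filter] at hσ ⊢
        refine ⟨Finset.mem_univ _, ?_, ?_⟩
        · rw [Subgroup.coe_pow, ← pow_mul, mul_comm, pow_mul, hσ.2.1, one_pow]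
        · rw [Subgroup.coe_pow]
          intro h
          apply hσ.2.2
          have : (σ : Perm (Fin 6)) ^ 5 * σ = (σ : Perm (Fin 6)) ^ 3 * (σ : Perm (Fin 6)) ^ 3 := by group
          rw [hσ.2.1, h, one_mul, one_mul] at this
          exact this
      · intro σ hσ
        rw [Finset.mem_filter] at hσ
        rw [← pow_mul]
        apply Subtype.ext
        rw [Subgroup.coe_pow, show 2 * 3 = 5 + 1 from rfl, pow_succ, hσ.2.1, one_mul]
      · intro σ hσ
        rw [Finset.mem_filter] at hσ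
        rw [← pow_mul]
        apply Subtype.ext
        rw [Subgroup.coe_pow, show 3 * 2 = 5 + 1 from rfl, pow_succ, hσ.2.1, one_mul]
      · intro σ hσ
        rfl
    have h7 : S.card = 144 := by
      rw [hS, card_filter_a6 (fun σ => σ ^ 5 = 1 ∧ ¬ σ = 1)]
      exact Dec.card_five
    rw [two_mul]
    nth_rewrite 2 [← h6]
    rw [← Finset.sum_add_distrib, Finset.sum_congr rfl (fun σ hσ => h5 σ (Finset.mem_filter.1 hσ).2.1
      (Finset.mem_filter.1 hσ).2.2), Finset.sum_const, h7, nsmul_eq_mul]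
    norm_num
  have s1 : (∑ σ : alternatingGroup (Fin 6), if σ = 1 then F 1 else 0) = F 1 := by
    rw [Finset.sum_ite_eq' Finset.univ (1 : alternatingGroup (Fin 6)) (fun _ => F 1)]
    simp
  have s2 := sum_ite_const (fun σ : alternatingGroup (Fin 6) => (σ : Perm (Fin 6)) ^ 2 = 1 ∧
    ¬ (σ : Perm (Fin 6)) = 1) (F ta) (n := 45) (by
      rw [card_filter_a6 (fun σ => σ ^ 2 = 1 ∧ ¬ σ = 1)]
      exact Dec.card_two)
  have s4 := sum_ite_const (fun σ : alternatingGroup (Fin 6) => (σ : Perm (Fin 6)) ^ 4 = 1 ∧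
    ¬ (σ : Perm (Fin 6)) ^ 2 = 1) (F zs6) (n := 90) (by
      rw [card_filter_a6 (fun σ => σ ^ 4 = 1 ∧ ¬ σ ^ 2 = 1)]
      exact Dec.card_four)
  have hsum : ∑ σ, F σ = F 1 + 45 * F ta + 90 * F zs6 + (∑ σ : alternatingGroup (Fin 6),
      if (σ : Perm (Fin 6)) ^ 5 = 1 ∧ ¬ (σ : Perm (Fin 6)) = 1 then F σ else 0) := by
    rw [Finset.sum_congr rfl (fun σ _ => hall σ), Finset.sum_add_distrib, Finset.sum_add_distrib,
      Finset.sum_add_distrib, s1, s2, s4]
    push_cast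
    rfl
  rw [hsum, mul_add, s5]
  ring

namespace Cov

variable {P : Type*} [Group P] (C : Cov P) {E : Type*} [Field E]

omit [Field E] in
theorem f_eq [Finite P] {f : P → E} (h2 : ∀ g, f (C.z * g) = f g) {g h : P} (hgh : C.π g = C.π h) : f g = f h := by
  have h1 : g * h⁻¹ ∈ C.π.ker := by
    rw [MonoidHom.mem_ker, map_mul, map_inv, hgh, mul_inv_cancel]
  obtain ⟨i, hi⟩ := C.mem_ker h1
  have h4 : ∀ (i : ℕ) (g : P), f (C.z ^ i * g) = f g := by
    intro i
    induction i with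
    | zero => intro g; rw [pow_zero, one_mul]
    | succ i ih => intro g; rw [pow_succ, mul_assoc, ih, h2]
  have h5 : g = C.z ^ i * h := by rw [← hi]; group
  rw [h5, h4]

/-- **The sum of a class function.** -/
theorem sum_eq [Fintype P] (f : P → E) (h1 : ∀ g t, f (t * g * t⁻¹) = f g) (h2 : ∀ g, f (C.z * g) = f g)
    (hx : f C.x = 0) (hw : f (C.x * C.c) = 0) :
    2 * ∑ g, f g = 3 * (2 * f 1 + 90 * f C.a + 180 * f C.b + 144 * (f C.u + f (C.u ^ 2))) := by
  obtain ⟨F, hF⟩ : ∃ F : alternatingGroup (Fin 6) → E, ∀ g, f g = F (C.π g) := by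
    refine ⟨fun σ => f (Function.surjInv C.surj σ), fun g => ?_⟩
    apply C.f_eq h2
    exact (Function.surjInv_eq C.surj (C.π g)).symm
  have hFc : ∀ t σ r, t * σ = r * t → F σ = F r := by
    intro t σ r h
    obtain ⟨t, rfl⟩ := C.surj t
    obtain ⟨g, rfl⟩ := C.surj σ
    obtain ⟨s, rfl⟩ := C.surj r
    rw [← hF, ← hF, ← h1 g t]
    apply C.f_eq h2
    rw [map_mul, map_mul, map_inv, h]
    group
  have hcard : ∀ σ, (Finset.univ.filter fun g : P => C.π g = σ).card = 3 := by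
    intro σ
    have h3 := MonoidHom.card_fiber_eq_of_mem_range C.π (x := σ) (y := 1) (by
      obtain ⟨g, rfl⟩ := C.surj σ; exact ⟨g, rfl⟩) ⟨1, map_one _⟩
    rw [h3]
    have h4 := C.card
    rw [← h4, Nat.card_eq_fintype_card, Fintype.card_subtype]
    congr 1
    ext g
    simp only [Finset.mem_filter, MonoidHom.mem_ker]
  have hsum : ∑ g, f g = 3 * ∑ σ, F σ := by
    rw [← Finset.sum_fiberwise (s := Finset.univ) (g := fun g : P => C.π g), Finset.mul_sum]
    apply Finset.sum_congr rfl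
    intro σ _
    rw [Finset.sum_congr rfl (g := fun _ => F σ), Finset.sum_const, hcard, nsmul_eq_mul]
    · norm_num
    · intro g hg
      rw [Finset.mem_filter] at hg
      rw [hF, hg.2]
  have e1 : F 1 = f 1 := by rw [hF, map_one]
  have ea : F ta = f C.a := by rw [hF, C.πa]
  have eb : F zs6 = f C.b := by rw [hF, C.πb]
  have eu : F (ta * zs6 ^ 2) = f C.u := by rw [hF, C.πu]
  have eu2 : F ((ta * zs6 ^ 2) ^ 2) = f (C.u ^ 2) := by rw [hF, map_pow, C.πu]
  have key := sum_a6 F hFc (by rw [← C.πx, ← hF, hx]) (by rw [← C.πx, ← C.πc, ← map_mul, ← hF, hw])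
  rw [hsum, mul_left_comm, key, e1, ea, eb, eu, eu2]

end Cov

end Cfsg.Agent.H956.K1
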