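import Cfsg.Agent.H956.K1.Trans

/-!
# `3.A₆` in dimension nine: residual cores (helper956)

`core_false` : the common part of the linear and the unitary case.
-/

set_option autoImplicit false
set_option maxRecDepth 20000

namespace Cfsg.Agent.H956.K1

open Matrix Cfsg Cfsg.Geo Cfsg.Agent.H173.Pres Cfsg.Agent.H920.Nine Cfsg.Agent.H956.Sep Cfsg.Agent.H915.LD

universe u v

theorem Cov.orderOf_a {P : Type*} [Group P] (C : Cov P) : orderOf C.a = 2 := by
  apply orderOf_eq_prime C.a2
  intro h
  have := C.πa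
  rw [h, map_one] at this
  revert this
  decide

theorem Cov.orderOf_b {P : Type*} [Group P] (C : Cov P) : orderOf C.b = 4 := by
  have : Fact (Nat.Prime 2) := ⟨Nat.prime_two⟩
  apply orderOf_eq_prime_pow (p := 2) (n := 1)
  · intro h
    rw [pow_one] at h
    have h1 := congrArg C.π h
    rw [map_pow, C.πb, map_one] at h1
    revert h1
    decide
  · exact C.b4

/-- a cover from a core with centre of order three -/
theorem exists_cov_of_core {F : Type u} [Field F] {P : Subgroup (GL (Fin 9) F)} (hC : Core P)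
    (e : Soc P ≃* alternatingGroup (Fin 6)) (hk : Nat.card ((scalars (Fin 9) F).subgroupOf P) = 3) :
    ∃ C : Cov P, C.π = e.toMonoidHom.comp (toSoc P) := by
  have h1 := ker_comp e
  apply exists_cov
  · exact e.surjective.comp (toSoc_surjective P)
  · rw [h1]
    exact scalars_le_center
  · rw [h1]
    exact hk
  · exact hC.commutator_top

/-- **The common part.** -/
theorem core_false {F : Type u} [Field F] {E : Type v} [Field E] [Fintype E] (f : F →+* E) (o : Circ E)
    (hφ : ∀ ω : E, ω * ω = -ω - 1 → ∃ φ : E, φ * φ = φ + 1) (h3 : (3 : E) ≠ 0)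
    {H P K : Subgroup (GL (Fin 9) F)} (hH : IsMaximalIn K H) (hR : IsResidualCore H P)
    (e : Soc P ≃* alternatingGroup (Fin 6)) (hk : Nat.card ((scalars (Fin 9) F).subgroupOf P) = 3)
    (h5 : (5 : F) = 0 → (∀ x ∈ P, orderOf x = 2 → tr x = -3) ∧ (∀ x ∈ P, orderOf x = 4 → tr x = 3))
    (hG : ∀ g : GL (Fin 9) E, g ∈ K.map (Matrix.GeneralLinearGroup.map f) ↔
      (g : Matrix (Fin 9) (Fin 9) E).det = 1 ∧ o.c9 g = g)
    (hcard : 2 * Nat.card E ^ 18 < Nat.card K) : False := by
  have hC := core_of_residual hR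
  obtain ⟨C, hCπ⟩ := exists_cov_of_core hC e hk
  have hinj := gmap_injective f
  let ε : P ≃* P.map (Matrix.GeneralLinearGroup.map f) := P.equivMapOfInjective _ hinj
  have hε : ∀ g : P, ((ε g : P.map (Matrix.GeneralLinearGroup.map f)) : GL (Fin 9) E) =
      Matrix.GeneralLinearGroup.map f (g : GL (Fin 9) F) := fun g => rfl
  have : Finite (P.map (Matrix.GeneralLinearGroup.map (n := Fin 9) f)) := inferInstance
  have : Finite P := Finite.of_equiv _ ε.symm.toEquiv
  -- the scalar
  have hz : C.z ∈ (scalars (Fin 9) F).subgroupOf P := by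
    have h1 := C.z_mem
    rw [hCπ, ker_comp e] at h1
    exact h1
  rw [Subgroup.mem_subgroupOf, mem_scalars_iff] at hz
  obtain ⟨c, hc⟩ := hz
  have hc3 : (c : F) ^ 3 = 1 := by
    have h1 := congrArg (fun g : P => ((g : GL (Fin 9) F) : Matrix (Fin 9) (Fin 9) F) 0 0) C.z_cube
    simp only [Subgroup.coe_pow, Units.val_pow_eq_pow_val, hc, smul_pow, one_pow, Matrix.smul_apply,
      Matrix.one_apply_eq, smul_eq_mul, mul_one, Subgroup.coe_one, Units.val_one] at h1
    exact h1
  have hc1 : (c : F) ≠ 1 := by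
    intro h
    apply C.z_ne_one
    apply Subtype.ext
    apply Units.ext
    rw [hc, h, one_smul]
    rfl
  have hω : (f c) * (f c) = -(f c) - 1 := by
    rw [← map_mul, ← map_one f, ← map_neg, ← map_sub]
    congr 1
    have h1 : ((c : F) - 1) * ((c : F) * c + c + 1) = 0 := by linear_combination hc3
    have h2 := (mul_eq_zero.1 h1).resolve_left (sub_ne_zero.2 hc1)
    linear_combination h2
  obtain ⟨φ, hφ⟩ := hφ _ hω
  let p : Par E := ⟨φ, f c, hφ, hω, h3⟩
  have h5' : (5 : E) = 0 → (5 : F) = 0 := by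
    intro h
    apply f.injective
    rw [map_zero, ← h]
    exact map_ofNat f 5
  refine kill o p (P := P.map (Matrix.GeneralLinearGroup.map f)) (H := H.map (Matrix.GeneralLinearGroup.map f))
    (C.transport ε) ?_ (span_map f hC.absIrred) ?_ (G := K.map (Matrix.GeneralLinearGroup.map f)) hG ?_ ?_ ?_ ?_ ?_
  · rw [C.transport_z, hε, val_gmap, hc]
    ext i j
    rw [Matrix.map_apply, Matrix.smul_apply, Matrix.smul_apply, smul_eq_mul, smul_eq_mul, map_mul,
      Matrix.one_apply, Matrix.one_apply]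
    split_ifs
    · rw [map_one]
    · rw [map_zero]
  · intro h
    obtain ⟨ha, hb⟩ := h5 (h5' h)
    have e1 : ∀ g : GL (Fin 9) F, ((Matrix.GeneralLinearGroup.map f g : GL (Fin 9) E) : Matrix (Fin 9) (Fin 9) E).trace =
        f (tr g) := by
      intro g
      rw [val_gmap]
      exact (AddMonoidHom.map_trace f.toAddMonoidHom _).symm
    constructor
    · show ((Matrix.GeneralLinearGroup.map f (C.a : GL (Fin 9) F) : GL (Fin 9) E) : Matrix (Fin 9) (Fin 9) E).trace = _
      rw [e1, ha _ C.a.2 (by rw [Subgroup.orderOf_coe, C.orderOf_a]), map_neg]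
      congr 1
      exact map_ofNat f 3
    · show ((Matrix.GeneralLinearGroup.map f (C.b : GL (Fin 9) F) : GL (Fin 9) E) : Matrix (Fin 9) (Fin 9) E).trace = _
      rw [e1, hb _ C.b.2 (by rw [Subgroup.orderOf_coe, C.orderOf_b])]
      exact map_ofNat f 3
  · rwa [← Nat.card_congr (K.equivMapOfInjective _ hinj).toEquiv]
  · exact Subgroup.map_mono hH.1.le
  · intro M h1 h2
    have h4 : H ≤ M.comap (Matrix.GeneralLinearGroup.map f) := by
      rwa [← Subgroup.map_le_iff_le_comap]
    have h6 : M.comap (Matrix.GeneralLinearGroup.map f) ≤ K := by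
      intro g hg
      obtain ⟨k, hk, hgk⟩ := h2 hg
      rwa [← hinj hgk]
    have h7 : M = (M.comap (Matrix.GeneralLinearGroup.map f)).map (Matrix.GeneralLinearGroup.map f) := by
      rw [Subgroup.map_comap_eq_self]
      intro g hg
      obtain ⟨k, -, hgk⟩ := h2 hg
      exact ⟨k, hgk⟩
    rcases hH.2 _ h4 h6 with h | h
    · left
      rw [h7, h]
    · right
      rw [h7, h]
  · exact Subgroup.map_mono hR.le
  · rintro _ ⟨h, hh, rfl⟩ _ ⟨g, hg, rfl⟩
    exact ⟨h * g * h⁻¹, hR.normal h hh g hg, by rw [map_mul, map_mul, map_inv]⟩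

end Cfsg.Agent.H956.K1
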