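import Mathlib

/-!
# Conjugacy classes of `A₆` (helper956)
-/

set_option autoImplicit false
set_option maxRecDepth 20000
set_option Elab.async false

namespace Cfsg.Agent.H956.K1.Dec

open Equiv

/-- the involution -/
def pa : Perm (Fin 6) := ⟨![5, 1, 3, 2, 4, 0], ![5, 1, 3, 2, 4, 0], by decide, by decide⟩

/-- the element of order four -/
def pb : Perm (Fin 6) := ⟨![1, 0, 3, 4, 5, 2], ![1, 0, 5, 2, 3, 4], by decide, by decide⟩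

/-- the element of order five -/
def pu : Perm (Fin 6) := pa * pb ^ 2

/-- the three-cycle -/
def px : Perm (Fin 6) := ⟨![1, 2, 0, 3, 4, 5], ![2, 0, 1, 3, 4, 5], by decide, by decide⟩

/-- the other element of order three -/
def pw : Perm (Fin 6) := ⟨![1, 2, 0, 4, 5, 3], ![2, 0, 1, 5, 3, 4], by decide, by decide⟩

/-- splitting by the value at `0` -/
theorem split {P : Perm (Fin 6) → Prop} (h0 : ∀ σ : Perm (Fin 6), (σ 0 = 0 ∨ σ 0 = 1) → P σ)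
    (h1 : ∀ σ : Perm (Fin 6), (σ 0 = 2 ∨ σ 0 = 3) → P σ)
    (h2 : ∀ σ : Perm (Fin 6), (σ 0 = 4 ∨ σ 0 = 5) → P σ) (σ : Perm (Fin 6)) : P σ := by
  have h : ∀ i : Fin 6, (i = 0 ∨ i = 1) ∨ (i = 2 ∨ i = 3) ∨ (i = 4 ∨ i = 5) := by decide
  rcases h (σ 0) with h | h | h
  · exact h0 σ h
  · exact h1 σ h
  · exact h2 σ h

theorem ord_dec : ∀ σ : Perm (Fin 6), ¬ σ ^ 4 = 1 → ¬ σ ^ 3 = 1 → ¬ σ ^ 5 = 1 → ¬ Perm.sign σ = 1 := by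
  decide +kernel

theorem two_dec : ∀ σ : Perm (Fin 6), σ ^ 2 = 1 → ¬ σ = 1 → Perm.sign σ = 1 → ∃ τ : Perm (Fin 6),
    τ (σ 0) = pa (τ 0) ∧ τ (σ 1) = pa (τ 1) ∧ Perm.sign τ = 1 ∧ τ * σ = pa * τ := by
  decide +kernel

theorem four_dec0 : ∀ σ : Perm (Fin 6), (σ 0 = 0 ∨ σ 0 = 1) → σ ^ 4 = 1 → ¬ σ ^ 2 = 1 → Perm.sign σ = 1 → ∃ τ : Perm (Fin 6),
    τ (σ 0) = pb (τ 0) ∧ τ (σ 1) = pb (τ 1) ∧ Perm.sign τ = 1 ∧ τ * σ = pb * τ := by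
  decide +kernel

theorem four_dec1 : ∀ σ : Perm (Fin 6), (σ 0 = 2 ∨ σ 0 = 3) → σ ^ 4 = 1 → ¬ σ ^ 2 = 1 → Perm.sign σ = 1 → ∃ τ : Perm (Fin 6),
    τ (σ 0) = pb (τ 0) ∧ τ (σ 1) = pb (τ 1) ∧ Perm.sign τ = 1 ∧ τ * σ = pb * τ := by
  decide +kernel

theorem four_dec2 : ∀ σ : Perm (Fin 6), (σ 0 = 4 ∨ σ 0 = 5) → σ ^ 4 = 1 → ¬ σ ^ 2 = 1 → Perm.sign σ = 1 → ∃ τ : Perm (Fin 6),
    τ (σ 0) = pb (τ 0) ∧ τ (σ 1) = pb (τ 1) ∧ Perm.sign τ = 1 ∧ τ * σ = pb * τ := by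
  decide +kernel

theorem four_dec : ∀ σ : Perm (Fin 6), σ ^ 4 = 1 → ¬ σ ^ 2 = 1 → Perm.sign σ = 1 → ∃ τ : Perm (Fin 6),
    τ (σ 0) = pb (τ 0) ∧ τ (σ 1) = pb (τ 1) ∧ Perm.sign τ = 1 ∧ τ * σ = pb * τ :=
  split four_dec0 four_dec1 four_dec2

theorem five_dec0 : ∀ σ : Perm (Fin 6), (σ 0 = 0 ∨ σ 0 = 1) → σ ^ 5 = 1 → ¬ σ = 1 → ∃ τ : Perm (Fin 6),
    (τ (σ 0) = pu (τ 0) ∧ τ (σ 1) = pu (τ 1) ∧ Perm.sign τ = 1 ∧ τ * σ = pu * τ) ∨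
    (τ (σ 0) = (pu ^ 2) (τ 0) ∧ τ (σ 1) = (pu ^ 2) (τ 1) ∧ Perm.sign τ = 1 ∧ τ * σ = pu ^ 2 * τ) := by
  decide +kernel

theorem five_dec1 : ∀ σ : Perm (Fin 6), (σ 0 = 2 ∨ σ 0 = 3) → σ ^ 5 = 1 → ¬ σ = 1 → ∃ τ : Perm (Fin 6),
    (τ (σ 0) = pu (τ 0) ∧ τ (σ 1) = pu (τ 1) ∧ Perm.sign τ = 1 ∧ τ * σ = pu * τ) ∨
    (τ (σ 0) = (pu ^ 2) (τ 0) ∧ τ (σ 1) = (pu ^ 2) (τ 1) ∧ Perm.sign τ = 1 ∧ τ * σ = pu ^ 2 * τ) := by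
  decide +kernel

theorem five_dec2 : ∀ σ : Perm (Fin 6), (σ 0 = 4 ∨ σ 0 = 5) → σ ^ 5 = 1 → ¬ σ = 1 → ∃ τ : Perm (Fin 6),
    (τ (σ 0) = pu (τ 0) ∧ τ (σ 1) = pu (τ 1) ∧ Perm.sign τ = 1 ∧ τ * σ = pu * τ) ∨
    (τ (σ 0) = (pu ^ 2) (τ 0) ∧ τ (σ 1) = (pu ^ 2) (τ 1) ∧ Perm.sign τ = 1 ∧ τ * σ = pu ^ 2 * τ) := by
  decide +kernel

theorem five_dec : ∀ σ : Perm (Fin 6), σ ^ 5 = 1 → ¬ σ = 1 → ∃ τ : Perm (Fin 6),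
    (τ (σ 0) = pu (τ 0) ∧ τ (σ 1) = pu (τ 1) ∧ Perm.sign τ = 1 ∧ τ * σ = pu * τ) ∨
    (τ (σ 0) = (pu ^ 2) (τ 0) ∧ τ (σ 1) = (pu ^ 2) (τ 1) ∧ Perm.sign τ = 1 ∧ τ * σ = pu ^ 2 * τ) :=
  split five_dec0 five_dec1 five_dec2

theorem three_dec0 : ∀ σ : Perm (Fin 6), (σ 0 = 0 ∨ σ 0 = 1) → σ ^ 3 = 1 → ¬ σ = 1 → ∃ τ : Perm (Fin 6),
    (τ (σ 0) = px (τ 0) ∧ τ (σ 1) = px (τ 1) ∧ Perm.sign τ = 1 ∧ τ * σ = px * τ) ∨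
    (τ (σ 0) = pw (τ 0) ∧ τ (σ 1) = pw (τ 1) ∧ Perm.sign τ = 1 ∧ τ * σ = pw * τ) := by
  decide +kernel

theorem three_dec1 : ∀ σ : Perm (Fin 6), (σ 0 = 2 ∨ σ 0 = 3) → σ ^ 3 = 1 → ¬ σ = 1 → ∃ τ : Perm (Fin 6),
    (τ (σ 0) = px (τ 0) ∧ τ (σ 1) = px (τ 1) ∧ Perm.sign τ = 1 ∧ τ * σ = px * τ) ∨
    (τ (σ 0) = pw (τ 0) ∧ τ (σ 1) = pw (τ 1) ∧ Perm.sign τ = 1 ∧ τ * σ = pw * τ) := by
  decide +kernel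

theorem three_dec2 : ∀ σ : Perm (Fin 6), (σ 0 = 4 ∨ σ 0 = 5) → σ ^ 3 = 1 → ¬ σ = 1 → ∃ τ : Perm (Fin 6),
    (τ (σ 0) = px (τ 0) ∧ τ (σ 1) = px (τ 1) ∧ Perm.sign τ = 1 ∧ τ * σ = px * τ) ∨
    (τ (σ 0) = pw (τ 0) ∧ τ (σ 1) = pw (τ 1) ∧ Perm.sign τ = 1 ∧ τ * σ = pw * τ) := by
  decide +kernel

theorem three_dec : ∀ σ : Perm (Fin 6), σ ^ 3 = 1 → ¬ σ = 1 → ∃ τ : Perm (Fin 6),
    (τ (σ 0) = px (τ 0) ∧ τ (σ 1) = px (τ 1) ∧ Perm.sign τ = 1 ∧ τ * σ = px * τ) ∨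
    (τ (σ 0) = pw (τ 0) ∧ τ (σ 1) = pw (τ 1) ∧ Perm.sign τ = 1 ∧ τ * σ = pw * τ) :=
  split three_dec0 three_dec1 three_dec2

theorem card_two : (Finset.univ.filter fun σ : Perm (Fin 6) => (σ ^ 2 = 1 ∧ ¬ σ = 1) ∧ Perm.sign σ = 1).card = 45 := by
  decide +kernel

theorem card_four : (Finset.univ.filter fun σ : Perm (Fin 6) => (σ ^ 4 = 1 ∧ ¬ σ ^ 2 = 1) ∧ Perm.sign σ = 1).card =
    90 := by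
  decide +kernel

theorem card_five : (Finset.univ.filter fun σ : Perm (Fin 6) => (σ ^ 5 = 1 ∧ ¬ σ = 1) ∧ Perm.sign σ = 1).card =
    144 := by
  decide +kernel

end Cfsg.Agent.H956.K1.Dec
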