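import Cfsg.Agent.H956.K1.Model
import Cfsg.Agent.H173.PresSix
import Cfsg.Prelude.Def_GeometricClasses

/-!
# `A₆` in `PGL₃(E)` (helper956)

* `a6_hom` : homomorphisms from `A₆` by the presentation of helper173;
* `Par` : the parameters `φ`, `ω`; `Par.gA`, `Par.gB`, `Par.gX` : the matrices in `GL₃(E)`;
* `Par.exists_theta` : `A₆ → GL₃(E) / scalars`.
-/

set_option autoImplicit false
set_option maxRecDepth 20000

namespace Cfsg.Agent.H956.K1

open Matrix Cfsg Cfsg.Geo Cfsg.Agent.H173.Pres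

theorem lift_pair {X : Type*} [Group X] (x s : X) :
    FreeGroup.lift ![x, s] (A : FreeGroup (Fin 2)) = x ∧ FreeGroup.lift ![x, s] (B : FreeGroup (Fin 2)) = s := by
  constructor <;> simp [A, B]

/-- **Homomorphisms from `A₆`.** -/
theorem a6_hom {X : Type*} [Group X] (x s : X) (h3 : x ^ 3 = 1) (h4 : s ^ 4 = 1) (h5 : (s * x) ^ 5 = 1)
    (h6 : (x * (s⁻¹ * x⁻¹ * s)) ^ 2 = 1) (h7 : (x * ((s ^ 2)⁻¹ * x * s ^ 2)) ^ 2 = 1) :
    ∃ θ : alternatingGroup (Fin 6) →* X, θ za6 = x ∧ θ zs6 = s := by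
  classical
  let N : Subgroup (FreeGroup (Fin 2)) := Subgroup.normalClosure {r | r ∈ relA6}
  have hsurj : Function.Surjective (FreeGroup.lift ![za6, zs6]) := by
    rw [← MonoidHom.range_eq_top, FreeGroup.range_lift_eq_closure, range_pair]
    exact closure_alt za6 zs6 (Equiv.swap 2 3 * Equiv.swap 3 4 * Equiv.swap 4 5) (Equiv.swap 0 1) 0 1 2 rfl rfl
      (by decide) (by decide) (by decide) (by decide) (by decide) (by decide) (Or.inr rfl)
  have hL : ∀ r ∈ relA6, FreeGroup.lift ![za6, zs6] r = 1 := by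
    simp only [relA6, List.mem_cons, List.not_mem_nil, or_false, forall_eq_or_imp, forall_eq, map_mul, map_pow, map_inv,
      FreeGroup.lift_apply_of, A, B]
    decide
  have hle : N ≤ (FreeGroup.lift ![za6, zs6]).ker := Subgroup.normalClosure_le_normal fun r hr => hL r hr
  have hx : ∀ r ∈ relA6, FreeGroup.lift ![x, s] r = 1 := by
    simp only [relA6, List.mem_cons, List.not_mem_nil, or_false, forall_eq_or_imp, forall_eq, map_mul, map_pow, map_inv,
      (lift_pair x s).1, (lift_pair x s).2]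
    exact ⟨h3, h4, h5, h6, h7⟩
  have hle' : N ≤ (FreeGroup.lift ![x, s]).ker := Subgroup.normalClosure_le_normal fun r hr => hx r hr
  let y : Fin 2 → FreeGroup (Fin 2) ⧸ N := fun i => QuotientGroup.mk' _ (FreeGroup.of i)
  have hy : FreeGroup.lift y = QuotientGroup.mk' N := by
    ext i; simp [y]
  obtain ⟨h1, h2⟩ := relA6_bound y (by
      rw [← FreeGroup.range_lift_eq_closure, hy, MonoidHom.range_eq_top]
      exact QuotientGroup.mk'_surjective _)
    (fun r hr => by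
      rw [hy]
      exact (QuotientGroup.eq_one_iff r).2 (Subgroup.subset_normalClosure hr))
  let e := QuotientGroup.lift N (FreeGroup.lift ![za6, zs6]) hle
  have he : Function.Surjective e := by
    intro z
    obtain ⟨w, hw⟩ := hsurj z
    exact ⟨QuotientGroup.mk' _ w, hw⟩
  have hc : Nat.card (alternatingGroup (Fin 6)) = 360 := by
    have := card_alt_fin 6 (by norm_num)
    have h6 : Nat.factorial 6 = 720 := rfl
    omega
  have hbij : Function.Bijective e :=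
    (Nat.bijective_iff_surjective_and_card e).2 ⟨he, le_antisymm (h2.trans hc.ge) (Nat.card_le_card_of_surjective e he)⟩
  let e' : FreeGroup (Fin 2) ⧸ N ≃* alternatingGroup (Fin 6) := MulEquiv.ofBijective e hbij
  have key : ∀ w, e'.symm (FreeGroup.lift ![za6, zs6] w) = QuotientGroup.mk w := by
    intro w
    rw [MulEquiv.symm_apply_eq]
    rfl
  refine ⟨(QuotientGroup.lift N (FreeGroup.lift ![x, s]) hle').comp e'.symm.toMonoidHom, ?_, ?_⟩
  · have := key (A : FreeGroup (Fin 2))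
    rw [(lift_pair _ _).1] at this
    show QuotientGroup.lift N (FreeGroup.lift ![x, s]) hle' (e'.symm za6) = x
    rw [this]
    exact (lift_pair x s).1
  · have := key (B : FreeGroup (Fin 2))
    rw [(lift_pair _ _).2] at this
    show QuotientGroup.lift N (FreeGroup.lift ![x, s]) hle' (e'.symm zs6) = s
    rw [this]
    exact (lift_pair x s).2

/-- the parameters -/
structure Par (E : Type*) [Field E] where
  /-- `φ² = φ + 1` -/
  φ : E
  /-- `ω² = -ω - 1` -/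
  ω : E
  hφ : φ * φ = φ + 1
  hω : ω * ω = -ω - 1
  h3 : (3 : E) ≠ 0

namespace Par

variable {E : Type*} [Field E] (p : Par E)

/-- the other root -/
def swap : Par E where
  φ := 1 - p.φ
  ω := p.ω
  hφ := by linear_combination p.hφ
  hω := p.hω
  h3 := p.h3

theorem ω_cube : p.ω ^ 3 = 1 := by linear_combination (p.ω - 1) * p.hω

theorem ω_ne_one : p.ω ≠ 1 := by
  intro h
  apply p.h3
  have := p.hω
  rw [h] at this
  linear_combination this

theorem ω_ne_zero : p.ω ≠ 0 := by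
  intro h
  have := p.ω_cube
  rw [h] at this
  norm_num at this

/-- evaluation -/
def m (X : M) : Matrix (Fin 3) (Fin 3) E := ev p.φ p.ω X

theorem m_mm (X Y : M) : p.m (mm X Y) = p.m X * p.m Y := ev_mm p.hφ p.hω X Y

theorem m_I : p.m mI = 1 := by
  ext i j
  fin_cases i <;> fin_cases j <;> simp [m, ev, mI, Q.ev]

theorem m_c1 : p.m c1 = p.ω • (1 : Matrix (Fin 3) (Fin 3) E) := by
  ext i j
  fin_cases i <;> fin_cases j <;> simp [m, ev, c1, Q.ev]

theorem m_c2 : p.m c2 = (p.ω * p.ω) • (1 : Matrix (Fin 3) (Fin 3) E) := by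
  rw [p.hω]
  ext i j
  fin_cases i <;> fin_cases j <;> simp [m, ev, c2, Q.ev] <;> ring

/-- the involution -/
def gA : GL (Fin 3) E where
  val := p.m mA
  inv := p.m mA
  val_inv := by rw [← m_mm, mul_mA_mA, m_I]
  inv_val := by rw [← m_mm, mul_mA_mA, m_I]

/-- the element of order four -/
def gB : GL (Fin 3) E where
  val := p.m mB
  inv := p.m mB3
  val_inv := by rw [← m_mm, mul_mB_mB3, m_I]
  inv_val := by rw [← m_mm, mul_mB3_mB, m_I]

/-- the element of order three -/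
def gX : GL (Fin 3) E where
  val := p.m mX
  inv := p.m mX2
  val_inv := by rw [← m_mm, mul_mX_mX2, m_I]
  inv_val := by rw [← m_mm, mul_mX2_mX, m_I]

theorem val_gA : (p.gA : Matrix (Fin 3) (Fin 3) E) = p.m mA := rfl
theorem val_gB : (p.gB : Matrix (Fin 3) (Fin 3) E) = p.m mB := rfl
theorem val_gX : (p.gX : Matrix (Fin 3) (Fin 3) E) = p.m mX := rfl
theorem val_gB_inv : ((p.gB⁻¹ : GL (Fin 3) E) : Matrix (Fin 3) (Fin 3) E) = p.m mB3 := rfl
theorem val_gX_inv : ((p.gX⁻¹ : GL (Fin 3) E) : Matrix (Fin 3) (Fin 3) E) = p.m mX2 := rfl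

theorem gA_sq : p.gA ^ 2 = 1 := by
  apply Units.ext
  rw [pow_two, Units.val_mul, val_gA, ← m_mm, mul_mA_mA, m_I, Units.val_one]

theorem val_gB_sq : ((p.gB ^ 2 : GL (Fin 3) E) : Matrix (Fin 3) (Fin 3) E) = p.m mB2 := by
  rw [pow_two, Units.val_mul, val_gB, ← m_mm, mul_mB_mB]

theorem gB_four : p.gB ^ 4 = 1 := by
  apply Units.ext
  rw [show 4 = 2 + 2 from rfl, pow_add, Units.val_mul, val_gB_sq, ← m_mm, mul_mB2_mB2, m_I, Units.val_one]

theorem val_gB_sq_inv : (((p.gB ^ 2)⁻¹ : GL (Fin 3) E) : Matrix (Fin 3) (Fin 3) E) = p.m mB2 := by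
  have : (p.gB ^ 2)⁻¹ = p.gB ^ 2 := by
    rw [inv_eq_iff_mul_eq_one, ← pow_add]
    exact p.gB_four
  rw [this, val_gB_sq]

theorem gX_cube : p.gX ^ 3 = 1 := by
  apply Units.ext
  rw [pow_succ, pow_two, Units.val_mul, Units.val_mul, val_gX, ← m_mm, mul_mX_mX, ← m_mm, mul_mX2_mX, m_I,
    Units.val_one]

theorem gX_eq : p.gX = p.gB * p.gA * p.gB⁻¹ * p.gA * p.gB ^ 2 * p.gA := by
  apply Units.ext
  simp only [Units.val_mul, val_gX, val_gB, val_gA, val_gB_sq, val_gB_inv, ← m_mm]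
  rw [mul_mB_mA, mul_wa1_mB3, mul_wa2_mA, mul_wa3_mB2, mul_wa4_mA]

theorem pow_five {R : Type*} [Monoid R] (x : R) : x ^ 5 = (x * x) * (x * x) * x := by
  simp only [pow_succ, pow_zero, one_mul, mul_assoc]

theorem rel_five : (((p.gB * p.gX) ^ 5 : GL (Fin 3) E) : Matrix (Fin 3) (Fin 3) E) = (p.ω * p.ω) • 1 := by
  rw [pow_five]
  simp only [Units.val_mul, val_gX, val_gB, ← m_mm]
  rw [mul_mB_mX, mul_bx_bx, mul_bxx_bxx, mul_bxy_bx, m_c2]

theorem rel_six : (((p.gX * (p.gB⁻¹ * p.gX⁻¹ * p.gB)) ^ 2 : GL (Fin 3) E) : Matrix (Fin 3) (Fin 3) E) =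
    (p.ω * p.ω) • 1 := by
  rw [pow_two]
  simp only [Units.val_mul, val_gX, val_gB, val_gB_inv, val_gX_inv, ← m_mm]
  rw [mul_mB3_mX2, mul_r1_mB, mul_mX_r2, mul_r3_r3, m_c2]

theorem rel_seven : (((p.gX * ((p.gB ^ 2)⁻¹ * p.gX * p.gB ^ 2)) ^ 2 : GL (Fin 3) E) : Matrix (Fin 3) (Fin 3) E) =
    p.ω • 1 := by
  rw [pow_two]
  simp only [Units.val_mul, val_gX, val_gB_sq, val_gB_sq_inv, ← m_mm]
  rw [mul_mB2_mX, mul_q1_mB2, mul_mX_q2, mul_q3_q3, m_c1]

theorem m_wb7 : p.m wb7 = p.ω • p.m mA := by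
  ext i j
  have h := p.hω
  fin_cases i <;> fin_cases j <;> simp [m, ev, wb7, mA, Q.ev] <;> grind

/-- the involution as a word in `gX`, `gB` -/
theorem word_two : ((p.gX * p.gB * p.gX * p.gB⁻¹ * p.gX * p.gB⁻¹ * p.gX * p.gB : GL (Fin 3) E) :
    Matrix (Fin 3) (Fin 3) E) = p.ω • (p.gA : Matrix (Fin 3) (Fin 3) E) := by
  simp only [Units.val_mul, val_gX, val_gB, val_gB_inv, ← m_mm]
  rw [mul_mX_mB, mul_wb1_mX, mul_wb2_mB3, mul_wb3_mX, mul_wb4_mB3, mul_wb5_mX, mul_wb6_mB, m_wb7, val_gA]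

/-- `(ab²)⁵ = 1` -/
theorem u_five : (p.gA * p.gB ^ 2) ^ 5 = 1 := by
  apply Units.ext
  rw [pow_five]
  simp only [Units.val_mul, val_gA, val_gB_sq, ← m_mm]
  rw [mul_mA_mB2, mul_mU_mU, mul_mU2_mU2, mul_mU4_mU, m_I, Units.val_one]

/-- `(ab)⁵ = ω²` -/
theorem d_five : (((p.gA * p.gB) ^ 5 : GL (Fin 3) E) : Matrix (Fin 3) (Fin 3) E) = (p.ω * p.ω) • 1 := by
  rw [pow_five]
  simp only [Units.val_mul, val_gA, val_gB, ← m_mm]
  rw [mul_mA_mB, mul_mD_mD, mul_mD2_mD2, mul_mD4_mD, m_c2]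

/-- the second element of order three -/
def gC : GL (Fin 3) E := p.gX * p.gB * p.gX * p.gB⁻¹ * p.gX * p.gB

theorem val_gC : (p.gC : Matrix (Fin 3) (Fin 3) E) = p.m wc5 := by
  unfold gC
  simp only [Units.val_mul, val_gX, val_gB, val_gB_inv, ← m_mm]
  rw [mul_mX_mB, mul_wb1_mX, mul_wb2_mB3, mul_wb3_mX, mul_wb4_mB]

theorem comm_XC : ((p.gX * p.gC : GL (Fin 3) E) : Matrix (Fin 3) (Fin 3) E) =
    (p.ω * p.ω) • ((p.gC * p.gX : GL (Fin 3) E) : Matrix (Fin 3) (Fin 3) E) := by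
  rw [Units.val_mul, Units.val_mul, val_gC, val_gX, ← m_mm, ← m_mm, mul_mX_wc5, mul_wc5_mX]
  ext i j
  have h := p.hω
  have h' := p.hφ
  simp only [Matrix.smul_apply, smul_eq_mul, h]
  fin_cases i <;> fin_cases j <;> simp [m, ev, xc, cx, Q.ev] <;> grind

theorem tr_A : (p.gA : Matrix (Fin 3) (Fin 3) E).trace = -1 := by
  rw [val_gA, Matrix.trace_fin_three]
  simp [m, ev, mA, Q.ev]

theorem tr_B : (p.gB : Matrix (Fin 3) (Fin 3) E).trace = 1 := by
  rw [val_gB, Matrix.trace_fin_three]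
  simp [m, ev, mB, Q.ev]

theorem tr_u : ((p.gA * p.gB ^ 2 : GL (Fin 3) E) : Matrix (Fin 3) (Fin 3) E).trace = 1 - p.φ := by
  rw [Units.val_mul, val_gA, val_gB_sq, ← m_mm, mul_mA_mB2, Matrix.trace_fin_three]
  simp [m, ev, mU, Q.ev]
  ring

theorem tr_u2 : (((p.gA * p.gB ^ 2) ^ 2 : GL (Fin 3) E) : Matrix (Fin 3) (Fin 3) E).trace = p.φ := by
  rw [pow_two]
  simp only [Units.val_mul, val_gA, val_gB_sq, ← m_mm]
  rw [mul_mA_mB2, mul_mU_mU, Matrix.trace_fin_three]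
  simp [m, ev, mU2, Q.ev]

theorem det_A : (p.gA : Matrix (Fin 3) (Fin 3) E).det = 1 := by
  rw [val_gA, Matrix.det_fin_three]
  simp [m, ev, mA, Q.ev]

theorem det_B : (p.gB : Matrix (Fin 3) (Fin 3) E).det = 1 := by
  rw [val_gB, Matrix.det_fin_three]
  simp [m, ev, mB, Q.ev]

end Par

end Cfsg.Agent.H956.K1
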