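import Cfsg.Agent.H920.NineDefs

/-!
# Kronecker products of two 3-dimensional matrices: units, the swap (helper956)
-/

set_option autoImplicit false

namespace Cfsg.Agent.H956.K1

open Matrix Cfsg Cfsg.Geo Cfsg.Agent.H920.Nine
open scoped Kronecker

variable {E : Type*} [Field E]

/-- the tensor product of two invertible matrices -/
def kr (X Y : GL (Fin 3) E) : GL (Fin 9) E where
  val := kron9 X Y
  inv := kron9 (X⁻¹ : GL (Fin 3) E) (Y⁻¹ : GL (Fin 3) E)
  val_inv := by rw [← kron9_mul, Units.mul_inv, Units.mul_inv, kron9_one]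
  inv_val := by rw [← kron9_mul, Units.inv_mul, Units.inv_mul, kron9_one]

theorem val_kr (X Y : GL (Fin 3) E) : (kr X Y : Matrix (Fin 9) (Fin 9) E) = kron9 X Y := rfl

theorem kr_mul (X Y X' Y' : GL (Fin 3) E) : kr (X * X') (Y * Y') = kr X Y * kr X' Y' := by
  apply Units.ext
  rw [Units.val_mul, val_kr, val_kr, val_kr, Units.val_mul, Units.val_mul, kron9_mul]

theorem kr_one : kr (1 : GL (Fin 3) E) 1 = 1 := by
  apply Units.ext
  rw [val_kr, Units.val_one, Units.val_one, kron9_one]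

theorem kr_inv (X Y : GL (Fin 3) E) : (kr X Y)⁻¹ = kr X⁻¹ Y⁻¹ := rfl

theorem tr_kr (X Y : GL (Fin 3) E) : (kr X Y : Matrix (Fin 9) (Fin 9) E).trace =
    (X : Matrix (Fin 3) (Fin 3) E).trace * (Y : Matrix (Fin 3) (Fin 3) E).trace := trace_kron9 _ _

theorem det_kron9 (X Y : Matrix (Fin 3) (Fin 3) E) : (kron9 X Y).det = X.det ^ 3 * Y.det ^ 3 := by
  unfold kron9
  rw [Matrix.det_reindex_self, Matrix.det_kronecker, Fintype.card_fin]

theorem det_kr {X Y : GL (Fin 3) E} (hX : (X : Matrix (Fin 3) (Fin 3) E).det = 1)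
    (hY : (Y : Matrix (Fin 3) (Fin 3) E).det = 1) : (kr X Y : Matrix (Fin 9) (Fin 9) E).det = 1 := by
  rw [val_kr, det_kron9, hX, hY, one_pow, one_mul]

theorem kron9_smul_left (c : E) (X Y : Matrix (Fin 3) (Fin 3) E) : kron9 (c • X) Y = c • kron9 X Y := by
  unfold kron9
  rw [Matrix.smul_kronecker]
  rfl

theorem kron9_smul_right (c : E) (X Y : Matrix (Fin 3) (Fin 3) E) : kron9 X (c • Y) = c • kron9 X Y := by
  unfold kron9
  rw [Matrix.kronecker_smul]
  rfl

theorem exists_entry {X : Matrix (Fin 3) (Fin 3) E} (hX : X ≠ 0) : ∃ i j, X i j ≠ 0 := by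
  by_contra h
  push Not at h
  exact hX (Matrix.ext h)

theorem kron9_eq {X Y X' Y' : Matrix (Fin 3) (Fin 3) E} (hX : X ≠ 0) (hY : Y ≠ 0)
    (h : kron9 X Y = kron9 X' Y') : ∃ c : E, c ≠ 0 ∧ X' = c • X ∧ Y = c • Y' := by
  have h1 : ∀ i k j l, X i k * Y j l = X' i k * Y' j l := by
    intro i k j l
    rw [← kron9_apply, h, kron9_apply]
  obtain ⟨i, k, hik⟩ := exists_entry hX
  obtain ⟨j, l, hjl⟩ := exists_entry hY
  have h2 := h1 i k j l
  have h3 : X' i k * Y' j l ≠ 0 := by rw [← h2]; exact mul_ne_zero hik hjl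
  have h4 : X' i k ≠ 0 := left_ne_zero_of_mul h3
  have h5 : Y' j l ≠ 0 := right_ne_zero_of_mul h3
  have hYY : Y = (X' i k / X i k) • Y' := by
    ext a b
    rw [Matrix.smul_apply, smul_eq_mul]
    have h6 := h1 i k a b
    field_simp
    linear_combination h6
  refine ⟨X' i k / X i k, div_ne_zero h4 hik, ?_, hYY⟩
  ext a b
  rw [Matrix.smul_apply, smul_eq_mul]
  have h6 := h1 a b j l
  rw [hYY, Matrix.smul_apply, smul_eq_mul] at h6
  apply mul_right_cancel₀ h5
  rw [← h6]
  ring

theorem val_ne_zero {n : Type*} [Fintype n] [DecidableEq n] [Nonempty n] (X : GL n E) : (X : Matrix n n E) ≠ 0 :=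
  X.ne_zero

theorem kr_eq {X Y X' Y' : GL (Fin 3) E} (h : kr X Y = kr X' Y') :
    ∃ c : E, c ≠ 0 ∧ (X' : Matrix (Fin 3) (Fin 3) E) = c • (X : Matrix (Fin 3) (Fin 3) E) ∧
      (Y : Matrix (Fin 3) (Fin 3) E) = c • (Y' : Matrix (Fin 3) (Fin 3) E) :=
  kron9_eq (val_ne_zero X) (val_ne_zero Y) (congrArg Units.val h)

/-- the swap of the two factors -/
def swp : Equiv.Perm (Fin 9) :=
  (finProdFinEquiv (m := 3) (n := 3)).symm.trans ((Equiv.prodComm (Fin 3) (Fin 3)).trans finProdFinEquiv)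

theorem swp_apply (i j : Fin 3) : swp (finProdFinEquiv (i, j) : Fin (3 * 3)) = (finProdFinEquiv (j, i) : Fin (3 * 3)) := by
  unfold swp
  rw [Equiv.trans_apply, Equiv.symm_apply_apply]
  rfl

theorem swp_symm : swp.symm = swp := by decide

theorem swp_swp (i : Fin 9) : swp (swp i) = i := by
  revert i
  decide

/-- the swap matrix -/
def swm : Matrix (Fin 9) (Fin 9) E := (1 : Matrix (Fin 9) (Fin 9) E).submatrix swp id

theorem swm_mul (M : Matrix (Fin 9) (Fin 9) E) : swm * M = M.submatrix swp id := by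
  unfold swm
  ext i j
  rw [Matrix.mul_apply, Finset.sum_eq_single (swp i)]
  · rw [Matrix.submatrix_apply, Matrix.submatrix_apply, id, Matrix.one_apply_eq, one_mul]
    rfl
  · intro b _ hb
    rw [Matrix.submatrix_apply, id, Matrix.one_apply_ne (Ne.symm hb), zero_mul]
  · intro h; exact absurd (Finset.mem_univ _) h

theorem mul_swm (M : Matrix (Fin 9) (Fin 9) E) : M * swm = M.submatrix id swp := by
  unfold swm
  ext i j
  rw [Matrix.mul_apply, Finset.sum_eq_single (swp j)]
  · rw [Matrix.submatrix_apply, Matrix.submatrix_apply, id, swp_swp, id, Matrix.one_apply_eq, mul_one]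
  · intro b _ hb
    rw [Matrix.submatrix_apply, id, Matrix.one_apply_ne, mul_zero]
    intro h
    apply hb
    rw [← h, swp_swp]
  · intro h; exact absurd (Finset.mem_univ _) h

theorem swm_swm : (swm : Matrix (Fin 9) (Fin 9) E) * swm = 1 := by
  rw [swm_mul]
  unfold swm
  ext i j
  rw [Matrix.submatrix_apply, Matrix.submatrix_apply, swp_swp]
  rfl

/-- the swap as an invertible matrix -/
def sw : GL (Fin 9) E where
  val := swm
  inv := swm
  val_inv := swm_swm
  inv_val := swm_swm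

theorem sw_mul_sw : (sw : GL (Fin 9) E) * sw = 1 := Units.ext swm_swm

theorem sw_inv : (sw : GL (Fin 9) E)⁻¹ = sw := rfl

theorem val_sw : ((sw : GL (Fin 9) E) : Matrix (Fin 9) (Fin 9) E) = swm := rfl

theorem forall_nine {q : Fin 9 → Prop} (h : ∀ i j : Fin 3, q (finProdFinEquiv (i, j) : Fin (3 * 3))) (a : Fin 9) : q a := by
  have := h ((finProdFinEquiv (m := 3) (n := 3)).symm a).1 ((finProdFinEquiv (m := 3) (n := 3)).symm a).2
  rwa [Prod.mk.eta, Equiv.apply_symm_apply] at this

omit [Field E] in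
theorem ext_nine {M N : Matrix (Fin 9) (Fin 9) E} (h : ∀ i j k l : Fin 3, M (finProdFinEquiv (i, j) : Fin (3 * 3))
    (finProdFinEquiv (k, l) : Fin (3 * 3)) = N (finProdFinEquiv (i, j) : Fin (3 * 3)) (finProdFinEquiv (k, l) : Fin (3 * 3))) :
    M = N := by
  ext a b
  revert b
  revert a
  apply forall_nine
  intro i j
  apply forall_nine
  intro k l
  exact h i j k l

theorem swm_kron9 (X Y : Matrix (Fin 3) (Fin 3) E) : swm * kron9 X Y = kron9 Y X * swm := by
  rw [swm_mul, mul_swm]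
  apply ext_nine
  intro i j k l
  rw [Matrix.submatrix_apply, Matrix.submatrix_apply, swp_apply, swp_apply, id, id, kron9_apply, kron9_apply, mul_comm]

theorem sw_kr (X Y : GL (Fin 3) E) : sw * kr X Y = kr Y X * sw := Units.ext (swm_kron9 _ _)

theorem sw_kr_sw (X Y : GL (Fin 3) E) : sw * kr X Y * sw = kr Y X := by
  rw [sw_kr, mul_assoc, sw_mul_sw, mul_one]

theorem sw_not_scalar (c : E) : (swm : Matrix (Fin 9) (Fin 9) E) ≠ c • 1 := by
  intro h
  have h1 := congrFun (congrFun h 1) (swp 1)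
  have h2 : (1 : Fin 9) ≠ swp 1 := by decide
  rw [Matrix.smul_apply, Matrix.one_apply_ne h2, smul_zero] at h1
  unfold swm at h1
  rw [Matrix.submatrix_apply, id, Matrix.one_apply_eq] at h1
  exact one_ne_zero h1

theorem kron9_map {K : Type*} [Field K] (f : E →+* K) (X Y : Matrix (Fin 3) (Fin 3) E) :
    (kron9 X Y).map f = kron9 (X.map f) (Y.map f) := by
  apply ext_nine
  intro i j k l
  rw [Matrix.map_apply, kron9_apply, kron9_apply, Matrix.map_apply, Matrix.map_apply, map_mul]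

theorem kron9_transpose (X Y : Matrix (Fin 3) (Fin 3) E) : (kron9 X Y)ᵀ = kron9 Xᵀ Yᵀ := by
  apply ext_nine
  intro i j k l
  rw [Matrix.transpose_apply, kron9_apply, kron9_apply, Matrix.transpose_apply, Matrix.transpose_apply]

theorem swm_map {K : Type*} [Field K] (f : E →+* K) : (swm : Matrix (Fin 9) (Fin 9) E).map f = swm := by
  unfold swm
  ext i j
  rw [Matrix.map_apply, Matrix.submatrix_apply, Matrix.submatrix_apply, Matrix.one_apply, Matrix.one_apply]
  split_ifs
  · exact map_one f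
  · exact map_zero f

theorem swm_transpose : (swm : Matrix (Fin 9) (Fin 9) E)ᵀ = swm := by
  unfold swm
  ext i j
  rw [Matrix.transpose_apply, Matrix.submatrix_apply, Matrix.submatrix_apply, Matrix.one_apply, Matrix.one_apply]
  apply if_congr _ rfl rfl
  constructor
  · intro h
    rw [id] at h ⊢
    rw [← h, swp_swp]
  · intro h
    rw [id] at h ⊢
    rw [← h, swp_swp]

end Cfsg.Agent.H956.K1
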