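import Cfsg.Agent.H906.MatCoef

/-!
# Separating representations by the group algebra (helper956)

`V : G → M_κ(E)` spans the matrix algebra.

* `Sp V R` : some `x` in the group algebra has `R x = 0`, `V x ≠ 0`;
* `sp_of_lt` : `card ι < card κ`; `conj_or_sp` : equal sizes;
* `conj_of_trace3`, `false_of_trace` : relations between traces;
* `Sp.hom_zero`, `Sp.orth` : no intertwiners, orthogonality (`G` finite, every characteristic);
* `norm_eq` : `∑ tr V g · tr V g⁻¹ = |G|` if `card κ ≠ 0` in `E`.
-/

set_option autoImplicit false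

namespace Cfsg.Agent.H956.Sep

open Matrix Module Cfsg.Agent.H906

variable {G : Type*} [Group G] {E : Type*} [Field E]
variable {κ ι : Type} [Fintype κ] [DecidableEq κ] [Fintype ι] [DecidableEq ι]

/-- the group algebra separates `V` from `R` -/
def Sp (V : G →* Matrix κ κ E) (R : G →* Matrix ι ι E) : Prop :=
  ∃ x : MonoidAlgebra E G, algExt R x = 0 ∧ algExt V x ≠ 0

section dims

variable {V : G →* Matrix κ κ E} {R : G →* Matrix ι ι E}

theorem le_of_not_sp (hV : Submodule.span E (Set.range V) = ⊤) (h : ¬ Sp V R) :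
    Fintype.card κ * Fintype.card κ ≤ finrank E (LinearMap.range (algExt R).toLinearMap) := by
  have hk : LinearMap.ker (algExt R).toLinearMap ≤ LinearMap.ker (algExt V).toLinearMap := by
    intro x hx
    by_contra hne
    exact h ⟨x, hx, hne⟩
  let f := (LinearMap.ker (algExt R).toLinearMap).liftQ (algExt V).toLinearMap hk
  have hf : Function.Surjective f := by
    intro Y
    obtain ⟨y, hy⟩ := algExt_surjective hV Y
    exact ⟨Submodule.Quotient.mk y, hy⟩
  let e := (algExt R).toLinearMap.quotKerEquivRange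
  have hfin : Module.Finite E (MonoidAlgebra E G ⧸ LinearMap.ker (algExt R).toLinearMap) :=
    Module.Finite.equiv e.symm
  have h1 := LinearMap.finrank_le_finrank_of_surjective hf
  rw [e.finrank_eq, Module.finrank_matrix, Module.finrank_self, mul_one] at h1
  exact h1

theorem finrank_range_le : finrank E (LinearMap.range (algExt R).toLinearMap) ≤ Fintype.card ι * Fintype.card ι := by
  have := Submodule.finrank_le (LinearMap.range (algExt R).toLinearMap)
  rwa [Module.finrank_matrix, Module.finrank_self, mul_one] at this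

theorem sp_of_lt (hV : Submodule.span E (Set.range V) = ⊤) (h : Fintype.card ι < Fintype.card κ) : Sp V R := by
  by_contra hs
  have h1 := (le_of_not_sp hV hs).trans finrank_range_le
  have h2 := Nat.mul_self_lt_mul_self h
  omega

end dims

/-- equal sizes: conjugate or separated -/
theorem conj_or_sp {V R : G →* Matrix κ κ E} (hV : Submodule.span E (Set.range V) = ⊤) :
    (∃ B : GL κ E, ∀ g, V g = (B : Matrix κ κ E) * R g * ((B⁻¹ : GL κ E) : Matrix κ κ E)) ∨ Sp V R := by
  by_cases hs : Sp V R
  · exact Or.inr hs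
  left
  have h1 := le_of_not_sp hV hs
  have h2 := finrank_range_le (R := R)
  have htop : LinearMap.range (algExt R).toLinearMap = ⊤ := by
    apply Submodule.eq_top_of_finrank_eq
    rw [Module.finrank_matrix, Module.finrank_self, mul_one]
    exact le_antisymm h2 h1
  have hsurj : Function.Surjective (algExt R) := LinearMap.range_eq_top.1 htop
  have hk : LinearMap.ker (algExt R).toLinearMap ≤ LinearMap.ker (algExt V).toLinearMap := by
    intro x hx
    by_contra hne
    exact hs ⟨x, hx, hne⟩
  let f := (LinearMap.ker (algExt R).toLinearMap).liftQ (algExt V).toLinearMap hk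
  have hf : Function.Surjective f := by
    intro Y
    obtain ⟨y, hy⟩ := algExt_surjective hV Y
    exact ⟨Submodule.Quotient.mk y, hy⟩
  let e := (algExt R).toLinearMap.quotKerEquivRange
  have hfin : Module.Finite E (MonoidAlgebra E G ⧸ LinearMap.ker (algExt R).toLinearMap) :=
    Module.Finite.equiv e.symm
  have heq : finrank E (MonoidAlgebra E G ⧸ LinearMap.ker (algExt R).toLinearMap) = finrank E (Matrix κ κ E) := by
    rw [e.finrank_eq, htop, finrank_top]
  have hinj : Function.Injective f := (LinearMap.injective_iff_surjective_of_finrank_eq_finrank heq).2 hf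
  obtain ⟨B, hB⟩ := exists_conj_of_ker (algExt R) (algExt V) hsurj (algExt_surjective hV) (by
    intro x
    constructor
    · intro hx
      exact hk hx
    · intro hx
      have h3 : f (Submodule.Quotient.mk x) = f 0 := by
        rw [map_zero]
        exact hx
      have h4 := hinj h3
      rw [Submodule.Quotient.mk_eq_zero] at h4
      exact h4)
  refine ⟨B, fun g => ?_⟩
  have := hB (MonoidAlgebra.of E G g)
  rwa [algExt_of, algExt_of] at this

theorem exists_mul_ne {X Y : Matrix κ κ E} (hX : X ≠ 0) (hY : Y ≠ 0) : ∃ Z, X * Z * Y ≠ 0 := by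
  obtain ⟨i, j, hij⟩ : ∃ i j, X i j ≠ 0 := by
    by_contra hcon
    push Not at hcon
    exact hX (Matrix.ext hcon)
  obtain ⟨k, l, hkl⟩ : ∃ k l, Y k l ≠ 0 := by
    by_contra hcon
    push Not at hcon
    exact hY (Matrix.ext hcon)
  refine ⟨Matrix.single j k 1, fun h => mul_ne_zero hij hkl ?_⟩
  have h1 := congrFun (congrFun h i) l
  have h2 : Matrix.single i i (1 : E) * (X * Matrix.single j k 1 * Y) * Matrix.single l l 1 =
      (X i j * Y k l) • Matrix.single i l 1 := by
    have e1 : Matrix.single i i (1 : E) * (X * Matrix.single j k 1 * Y) * Matrix.single l l 1 =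
        (Matrix.single i i 1 * X * Matrix.single j k 1) * (Y * Matrix.single l l 1) := by
      simp only [mul_assoc]
    have e2 : (Matrix.single i k (X i j)) = Matrix.single i k (X i j) * Matrix.single k k (1 : E) := by
      rw [Matrix.single_mul_single_same, mul_one]
    rw [e1, Matrix.single_mul_mul_single, one_mul, mul_one, e2, mul_assoc, ← mul_assoc (Matrix.single k k (1 : E)),
      Matrix.single_mul_mul_single, one_mul, mul_one, Matrix.single_mul_single_same, Matrix.smul_single, smul_eq_mul,
      mul_one]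
  rw [h, mul_zero, zero_mul] at h2
  have h3 := congrFun (congrFun h2 i) l
  simpa using h3.symm

/-- the product of separating elements -/
theorem sp_mul {V : G →* Matrix κ κ E} (hV : Submodule.span E (Set.range V) = ⊤) {x y : MonoidAlgebra E G}
    (hx : algExt V x ≠ 0) (hy : algExt V y ≠ 0) : ∃ w, algExt V (x * w * y) ≠ 0 := by
  obtain ⟨Z, hZ⟩ := exists_mul_ne hx hy
  obtain ⟨w, rfl⟩ := algExt_surjective hV Z
  exact ⟨w, by rwa [map_mul, map_mul]⟩

theorem trace_linear {V : G →* Matrix κ κ E} {f : MonoidAlgebra E G →ₗ[E] E}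
    (h : ∀ g, (V g).trace = f (MonoidAlgebra.of E G g)) (x : MonoidAlgebra E G) : (algExt V x).trace = f x := by
  induction x using MonoidAlgebra.induction_on with
  | of g => rw [algExt_of, h]
  | add x y hx hy => rw [map_add, map_add, Matrix.trace_add, hx, hy]
  | smul c x hx => rw [map_smul, map_smul, Matrix.trace_smul, hx]

/-- the trace functional -/
noncomputable def trf (R : G →* Matrix ι ι E) : MonoidAlgebra E G →ₗ[E] E :=
  (Matrix.traceLinearMap ι E E).comp (algExt R).toLinearMap

theorem trf_of (R : G →* Matrix ι ι E) (g : G) : trf R (MonoidAlgebra.of E G g) = (R g).trace := by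
  show (algExt R (MonoidAlgebra.of E G g)).trace = _
  rw [algExt_of]

theorem trf_apply (R : G →* Matrix ι ι E) (x : MonoidAlgebra E G) : trf R x = (algExt R x).trace := rfl

theorem false_of_vanish {V : G →* Matrix κ κ E} (hV : Submodule.span E (Set.range V) = ⊤) {x : MonoidAlgebra E G}
    (hx : algExt V x ≠ 0) (h : ∀ w, (algExt V (x * w)).trace = 0) : False := by
  apply hx
  apply eq_zero_of_trace_mul hV
  rintro _ ⟨g, rfl⟩
  rw [← algExt_of, ← map_mul]
  exact h _

/-- **A relation with three traces.** -/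
theorem conj_of_trace3 {V R₁ : G →* Matrix κ κ E} {R₂ R₃ : G →* Matrix ι ι E}
    (hV : Submodule.span E (Set.range V) = ⊤) (hlt : Fintype.card ι < Fintype.card κ) {c₁ c₂ c₃ : E}
    (h : ∀ g, (V g).trace = c₁ * (R₁ g).trace + c₂ * (R₂ g).trace + c₃ * (R₃ g).trace) :
    ∃ B : GL κ E, ∀ g, V g = (B : Matrix κ κ E) * R₁ g * ((B⁻¹ : GL κ E) : Matrix κ κ E) := by
  rcases conj_or_sp (R := R₁) hV with h1 | ⟨x₁, hx₁, hx₁'⟩
  · exact h1
  exfalso
  obtain ⟨x₂, hx₂, hx₂'⟩ := sp_of_lt (R := R₂) hV hlt
  obtain ⟨x₃, hx₃, hx₃'⟩ := sp_of_lt (R := R₃) hV hlt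
  obtain ⟨w, hw⟩ := sp_mul hV hx₁' hx₂'
  obtain ⟨w', hw'⟩ := sp_mul hV hw hx₃'
  apply false_of_vanish hV hw'
  intro u
  have key := trace_linear (V := V) (f := c₁ • trf R₁ + c₂ • trf R₂ + c₃ • trf R₃) (by
    intro g
    rw [h]
    simp only [LinearMap.add_apply, LinearMap.smul_apply, trf_of, smul_eq_mul])
  rw [key]
  simp only [LinearMap.add_apply, LinearMap.smul_apply, trf_apply, map_mul, hx₁, hx₂, hx₃, mul_zero, zero_mul,
    Matrix.trace_zero, smul_zero, add_zero]

/-- **The trace is not a multiple of the trace of a smaller representation.** -/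
theorem false_of_trace {V : G →* Matrix κ κ E} {R : G →* Matrix ι ι E}
    (hV : Submodule.span E (Set.range V) = ⊤) (hlt : Fintype.card ι < Fintype.card κ) {c : E}
    (h : ∀ g, (V g).trace = c * (R g).trace) : False := by
  obtain ⟨x, hx, hx'⟩ := sp_of_lt (R := R) hV hlt
  apply false_of_vanish hV hx'
  intro u
  have key := trace_linear (V := V) (f := c • trf R) (by
    intro g
    rw [h]
    simp only [LinearMap.smul_apply, trf_of, smul_eq_mul])
  rw [key]
  simp only [LinearMap.smul_apply, trf_apply, map_mul, hx, zero_mul, Matrix.trace_zero, smul_zero]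

section orth

variable {V : G →* Matrix κ κ E} {R : G →* Matrix ι ι E}

theorem intertwine {X : Matrix κ ι E} (hX : ∀ g, V g * X = X * R g) (x : MonoidAlgebra E G) :
    algExt V x * X = X * algExt R x := by
  induction x using MonoidAlgebra.induction_on with
  | of g => rw [algExt_of, algExt_of, hX]
  | add x y hx hy => rw [map_add, map_add, Matrix.add_mul, Matrix.mul_add, hx, hy]
  | smul c x hx => rw [map_smul, map_smul, Matrix.smul_mul, Matrix.mul_smul, hx]

/-- **No intertwiners.** -/
theorem Sp.hom_zero (hV : Submodule.span E (Set.range V) = ⊤) (h : Sp V R) {X : Matrix κ ι E}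
    (hX : ∀ g, V g * X = X * R g) : X = 0 := by
  obtain ⟨x, hx, hx'⟩ := h
  by_contra hne
  obtain ⟨i, j, hij⟩ : ∃ i j, X i j ≠ 0 := by
    by_contra hcon
    push Not at hcon
    exact hne (Matrix.ext hcon)
  obtain ⟨k, l, hkl⟩ : ∃ k l, algExt V x k l ≠ 0 := by
    by_contra hcon
    push Not at hcon
    exact hx' (Matrix.ext hcon)
  obtain ⟨w, hw⟩ := algExt_surjective hV (Matrix.single l i 1)
  have h1 := intertwine hX (x * w)
  rw [map_mul, map_mul, hx, zero_mul, Matrix.mul_zero, hw] at h1
  have h2 := congrFun (congrFun h1 k) j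
  rw [Matrix.mul_apply, Finset.sum_eq_single i] at h2
  · rw [Matrix.mul_single_apply_same, mul_one] at h2
    exact mul_ne_zero hkl hij h2
  · intro b _ hb
    rw [Matrix.mul_single_apply_of_ne _ _ _ _ _ hb, zero_mul]
  · intro h; exact absurd (Finset.mem_univ _) h

variable [Fintype G]

/-- the averaged matrix -/
theorem avg_intertwine (V : G →* Matrix κ κ E) (R : G →* Matrix ι ι E) (M : Matrix κ ι E) (h : G) :
    V h * (∑ g, V g * M * R g⁻¹) = (∑ g, V g * M * R g⁻¹) * R h := by
  rw [Matrix.mul_sum, Matrix.sum_mul]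
  rw [← Equiv.sum_comp (Equiv.mulLeft h) (fun g => V g * M * R g⁻¹ * R h)]
  apply Finset.sum_congr rfl
  intro g _
  rw [Equiv.coe_mulLeft, map_mul, _root_.mul_inv_rev, map_mul]
  have : R h⁻¹ * R h = 1 := by rw [← map_mul, inv_mul_cancel, map_one]
  simp only [Matrix.mul_assoc, this, Matrix.mul_one]

theorem avg_apply (V : G →* Matrix κ κ E) (R : G →* Matrix ι ι E) (i a : κ) (j b : ι) :
    (∑ g, V g * Matrix.single i j (1 : E) * R g⁻¹) a b = ∑ g, V g a i * R g⁻¹ j b := by
  rw [Matrix.sum_apply]
  apply Finset.sum_congr rfl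
  intro g _
  rw [Matrix.mul_apply, Finset.sum_eq_single j]
  · rw [Matrix.mul_single_apply_same, mul_one]
  · intro c _ hc
    rw [Matrix.mul_single_apply_of_ne _ _ _ _ _ hc, zero_mul]
  · intro h; exact absurd (Finset.mem_univ _) h

/-- **Orthogonality.** -/
theorem Sp.orth (hV : Submodule.span E (Set.range V) = ⊤) (h : Sp V R) :
    ∑ g, (V g).trace * (R g⁻¹).trace = 0 := by
  have h1 : ∀ i j, ∑ g, V g i i * R g⁻¹ j j = 0 := by
    intro i j
    rw [← avg_apply, h.hom_zero hV (avg_intertwine V R (Matrix.single i j 1))]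
    rfl
  have h2 : ∀ g, (V g).trace * (R g⁻¹).trace = ∑ i, ∑ j, V g i i * R g⁻¹ j j := by
    intro g
    rw [Matrix.trace, Matrix.trace, Finset.sum_mul_sum]
    rfl
  simp only [h2]
  rw [Finset.sum_comm]
  apply Finset.sum_eq_zero
  intro i _
  rw [Finset.sum_comm]
  exact Finset.sum_eq_zero fun j _ => h1 i j

theorem scalar_of_comm (hV : Submodule.span E (Set.range V) = ⊤) [Nonempty κ] {X : Matrix κ κ E}
    (h : ∀ g, V g * X = X * V g) : ∃ c : E, X = c • 1 := by
  have h1 : ∀ Y : Matrix κ κ E, Y * X = X * Y := by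
    intro Y
    obtain ⟨y, rfl⟩ := algExt_surjective hV Y
    exact intertwine h y
  have h2 : X ∈ Set.range (Matrix.scalar κ : E → Matrix κ κ E) := by
    rw [Matrix.mem_range_scalar_iff_commute_single]
    intro i j _
    exact (h1 _)
  obtain ⟨c, hc⟩ := h2
  exact ⟨c, by rw [← hc, Matrix.scalar_apply, Matrix.smul_one_eq_diagonal]⟩

/-- **The norm.** -/
theorem norm_eq (hV : Submodule.span E (Set.range V) = ⊤) [Nonempty κ] (h0 : (Fintype.card κ : E) ≠ 0) :
    ∑ g, (V g).trace * (V g⁻¹).trace = (Fintype.card G : E) := by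
  have h1 : ∀ i j, ∃ c : E, (∑ g, V g * Matrix.single i j (1 : E) * V g⁻¹) = c • 1 := fun i j =>
    scalar_of_comm hV (avg_intertwine V V (Matrix.single i j 1))
  choose c hc using h1
  have h2 : ∀ i j, c i j * Fintype.card κ = if i = j then (Fintype.card G : E) else 0 := by
    intro i j
    have h3 := congrArg Matrix.trace (hc i j)
    rw [Matrix.trace_smul, Matrix.trace_one, smul_eq_mul, Matrix.trace_sum] at h3
    rw [← h3]
    have h4 : ∀ g, (V g * Matrix.single i j (1 : E) * V g⁻¹).trace = if i = j then 1 else 0 := by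
      intro g
      rw [Matrix.trace_mul_cycle, ← map_mul, inv_mul_cancel, map_one, one_mul]
      split_ifs with h
      · rw [h, Matrix.trace_single_eq_same]
      · rw [Matrix.trace_single_eq_of_ne _ _ _ h]
    simp only [h4]
    rw [Finset.sum_const, Finset.card_univ]
    split_ifs
    · rw [nsmul_eq_mul, mul_one]
    · rw [smul_zero]
  have h3 : ∀ i j, ∑ g, V g i i * V g⁻¹ j j = if i = j then c i i else 0 := by
    intro i j
    rw [← avg_apply, hc, Matrix.smul_apply, Matrix.one_apply]
    split_ifs with h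
    · rw [smul_eq_mul, mul_one, h]
    · rw [smul_zero]
  have h4 : ∀ g, (V g).trace * (V g⁻¹).trace = ∑ i, ∑ j, V g i i * V g⁻¹ j j := by
    intro g
    rw [Matrix.trace, Matrix.trace, Finset.sum_mul_sum]
    rfl
  simp only [h4]
  rw [Finset.sum_comm]
  have h5 : ∑ i, ∑ g, ∑ j, V g i i * V g⁻¹ j j = ∑ i, c i i := by
    apply Finset.sum_congr rfl
    intro i _
    rw [Finset.sum_comm]
    simp only [h3]
    rw [Finset.sum_ite_eq Finset.univ i]
    simp
  rw [h5]
  apply mul_right_cancel₀ h0
  rw [Finset.sum_mul]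
  have h6 : ∀ i, c i i * Fintype.card κ = (Fintype.card G : E) := by
    intro i
    rw [h2, if_pos rfl]
  simp only [h6]
  rw [Finset.sum_const, Finset.card_univ, nsmul_eq_mul, mul_comm]

end orth

end Cfsg.Agent.H956.Sep
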