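import Cfsg.Agent.H956.K1.Rep3b
import Cfsg.Agent.H956.K1.Classes
import Cfsg.Agent.H956.K1.Sep
import Cfsg.Agent.H956.K1.Kron

/-!
# The nine-dimensional representations of `3.A₆` (helper956)

`Cov.iso` : `V : P → GL₉(E)` spanning, `V z = ω` ⟹ `V ≅ A ⊗ B`.
-/

set_option autoImplicit false
set_option maxRecDepth 20000

namespace Cfsg.Agent.H956.K1

open Matrix Cfsg Cfsg.Geo Cfsg.Agent.H173.Pres Cfsg.Agent.H920.Nine Cfsg.Agent.H956.Sep

section basic

variable {P : Type*} [Group P] {E : Type*} [Field E] {n : Type*} [Fintype n] [DecidableEq n]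

/-- the matrices of a representation -/
def mo (R : P →* GL n E) : P →* Matrix n n E := (Units.coeHom (Matrix n n E)).comp R

theorem mo_apply (R : P →* GL n E) (g : P) : mo R g = (R g : Matrix n n E) := rfl

/-- the dual representation -/
def du (R : P →* GL n E) : P →* GL n E where
  toFun g :=
    { val := (R g⁻¹ : Matrix n n E)ᵀ
      inv := (R g : Matrix n n E)ᵀ
      val_inv := by
        rw [← Matrix.transpose_mul, ← Units.val_mul, ← map_mul, mul_inv_cancel, map_one, Units.val_one,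
          Matrix.transpose_one]
      inv_val := by
        rw [← Matrix.transpose_mul, ← Units.val_mul, ← map_mul, inv_mul_cancel, map_one, Units.val_one,
          Matrix.transpose_one] }
  map_one' := by
    apply Units.ext
    show (R 1⁻¹ : Matrix n n E)ᵀ = 1
    rw [inv_one, map_one, Units.val_one, Matrix.transpose_one]
  map_mul' g h := by
    apply Units.ext
    show (R (g * h)⁻¹ : Matrix n n E)ᵀ = (R g⁻¹ : Matrix n n E)ᵀ * (R h⁻¹ : Matrix n n E)ᵀ
    rw [_root_.mul_inv_rev, map_mul, Units.val_mul, Matrix.transpose_mul]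

theorem tr_du (R : P →* GL n E) (g : P) : (du R g : Matrix n n E).trace = (R g⁻¹ : Matrix n n E).trace :=
  Matrix.trace_transpose _

/-- the tensor product -/
def tens (A B : P →* GL (Fin 3) E) : P →* GL (Fin 9) E where
  toFun g := kr (A g) (B g)
  map_one' := by rw [map_one, map_one, kr_one]
  map_mul' g h := by rw [map_mul, map_mul, kr_mul]

theorem tens_apply (A B : P →* GL (Fin 3) E) (g : P) : tens A B g = kr (A g) (B g) := rfl

theorem tr_conj' (R : P →* GL n E) (g t : P) : (R (t * g * t⁻¹) : Matrix n n E).trace = (R g : Matrix n n E).trace := by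
  rw [map_mul, map_mul, Units.val_mul, Units.val_mul, Matrix.trace_mul_cycle, ← Units.val_mul, ← map_mul,
    inv_mul_cancel, map_one, Units.val_one, one_mul]

theorem tr_one (R : P →* GL n E) : (R 1 : Matrix n n E).trace = Fintype.card n := by
  rw [map_one, Units.val_one, Matrix.trace_one]

theorem trace_of_nilp {M : Matrix n n E} {k : ℕ} (h : (M - 1) ^ k = 0) : M.trace = Fintype.card n := by
  have h1 : IsNilpotent (M - 1).trace := Matrix.isNilpotent_trace_of_isNilpotent ⟨k, h⟩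
  have h2 := h1.eq_zero
  rw [Matrix.trace_sub, Matrix.trace_one] at h2
  exact sub_eq_zero.1 h2

end basic

namespace Cov

variable {P : Type*} [Group P] {C : Cov P} {E : Type*} [Field E]

section tr

variable {n : Type*} [Fintype n] [DecidableEq n] {R : P →* GL n E} {c : E}

theorem tr_z (hz : (R C.z : Matrix n n E) = c • 1) (g : P) :
    (R (C.z * g) : Matrix n n E).trace = c * (R g : Matrix n n E).trace := by
  rw [map_mul, Units.val_mul, hz, Matrix.smul_mul, one_mul, Matrix.trace_smul, smul_eq_mul]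

/-- elements of order three have trace zero -/
theorem tr_x [Finite P] (hz : (R C.z : Matrix n n E) = c • 1) (hc : c ≠ 1) : (R C.x : Matrix n n E).trace = 0 := by
  have h1 : C.c⁻¹ * C.x * C.c⁻¹⁻¹ = C.z * C.x := by
    rw [inv_inv, mul_assoc, C.rel, ← mul_assoc C.z, ← C.z_comm C.c]
    group
  have h2 := tr_conj' R C.x C.c⁻¹
  rw [h1, tr_z hz] at h2
  have h3 : (c - 1) * (R C.x : Matrix n n E).trace = 0 := by linear_combination h2
  exact (mul_eq_zero.1 h3).resolve_left (sub_ne_zero.2 hc)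

theorem tr_xc [Finite P] (hz : (R C.z : Matrix n n E) = c • 1) (hc : c ≠ 1) :
    (R (C.x * C.c) : Matrix n n E).trace = 0 := by
  have h1 : C.c⁻¹ * (C.x * C.c) * C.c⁻¹⁻¹ = C.z * (C.x * C.c) := by
    rw [inv_inv]
    nth_rewrite 1 [C.rel]
    rw [← mul_assoc C.z, ← C.z_comm C.c]
    have := C.z_comm C.x
    calc C.c⁻¹ * (C.c * C.z * C.x) * C.c = C.z * C.x * C.c := by group
      _ = C.z * (C.x * C.c) := by group
  have h2 := tr_conj' R (C.x * C.c) C.c⁻¹
  rw [h1, tr_z hz] at h2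
  have h3 : (c - 1) * (R (C.x * C.c) : Matrix n n E).trace = 0 := by linear_combination h2
  exact (mul_eq_zero.1 h3).resolve_left (sub_ne_zero.2 hc)

variable (R) in
theorem tr_inv_of_conj {g t : P} (h : t * g = g⁻¹ * t) : (R g⁻¹ : Matrix n n E).trace = (R g : Matrix n n E).trace :=
  (trace_conj_GL R h).symm

variable (C R) in
theorem tr_a_inv : (R C.a⁻¹ : Matrix n n E).trace = (R C.a : Matrix n n E).trace := by
  have h10 : C.a⁻¹ = C.a := by
    rw [inv_eq_iff_mul_eq_one, ← pow_two, C.a2]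
  rw [h10]

variable (C R) in
theorem tr_b_inv : (R C.b⁻¹ : Matrix n n E).trace = (R C.b : Matrix n n E).trace := by
  obtain ⟨t, ht⟩ := C.b_conj
  exact tr_inv_of_conj R ht

variable (C R) in
theorem tr_u_inv [Finite P] : (R C.u⁻¹ : Matrix n n E).trace = (R C.u : Matrix n n E).trace := by
  obtain ⟨t, ht⟩ := C.u_conj
  exact tr_inv_of_conj R ht

variable (C R) in
theorem tr_u2_inv [Finite P] : (R (C.u ^ 2)⁻¹ : Matrix n n E).trace = (R (C.u ^ 2) : Matrix n n E).trace := by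
  obtain ⟨t, ht⟩ := C.u_conj
  apply tr_inv_of_conj R (t := t)
  rw [pow_two, ← mul_assoc, ht, mul_assoc, ht]
  group

end tr

section three

variable [Finite P] {p : Par E} {A : P →* GL (Fin 3) E} (ha : A C.a = p.gA) (hb : A C.b = p.gB)

include ha hb

omit ha hb [Finite P] in
theorem t1 : (A 1 : Matrix (Fin 3) (Fin 3) E).trace = 3 := by
  rw [tr_one, Fintype.card_fin]
  norm_num

omit [Finite P] hb in
theorem t2 : (A C.a : Matrix (Fin 3) (Fin 3) E).trace = -1 := by rw [ha, Par.tr_A]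

omit [Finite P] ha in
theorem t4 : (A C.b : Matrix (Fin 3) (Fin 3) E).trace = 1 := by rw [hb, Par.tr_B]

omit [Finite P] in
theorem t5 : (A C.u : Matrix (Fin 3) (Fin 3) E).trace = 1 - p.φ := by rw [rep_u ha hb, Par.tr_u]

omit [Finite P] in
theorem t55 : (A (C.u ^ 2) : Matrix (Fin 3) (Fin 3) E).trace = p.φ := by rw [map_pow, rep_u ha hb, Par.tr_u2]

end three

section iso

variable {p : Par E} {A B : P →* GL (Fin 3) E} {V : P →* GL (Fin 9) E}

theorem tr_z_inv {n : Type*} [Fintype n] [DecidableEq n] {R : P →* GL n E} {c d : E}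
    (hz : (R C.z : Matrix n n E) = c • 1) (hcd : c * d = 1) (g : P) :
    (R (C.z * g)⁻¹ : Matrix n n E).trace = d * (R g⁻¹ : Matrix n n E).trace := by
  have hzi : (R C.z⁻¹ : Matrix n n E) = d • 1 := by
    have h8 : (R C.z : Matrix n n E) * (R C.z⁻¹ : Matrix n n E) = 1 := by
      rw [← Units.val_mul, ← map_mul, mul_inv_cancel, map_one, Units.val_one]
    rw [hz, Matrix.smul_mul, one_mul] at h8
    have h9 := congrArg (fun M => d • M) h8
    simp only [smul_smul] at h9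
    rw [mul_comm, hcd, one_smul] at h9
    exact h9
  rw [_root_.mul_inv_rev, map_mul, Units.val_mul, hzi, Matrix.mul_smul, mul_one, Matrix.trace_smul, smul_eq_mul]

/-- orthogonality for two representations with inverse central characters -/
theorem orth_eq [Fintype P] {n : Type} [Fintype n] [DecidableEq n] {R : P →* GL n E}
    (hV : Submodule.span E (Set.range (mo V)) = ⊤) (hz : (V C.z : Matrix (Fin 9) (Fin 9) E) = p.ω • 1)
    (hR : ∀ g, (R (C.z * g)⁻¹ : Matrix n n E).trace = p.ω ^ 2 * (R g⁻¹ : Matrix n n E).trace)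
    (h : Sp (mo V) (mo R)) :
    2 * (9 * (Fintype.card n : E)) + 90 * ((V C.a : Matrix (Fin 9) (Fin 9) E).trace * (R C.a : Matrix n n E).trace) +
      180 * ((V C.b : Matrix (Fin 9) (Fin 9) E).trace * (R C.b : Matrix n n E).trace) +
      144 * ((V C.u : Matrix (Fin 9) (Fin 9) E).trace * (R C.u : Matrix n n E).trace +
        (V (C.u ^ 2) : Matrix (Fin 9) (Fin 9) E).trace * (R (C.u ^ 2) : Matrix n n E).trace) = 0 := by
  have h1 := h.orth hV
  have h2 := C.sum_eq (fun g => (V g : Matrix (Fin 9) (Fin 9) E).trace * (R g⁻¹ : Matrix n n E).trace) (by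
      intro g t
      rw [tr_conj', show (t * g * t⁻¹)⁻¹ = t * g⁻¹ * t⁻¹ by group, tr_conj']) (by
      intro g
      rw [tr_z hz, hR]
      linear_combination ((V g : Matrix (Fin 9) (Fin 9) E).trace * (R g⁻¹ : Matrix n n E).trace) * p.ω_cube) (by
      rw [tr_x hz p.ω_ne_one, zero_mul]) (by
      rw [tr_xc hz p.ω_ne_one, zero_mul])
  have h3 : ∑ g, (V g : Matrix (Fin 9) (Fin 9) E).trace * (R g⁻¹ : Matrix n n E).trace = 0 := h1
  rw [h3, mul_zero, inv_one, tr_one, tr_one, tr_a_inv, tr_b_inv, tr_u_inv, tr_u2_inv, Fintype.card_fin] at h2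
  have h4 := (mul_eq_zero.1 h2.symm).resolve_left p.h3
  push_cast at h4
  exact h4

/-- the norm of the character -/
theorem norm_eq' [Fintype P] (hV : Submodule.span E (Set.range (mo V)) = ⊤)
    (hz : (V C.z : Matrix (Fin 9) (Fin 9) E) = p.ω • 1) :
    162 + 90 * ((V C.a : Matrix (Fin 9) (Fin 9) E).trace ^ 2) +
      180 * ((V C.b : Matrix (Fin 9) (Fin 9) E).trace ^ 2) +
      144 * ((V C.u : Matrix (Fin 9) (Fin 9) E).trace ^ 2 +
        (V (C.u ^ 2) : Matrix (Fin 9) (Fin 9) E).trace ^ 2) = 720 := by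
  have h9 : ((Fintype.card (Fin 9) : ℕ) : E) ≠ 0 := by
    rw [Fintype.card_fin]
    have : ((9 : ℕ) : E) = 3 * 3 := by norm_num
    rw [this]
    exact mul_ne_zero p.h3 p.h3
  have h1 := Sep.norm_eq hV h9
  have hω : p.ω * p.ω ^ 2 = 1 := by linear_combination p.ω_cube
  have h2 := C.sum_eq (fun g => (V g : Matrix (Fin 9) (Fin 9) E).trace * (V g⁻¹ : Matrix (Fin 9) (Fin 9) E).trace) (by
      intro g t
      rw [tr_conj', show (t * g * t⁻¹)⁻¹ = t * g⁻¹ * t⁻¹ by group, tr_conj']) (by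
      intro g
      rw [tr_z hz, tr_z_inv hz hω]
      linear_combination ((V g : Matrix (Fin 9) (Fin 9) E).trace * (V g⁻¹ : Matrix (Fin 9) (Fin 9) E).trace) *
        p.ω_cube) (by
      rw [tr_x hz p.ω_ne_one, zero_mul]) (by
      rw [tr_xc hz p.ω_ne_one, zero_mul])
  have h3 : ∑ g, (V g : Matrix (Fin 9) (Fin 9) E).trace * (V g⁻¹ : Matrix (Fin 9) (Fin 9) E).trace =
      (Fintype.card P : E) := h1
  have hP : Fintype.card P = 1080 := by
    rw [← Nat.card_eq_fintype_card]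
    have h4 := Subgroup.card_mul_index C.π.ker
    have h5 := Subgroup.index_ker C.π
    rw [MonoidHom.range_eq_top.2 C.surj, Subgroup.card_top, card_a6] at h5
    rw [C.card, h5] at h4
    omega
  rw [h3, hP, inv_one, tr_one, tr_a_inv, tr_b_inv, tr_u_inv, tr_u2_inv, Fintype.card_fin] at h2
  have h4 : (3 : E) * (162 + 90 * ((V C.a : Matrix (Fin 9) (Fin 9) E).trace ^ 2) +
      180 * ((V C.b : Matrix (Fin 9) (Fin 9) E).trace ^ 2) +
      144 * ((V C.u : Matrix (Fin 9) (Fin 9) E).trace ^ 2 +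
        (V (C.u ^ 2) : Matrix (Fin 9) (Fin 9) E).trace ^ 2) - 720) = 0 := by
    push_cast at h2
    linear_combination -h2
  exact sub_eq_zero.1 ((mul_eq_zero.1 h4).resolve_left p.h3)

theorem du_z {R : P →* GL (Fin 3) E} (hR : (R C.z : Matrix (Fin 3) (Fin 3) E) = (p.ω * p.ω) • 1) (g : P) :
    (du R (C.z * g)⁻¹ : Matrix (Fin 3) (Fin 3) E).trace = p.ω ^ 2 * (du R g⁻¹ : Matrix (Fin 3) (Fin 3) E).trace := by
  rw [tr_du, tr_du, inv_inv, inv_inv, tr_z hR, pow_two]

theorem tens_z {R S : P →* GL (Fin 3) E} (hR : (R C.z : Matrix (Fin 3) (Fin 3) E) = (p.ω * p.ω) • 1)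
    (hS : (S C.z : Matrix (Fin 3) (Fin 3) E) = (p.ω * p.ω) • 1) (g : P) :
    (tens R S (C.z * g)⁻¹ : Matrix (Fin 9) (Fin 9) E).trace =
      p.ω ^ 2 * (tens R S g⁻¹ : Matrix (Fin 9) (Fin 9) E).trace := by
  have hω : p.ω * p.ω * p.ω = 1 := by linear_combination p.ω_cube
  rw [tens_apply, tens_apply, tr_kr, tr_kr, tr_z_inv hR hω, tr_z_inv hS hω]
  ring

theorem du_zz {R : P →* GL (Fin 3) E} {c d : E} (hR : (R C.z : Matrix (Fin 3) (Fin 3) E) = c • 1) (hcd : c * d = 1) :
    (du R C.z : Matrix (Fin 3) (Fin 3) E) = d • 1 := by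
  have h1 : (du R C.z : Matrix (Fin 3) (Fin 3) E) * (R C.z : Matrix (Fin 3) (Fin 3) E)ᵀ = 1 := by
    show (R C.z⁻¹ : Matrix (Fin 3) (Fin 3) E)ᵀ * _ = 1
    rw [← Matrix.transpose_mul, ← Units.val_mul, ← map_mul, mul_inv_cancel, map_one, Units.val_one, Matrix.transpose_one]
  rw [hR, Matrix.transpose_smul, Matrix.transpose_one, Matrix.mul_smul, mul_one] at h1
  have h2 := congrArg (fun M => d • M) h1
  simp only [smul_smul] at h2
  rw [mul_comm d, hcd, one_smul] at h2
  exact h2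

theorem tr_du_x [Finite P] {R : P →* GL (Fin 3) E} {c d : E} (hR : (R C.z : Matrix (Fin 3) (Fin 3) E) = c • 1)
    (hcd : c * d = 1) (hd : d ≠ 1) : (R C.x⁻¹ : Matrix (Fin 3) (Fin 3) E).trace = 0 := by
  rw [← tr_du]
  exact tr_x (du_zz hR hcd) hd

theorem tr_du_xc [Finite P] {R : P →* GL (Fin 3) E} {c d : E} (hR : (R C.z : Matrix (Fin 3) (Fin 3) E) = c • 1)
    (hcd : c * d = 1) (hd : d ≠ 1) : (R (C.x * C.c)⁻¹ : Matrix (Fin 3) (Fin 3) E).trace = 0 := by
  rw [← tr_du]
  exact tr_xc (du_zz hR hcd) hd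

/-- the symmetric square is not absolutely irreducible -/
theorem not_sym [Fintype P] (hV : Submodule.span E (Set.range (mo V)) = ⊤) {X : GL (Fin 9) E}
    (h : ∀ g, V g = X * kr (A g) (A g) * X⁻¹) : False := by
  obtain ⟨c, hc⟩ := scalar_of_comm hV (X := ((X * sw * X⁻¹ : GL (Fin 9) E) : Matrix (Fin 9) (Fin 9) E)) (by
    intro g
    rw [mo_apply, ← Units.val_mul, ← Units.val_mul]
    congr 1
    rw [h g]
    calc X * kr (A g) (A g) * X⁻¹ * (X * sw * X⁻¹) = X * (kr (A g) (A g) * sw) * X⁻¹ := by group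
      _ = X * (sw * kr (A g) (A g)) * X⁻¹ := by rw [sw_kr]
      _ = X * sw * X⁻¹ * (X * kr (A g) (A g) * X⁻¹) := by group)
  apply sw_not_scalar c
  have h1 : (swm : Matrix (Fin 9) (Fin 9) E) = ((X⁻¹ : GL (Fin 9) E) : Matrix (Fin 9) (Fin 9) E) *
      ((X * sw * X⁻¹ : GL (Fin 9) E) : Matrix (Fin 9) (Fin 9) E) * (X : Matrix (Fin 9) (Fin 9) E) := by
    rw [← Units.val_mul, ← Units.val_mul, ← val_sw]
    congr 1
    group
  rw [h1, hc, Matrix.mul_smul, mul_one, Matrix.smul_mul, ← Units.val_mul, inv_mul_cancel, Units.val_one]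

/-- **The isomorphism type of `V`.** -/
theorem iso [Fintype P] (ha : A C.a = p.gA) (hb : A C.b = p.gB)
    (ha' : B C.a = p.swap.gA) (hb' : B C.b = p.swap.gB)
    (hV : Submodule.span E (Set.range (mo V)) = ⊤) (hz : (V C.z : Matrix (Fin 9) (Fin 9) E) = p.ω • 1)
    (h5 : (5 : E) = 0 → (V C.a : Matrix (Fin 9) (Fin 9) E).trace = -3 ∧
      (V C.b : Matrix (Fin 9) (Fin 9) E).trace = 3) :
    ∃ X : GL (Fin 9) E, ∀ g, V g = X * kr (A g) (B g) * X⁻¹ := by
  have hAz : (A C.z : Matrix (Fin 3) (Fin 3) E) = (p.ω * p.ω) • 1 := rep_z ha hb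
  have hBz : (B C.z : Matrix (Fin 3) (Fin 3) E) = (p.ω * p.ω) • 1 := rep_z (p := p.swap) ha' hb'
  have hww : p.ω * p.ω ≠ 1 := ww_ne p
  have hwww : p.ω * p.ω * p.ω = 1 := by linear_combination p.ω_cube
  have lift : ∀ R : P →* GL (Fin 9) E, (∃ Y : GL (Fin 9) E, ∀ g, mo V g = (Y : Matrix (Fin 9) (Fin 9) E) * mo R g *
      ((Y⁻¹ : GL (Fin 9) E) : Matrix (Fin 9) (Fin 9) E)) → ∃ Y : GL (Fin 9) E, ∀ g, V g = Y * R g * Y⁻¹ := by
    rintro R ⟨Y, hY⟩
    exact ⟨Y, fun g => Units.ext (hY g)⟩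
  obtain ⟨t, ht⟩ : ∃ t, t = (V C.a : Matrix (Fin 9) (Fin 9) E).trace := ⟨_, rfl⟩
  obtain ⟨r, hr⟩ : ∃ t, t = (V C.b : Matrix (Fin 9) (Fin 9) E).trace := ⟨_, rfl⟩
  obtain ⟨u₁, hu₁⟩ : ∃ t, t = (V C.u : Matrix (Fin 9) (Fin 9) E).trace := ⟨_, rfl⟩
  obtain ⟨u₂, hu₂⟩ : ∃ t, t = (V (C.u ^ 2) : Matrix (Fin 9) (Fin 9) E).trace := ⟨_, rfl⟩
  have hsw : p.swap.φ = 1 - p.φ := rfl
  by_cases h2 : (2 : E) = 0
  · -- characteristic two
    have hn9 : ((Fintype.card (Fin 9) : ℕ) : E) = 1 := by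
      rw [Fintype.card_fin]
      push_cast
      linear_combination 4 * h2
    have et : t = 1 := by
      rw [ht, ← hn9]
      apply trace_of_nilp (k := 2)
      have h3 : (V C.a : Matrix (Fin 9) (Fin 9) E) * (V C.a : Matrix (Fin 9) (Fin 9) E) = 1 := by
        rw [← Units.val_mul, ← map_mul, ← pow_two, C.a2, map_one, Units.val_one]
      rw [pow_two, sub_mul, mul_sub, mul_sub, h3, mul_one, one_mul, one_mul]
      ext i j
      have : ∀ x : E, x + x = 0 := fun x => by linear_combination x * h2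
      simp only [Matrix.sub_apply, Matrix.zero_apply]
      linear_combination ((1 : Matrix (Fin 9) (Fin 9) E) i j - (V C.a : Matrix (Fin 9) (Fin 9) E) i j) * h2
    have er : r = 1 := by
      rw [hr, ← hn9]
      apply trace_of_nilp (k := 4)
      obtain ⟨β, hβ⟩ : ∃ β, β = (V C.b : Matrix (Fin 9) (Fin 9) E) := ⟨_, rfl⟩
      have h3 : β * β * (β * β) = 1 := by
        rw [hβ, ← Units.val_mul, ← map_mul, ← Units.val_mul, ← map_mul]
        have : C.b * C.b * (C.b * C.b) = C.b ^ 4 := by rw [← pow_two, ← pow_two, ← pow_mul]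
        rw [this, C.b4, map_one, Units.val_one]
      rw [← hβ]
      have h4 : ∀ M : Matrix (Fin 9) (Fin 9) E, (M - 1) * (M - 1) = M * M - 1 := by
        intro M
        rw [sub_mul, mul_sub, mul_sub, mul_one, one_mul, one_mul]
        ext i j
        simp only [Matrix.sub_apply]
        linear_combination ((1 : Matrix (Fin 9) (Fin 9) E) i j - M i j) * h2
      rw [show 4 = 2 * 2 from rfl, pow_mul, pow_two (β - 1), h4, pow_two, h4, h3, sub_self]
    apply lift (tens A B)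
    obtain ⟨c₁, hc₁⟩ : ∃ c, c = 1 + u₁ + u₂ := ⟨_, rfl⟩
    obtain ⟨c₂, hc₂⟩ : ∃ c, c = u₁ + c₁ + p.φ * (u₁ + u₂) := ⟨_, rfl⟩
    obtain ⟨c₃, hc₃⟩ : ∃ c, c = u₁ + u₂ + c₂ := ⟨_, rfl⟩
    refine conj_of_trace3 (R₁ := mo (tens A B)) (R₂ := mo (du A)) (R₃ := mo (du B)) hV (by decide)
      (c₁ := c₁) (c₂ := c₂) (c₃ := c₃) ?_
    have key := C.eq_zero_of_reps (ζ := p.ω) (fun g => (V g : Matrix (Fin 9) (Fin 9) E).trace -
      (c₁ * (tens A B g : Matrix (Fin 9) (Fin 9) E).trace + c₂ * (du A g : Matrix (Fin 3) (Fin 3) E).trace +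
        c₃ * (du B g : Matrix (Fin 3) (Fin 3) E).trace)) ?_ ?_ ?_
    · intro g
      exact sub_eq_zero.1 (key g)
    · intro g s
      rw [tr_conj', tr_conj', tr_conj', tr_conj']
    · intro g
      rw [tr_z hz, tens_apply, tr_kr, tr_z hAz, tr_z hBz, tr_du, tr_du, tr_z_inv hAz hwww, tr_z_inv hBz hwww,
        tens_apply, tr_kr, tr_du, tr_du]
      linear_combination (-c₁ * (A g : Matrix (Fin 3) (Fin 3) E).trace * (B g : Matrix (Fin 3) (Fin 3) E).trace * p.ω) *
        hwww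
    · rintro g (rfl | rfl | rfl | rfl | rfl | rfl | rfl)
      · rw [tr_one, tr_one, tr_one, tr_one, hn9, Fintype.card_fin]
        push_cast
        grind
      · rw [← ht, et, tens_apply, tr_kr, tr_du, tr_du, tr_a_inv, tr_a_inv, t2 ha, t2 ha']
        grind
      · rw [← hr, er, tens_apply, tr_kr, tr_du, tr_du, tr_b_inv, tr_b_inv, t4 hb, t4 hb']
        grind
      · rw [← hu₁, tens_apply, tr_kr, tr_du, tr_du, tr_u_inv, tr_u_inv, t5 ha hb, t5 ha' hb', hsw]
        have := p.hφ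
        grind
      · rw [← hu₂, tens_apply, tr_kr, tr_du, tr_du, tr_u2_inv, tr_u2_inv, t55 ha hb, t55 ha' hb', hsw]
        have := p.hφ
        grind
      · rw [tr_x hz p.ω_ne_one, tens_apply, tr_kr, tr_x hAz hww, tr_du, tr_du, tr_du_x hAz hwww p.ω_ne_one,
          tr_du_x hBz hwww p.ω_ne_one]
        ring
      · rw [tr_xc hz p.ω_ne_one, tens_apply, tr_kr, tr_xc hAz hww, tr_du, tr_du, tr_du_xc hAz hwww p.ω_ne_one,
          tr_du_xc hBz hwww p.ω_ne_one]
        ring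
  by_cases h5' : (5 : E) = 0
  · -- characteristic five
    exfalso
    obtain ⟨et, er⟩ := h5 h5'
    have hch : CharP E 5 := by
      refine (CharP.charP_iff_prime_eq_zero (by norm_num)).2 ?_
      exact_mod_cast h5'
    have nilp : ∀ {n : Type} [Fintype n] [DecidableEq n] [Nonempty n] (R : P →* GL n E) (g : P), g ^ 5 = 1 →
        (R g : Matrix n n E).trace = Fintype.card n := by
      intro n _ _ _ R g hg
      apply trace_of_nilp (k := 5)
      have : Fact (Nat.Prime 5) := ⟨by norm_num⟩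
      rw [sub_pow_char_of_commute 5 (Commute.one_right _), one_pow, ← Units.val_pow_eq_pow_val, ← map_pow, hg, map_one,
        Units.val_one, sub_self]
    have hu5 := C.u_five
    have hu5' : (C.u ^ 2) ^ 5 = 1 := by rw [← pow_mul, mul_comm, pow_mul, hu5, one_pow]
    refine false_of_trace (R := mo (du A)) hV (by decide) (c := 3) ?_
    have key := C.eq_zero_of_reps (ζ := p.ω) (fun g => (V g : Matrix (Fin 9) (Fin 9) E).trace -
      3 * (du A g : Matrix (Fin 3) (Fin 3) E).trace) ?_ ?_ ?_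
    · intro g
      exact sub_eq_zero.1 (key g)
    · intro g s
      rw [tr_conj', tr_conj']
    · intro g
      rw [tr_z hz, tr_du, tr_du, tr_z_inv hAz hwww]
      ring
    · rintro g (rfl | rfl | rfl | rfl | rfl | rfl | rfl)
      · rw [tr_one, tr_one, Fintype.card_fin, Fintype.card_fin]
        push_cast
        norm_num
      · rw [et, tr_du, tr_a_inv, t2 ha]
        norm_num
      · rw [er, tr_du, tr_b_inv, t4 hb]
        norm_num
      · rw [nilp V _ hu5, nilp (du A) _ hu5, Fintype.card_fin, Fintype.card_fin]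
        norm_num
      · rw [nilp V _ hu5', nilp (du A) _ hu5', Fintype.card_fin, Fintype.card_fin]
        norm_num
      · rw [tr_x hz p.ω_ne_one, tr_du, tr_du_x hAz hwww p.ω_ne_one]
        ring
      · rw [tr_xc hz p.ω_ne_one, tr_du, tr_du_xc hAz hwww p.ω_ne_one]
        ring
  -- characteristic at least seven
  rcases conj_or_sp (V := mo V) (R := mo (tens A B)) hV with h | s3
  · exact lift (tens A B) h
  rcases conj_or_sp (V := mo V) (R := mo (tens A A)) hV with h | s4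
  · exfalso
    obtain ⟨X, hX⟩ := lift (tens A A) h
    exact not_sym (A := A) hV hX
  exfalso
  have s1 := sp_of_lt (V := mo V) (R := mo (du A)) hV (by decide)
  have s2 := sp_of_lt (V := mo V) (R := mo (du B)) hV (by decide)
  have O1 := orth_eq hV hz (du_z hAz) s1
  have O2 := orth_eq hV hz (du_z hBz) s2
  have O3 := orth_eq hV hz (tens_z hAz hBz) s3
  have O4 := orth_eq hV hz (tens_z hAz hAz) s4
  have O5 := norm_eq' hV hz
  simp only [tens_apply, tr_kr, tr_du, tr_a_inv, tr_b_inv, tr_u_inv, tr_u2_inv, t2 ha, t2 ha', t4 hb, t4 hb',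
    t5 ha hb, t5 ha' hb', t55 ha hb, t55 ha' hb', hsw, Fintype.card_fin, ← ht, ← hr, ← hu₁, ← hu₂] at O1 O2 O3 O4 O5
  push_cast at O1 O2 O3 O4 O5
  have hφ := p.hφ
  have h3 := p.h3
  have hu : u₁ = u₂ := by
    have : ((2 : E) ^ 4 * 3 ^ 2 * 5) * (u₁ - u₂) = 0 := by
      linear_combination (1 - 2 * p.φ) * (O1 - O2) - (576 * (u₁ - u₂)) * hφ
    have h6 : ((2 : E) ^ 4 * 3 ^ 2 * 5) ≠ 0 :=
      mul_ne_zero (mul_ne_zero (pow_ne_zero _ h2) (pow_ne_zero _ h3)) h5'
    exact sub_eq_zero.1 ((mul_eq_zero.1 this).resolve_left h6)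
  subst hu
  have hu0 : u₁ = 0 := by
    have : ((2 : E) ^ 4 * 3 ^ 2 * 5) * u₁ = 0 := by
      linear_combination O4 - O3 - (576 * u₁) * hφ
    have h6 : ((2 : E) ^ 4 * 3 ^ 2 * 5) ≠ 0 :=
      mul_ne_zero (mul_ne_zero (pow_ne_zero _ h2) (pow_ne_zero _ h3)) h5'
    exact (mul_eq_zero.1 this).resolve_left h6
  have hr5 : 5 * r = -3 := by
    have : ((2 : E) ^ 3 * 3 ^ 2) * (5 * r + 3) = 0 := by
      rw [hu0] at O1 O3
      linear_combination O1 + O3
    have h6 : ((2 : E) ^ 3 * 3 ^ 2) ≠ 0 := mul_ne_zero (pow_ne_zero _ h2) (pow_ne_zero _ h3)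
    linear_combination (mul_eq_zero.1 this).resolve_left h6
  have ht5 : 5 * t = -3 := by
    have : ((2 : E) ^ 2 * 3 ^ 2) * (5 * t + 3) = 0 := by
      rw [hu0] at O1 O3
      linear_combination O3 - O1
    have h6 : ((2 : E) ^ 2 * 3 ^ 2) ≠ 0 := mul_ne_zero (pow_ne_zero _ h2) (pow_ne_zero _ h3)
    linear_combination (mul_eq_zero.1 this).resolve_left h6
  have hfin : ((2 : E) ^ 8 * 3 ^ 2 * 5) = 0 := by
    rw [hu0] at O5
    linear_combination (-25) * O5 + 90 * (5 * t - 3) * ht5 + 180 * (5 * r - 3) * hr5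
  have h6 : ((2 : E) ^ 8 * 3 ^ 2 * 5) ≠ 0 :=
    mul_ne_zero (mul_ne_zero (pow_ne_zero _ h2) (pow_ne_zero _ h3)) h5'
  exact h6 hfin

end iso

end Cov

end Cfsg.Agent.H956.K1
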