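import Cfsg.Agent.H956.K1.Utd
import Cfsg.Agent.Classification.PSLThreeRecog
import Cfsg.Agent.ClassicalGeometry.PSL2Basic

/-!
# `3.A₆` in dimension nine: the abstract contradiction (helper956)

`kill` : `G = {g ∈ SL₉(E) : g° = g}` for an involutory automorphism `°` of `GL₉(E)` compatible with the tensor
decomposition, `P = 3.A₆` spanning normal in a maximal subgroup `H` of `G` ⟹ contradiction.
-/

set_option autoImplicit false
set_option maxRecDepth 20000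

namespace Cfsg.Agent.H956.K1

open Matrix Cfsg Cfsg.Geo Cfsg.Agent.H173.Pres Cfsg.Agent.H920.Nine Cfsg.Agent.H956.Sep

/-- an involutory automorphism compatible with the tensor decomposition -/
structure Circ (E : Type*) [Field E] where
  /-- the action on scalars -/
  τ : Eˣ → Eˣ
  /-- dimension three -/
  c3 : GL (Fin 3) E →* GL (Fin 3) E
  /-- dimension nine -/
  c9 : GL (Fin 9) E →* GL (Fin 9) E
  inv9 : ∀ g, c9 (c9 g) = g
  c9_kr : ∀ X Y, c9 (kr X Y) = kr (c3 X) (c3 Y)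
  c9_sw : c9 sw = sw
  inv3 : ∀ g, c3 (c3 g) = g
  c3_scl : ∀ c, c3 (scl _ c) = scl _ (τ c)
  c9_scl : ∀ c, c9 (scl _ c) = scl _ (τ c)
  det3 : ∀ g : GL (Fin 3) E, (g : Matrix (Fin 3) (Fin 3) E).det = 1 → (c3 g : Matrix (Fin 3) (Fin 3) E).det = 1

section TW

variable {E : Type*} [Field E]

/-- the stabiliser of the tensor decomposition -/
def TW (E : Type*) [Field E] : Subgroup (GL (Fin 9) E) where
  carrier := {t | ∃ Y₁ Y₂, t = kr Y₁ Y₂ ∨ t = kr Y₁ Y₂ * sw}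
  one_mem' := ⟨1, 1, Or.inl kr_one.symm⟩
  mul_mem' := by
    rintro _ _ ⟨Y₁, Y₂, rfl | rfl⟩ ⟨Z₁, Z₂, rfl | rfl⟩
    · exact ⟨_, _, Or.inl (kr_mul _ _ _ _).symm⟩
    · exact ⟨Y₁ * Z₁, Y₂ * Z₂, Or.inr (by rw [kr_mul, mul_assoc])⟩
    · exact ⟨Y₁ * Z₂, Y₂ * Z₁, Or.inr (by rw [kr_mul, mul_assoc, mul_assoc, sw_kr])⟩
    · refine ⟨Y₁ * Z₂, Y₂ * Z₁, Or.inl ?_⟩
      rw [kr_mul, ← sw_kr_sw Z₁ Z₂]
      simp only [mul_assoc]
  inv_mem' := by
    rintro _ ⟨Y₁, Y₂, rfl | rfl⟩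
    · exact ⟨_, _, Or.inl (kr_inv _ _)⟩
    · refine ⟨Y₂⁻¹, Y₁⁻¹, Or.inr ?_⟩
      rw [_root_.mul_inv_rev, sw_inv, kr_inv, sw_kr]

theorem card_GL_le [Finite E] : Nat.card (GL (Fin 3) E) ≤ Nat.card E ^ 9 := by
  have h1 := Nat.card_le_card_of_injective (fun g : GL (Fin 3) E => (g : Matrix (Fin 3) (Fin 3) E)) (fun g h => Units.ext)
  have h2 : Nat.card (Matrix (Fin 3) (Fin 3) E) = Nat.card E ^ 9 := by
    show Nat.card (Fin 3 → Fin 3 → E) = _
    rw [Nat.card_fun, Nat.card_fun, Nat.card_eq_fintype_card (α := Fin 3), Fintype.card_fin, ← pow_mul]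
  rwa [h2] at h1

theorem card_TW_le [Finite E] : Nat.card (TW E) ≤ 2 * Nat.card E ^ 18 := by
  let f : (GL (Fin 3) E × GL (Fin 3) E) × Bool → TW E := fun y =>
    if y.2 then ⟨kr y.1.1 y.1.2, ⟨_, _, Or.inl rfl⟩⟩ else ⟨kr y.1.1 y.1.2 * sw, ⟨_, _, Or.inr rfl⟩⟩
  have hf : Function.Surjective f := by
    rintro ⟨_, Y₁, Y₂, rfl | rfl⟩
    · exact ⟨((Y₁, Y₂), true), rfl⟩
    · exact ⟨((Y₁, Y₂), false), rfl⟩
  have h1 := Nat.card_le_card_of_surjective f hf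
  rw [Nat.card_prod, Nat.card_prod, Nat.card_eq_fintype_card (α := Bool), Fintype.card_bool] at h1
  calc _ ≤ _ := h1
    _ ≤ Nat.card E ^ 9 * Nat.card E ^ 9 * 2 :=
        Nat.mul_le_mul_right _ (Nat.mul_le_mul card_GL_le card_GL_le)
    _ = 2 * Nat.card E ^ 18 := by ring

theorem four_le [Fintype E] (p : Par E) : 4 ≤ Fintype.card E := by
  classical
  have h1 : orderOf p.ω = 3 := by
    apply orderOf_eq_prime p.ω_cube p.ω_ne_one
  have h2 : orderOf (Units.mk0 p.ω p.ω_ne_zero) = 3 := by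
    rw [← orderOf_units, Units.val_mk0, h1]
  have h3 : 3 ∣ Fintype.card Eˣ := by
    rw [← h2]
    exact orderOf_dvd_card
  rw [Fintype.card_units] at h3
  have h4 := Fintype.one_lt_card (α := E)
  omega

theorem card_SL3 [Fintype E] (p : Par E) : 1080 < Nat.card (SpecialLinearGroup (Fin 3) E) := by
  have h4 := four_le p
  have h1 := Cfsg.Agent.ClassicalGeometry.PSL2Basic.card_SL_mul (Fin 3) E
  rw [Matrix.card_GL_field, Fin.prod_univ_three] at h1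
  obtain ⟨q, hq⟩ : ∃ q, q = Fintype.card E := ⟨_, rfl⟩
  rw [← hq] at h1 h4
  by_contra hlt
  push Not at hlt
  obtain ⟨k, rfl⟩ : ∃ k, q = k + 4 := ⟨q - 4, by omega⟩
  have h5 : (k + 4) ^ 3 - (k + 4) ^ 0 ≥ 63 := by
    have : (k + 4) ^ 3 ≥ 4 ^ 3 := Nat.pow_le_pow_left (by omega) 3
    rw [pow_zero]
    omega
  have h6 : (k + 4) ^ 3 - (k + 4) ^ 1 ≥ 60 := by
    rw [pow_one]
    have : (k + 4) ^ 3 = (k + 4) * (k + 4) ^ 2 := by ring
    have h7 : (k + 4) ^ 2 ≥ 4 ^ 2 := Nat.pow_le_pow_left (by omega) 2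
    have h8 : (k + 4) * (k + 4) ^ 2 ≥ (k + 4) * 16 := Nat.mul_le_mul_left _ h7
    omega
  have h7 : (k + 4) ^ 3 - (k + 4) ^ 2 ≥ 16 * (k + 4 - 1) := by
    have e1 : (k + 4) ^ 3 = (k + 3) * (k + 4) ^ 2 + (k + 4) ^ 2 := by ring
    have h7 : (k + 4) ^ 2 ≥ 4 ^ 2 := Nat.pow_le_pow_left (by omega) 2
    have h8 : (k + 3) * (k + 4) ^ 2 ≥ (k + 3) * 16 := Nat.mul_le_mul_left _ h7
    omega
  have h8 : 1080 * (k + 4 - 1) ≥ 63 * 60 * (16 * (k + 4 - 1)) := by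
    calc 1080 * (k + 4 - 1) ≥ Nat.card (SpecialLinearGroup (Fin 3) E) * (k + 4 - 1) := Nat.mul_le_mul_right _ hlt
      _ = _ := h1
      _ ≥ _ := Nat.mul_le_mul (Nat.mul_le_mul h5 h6) h7
  omega

end TW

namespace Cov

variable {P : Type*} [Group P] {C : Cov P} {E : Type*} [Field E] {p : Par E} {A : P →* GL (Fin 3) E}

theorem pi_ab : C.π C.a * C.π C.b ≠ C.π C.b * C.π C.a := by
  rw [C.πa, C.πb]
  decide

theorem pi_eq_of_scl (hi : Function.Injective A) {c : Eˣ} {k g : P} (h : A k = scl _ c * A g) : C.π k = C.π g := by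
  have h1 : k * g⁻¹ ∈ Subgroup.center P := by
    rw [Subgroup.mem_center_iff]
    intro y
    apply hi
    have e : A (k * g⁻¹) = scl _ c := by
      rw [map_mul, map_inv, h]
      group
    rw [map_mul A y, map_mul A (k * g⁻¹), e, scl_comm]
  have h2 : C.π (k * g⁻¹) ∈ Subgroup.center (alternatingGroup (Fin 6)) := by
    rw [Subgroup.mem_center_iff]
    intro y
    obtain ⟨y, rfl⟩ := C.surj y
    rw [← map_mul, ← map_mul, Subgroup.mem_center_iff.1 h1 y]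
  rw [alternatingGroup.center_eq_bot (by rw [Nat.card_eq_fintype_card, Fintype.card_fin]; norm_num),
    Subgroup.mem_bot, map_mul, map_inv, mul_inv_eq_one] at h2
  exact h2

end Cov


section kill

variable {E : Type*} [Field E] [Fintype E] (o : Circ E) (p : Par E) {H P : Subgroup (GL (Fin 9) E)}

omit [Fintype E] in
theorem val_scl_ω : ((scl (Fin 9) (Units.mk0 p.ω p.ω_ne_zero) : GL (Fin 9) E) : Matrix (Fin 9) (Fin 9) E) =
    p.ω • 1 := rfl

omit [Fintype E] in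
/-- case K -/
theorem kill_K (C : Cov P) {A B : P →* GL (Fin 3) E} (hAi : Function.Injective A) (hBi : Function.Injective B)
    {X : GL (Fin 9) E} (hX : ∀ g : P, (g : GL (Fin 9) E) = X * kr (A g) (B g) * X⁻¹) {Y₁ Y₂ : GL (Fin 3) E}
    (hXo : o.c9 X = X * kr Y₁ Y₂) (hA : ∀ g, A g = Y₁ * o.c3 (A g) * Y₁⁻¹)
    (hHG : ∀ g : GL (Fin 9) E, (g : Matrix (Fin 9) (Fin 9) E).det = 1 → o.c9 g = g → X⁻¹ * g * X ∈ TW E → g ∈ H)
    (hn : ∀ h ∈ H, ∀ g ∈ P, h * g * h⁻¹ ∈ P) : False := by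
  have hL : ∀ g : P, X * kr (A g) 1 * X⁻¹ ∈ H := by
    intro g
    apply hHG
    · rw [Units.val_mul, Units.val_mul, Matrix.det_mul_right_comm, ← Units.val_mul, mul_inv_cancel, Units.val_one,
        one_mul]
      exact det_kr (C.det_one A g) (by rw [Units.val_one, Matrix.det_one])
    · rw [map_mul, map_mul, map_inv, hXo, o.c9_kr, map_one]
      nth_rewrite 2 [hA g]
      have : kr (Y₁ * o.c3 (A g) * Y₁⁻¹) 1 = kr Y₁ Y₂ * kr (o.c3 (A g)) 1 * (kr Y₁ Y₂)⁻¹ := by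
        rw [kr_inv, ← kr_mul, ← kr_mul, mul_one, mul_inv_cancel]
      rw [this]
      group
    · refine ⟨A g, 1, Or.inl ?_⟩
      group
  have key : ∀ g h : P, C.π (g * h * g⁻¹) = C.π h := by
    intro g h
    have h1 := hn _ (hL g) h h.2
    obtain ⟨k, hk⟩ : ∃ k : P, (k : GL (Fin 9) E) = X * kr (A g) 1 * X⁻¹ * h * (X * kr (A g) 1 * X⁻¹)⁻¹ := ⟨⟨_, h1⟩, rfl⟩
    have h2 : kr (A k) (B k) = kr (A (g * h * g⁻¹)) (B h) := by
      have h3 : X * kr (A k) (B k) * X⁻¹ = X * (kr (A g) 1 * kr (A h) (B h) * (kr (A g) 1)⁻¹) * X⁻¹ := by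
        rw [← hX k, hk, hX h]
        group
      have h4 := mul_left_cancel (mul_right_cancel h3)
      rw [h4, kr_inv, ← kr_mul, ← kr_mul, map_mul, map_mul, map_inv, inv_one, one_mul, mul_one]
    obtain ⟨c, h5, h6⟩ := kr_eq' h2
    rw [C.pi_eq_of_scl hAi h5, C.pi_eq_of_scl hBi h6]
  have h1 := key C.a C.b
  rw [map_mul, map_mul, map_inv, mul_inv_eq_iff_eq_mul] at h1
  exact C.pi_ab h1

/-- case KS -/
theorem kill_KS (C : Cov P) {A B : P →* GL (Fin 3) E} (ha : A C.a = p.gA) (hb : A C.b = p.gB)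
    (hAi : Function.Injective A)
    {X : GL (Fin 9) E} (hX : ∀ g : P, (g : GL (Fin 9) E) = X * kr (A g) (B g) * X⁻¹) {Y₁ Y₂ : GL (Fin 3) E}
    (hXo : o.c9 X = X * kr Y₁ Y₂ * sw)
    (hHG : ∀ g : GL (Fin 9) E, (g : Matrix (Fin 9) (Fin 9) E).det = 1 → o.c9 g = g → X⁻¹ * g * X ∈ TW E → g ∈ H)
    (hn : ∀ h ∈ H, ∀ g ∈ P, h * g * h⁻¹ ∈ P) : False := by
  -- `Y₁ Y₂°` is scalar
  obtain ⟨c, hc⟩ : ∃ c : Eˣ, Y₁ * o.c3 Y₂ = scl _ c := by
    have h1 : X = X * kr (Y₁ * o.c3 Y₂) (Y₂ * o.c3 Y₁) := by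
      have h2 := o.inv9 X
      rw [hXo, map_mul, map_mul, o.c9_kr, o.c9_sw, hXo] at h2
      rw [kr_mul, ← sw_kr_sw (o.c3 Y₁) (o.c3 Y₂)]
      nth_rewrite 1 [← h2]
      simp only [mul_assoc]
    have h3 : kr (1 : GL (Fin 3) E) 1 = kr (Y₁ * o.c3 Y₂) (Y₂ * o.c3 Y₁) := by
      rw [kr_one]
      nth_rewrite 1 [← mul_one X] at h1
      exact mul_left_cancel h1
    obtain ⟨c, h4, -⟩ := kr_eq' h3
    exact ⟨c, by rw [h4, mul_one]⟩
  have hm : ∀ a : GL (Fin 3) E, (a : Matrix (Fin 3) (Fin 3) E).det = 1 → X * kr a (Y₂ * o.c3 a * Y₂⁻¹) * X⁻¹ ∈ H := by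
    intro a hda
    apply hHG
    · rw [Units.val_mul, Units.val_mul, Matrix.det_mul_right_comm, ← Units.val_mul, mul_inv_cancel, Units.val_one,
        one_mul]
      apply det_kr hda
      rw [Units.val_mul, Units.val_mul, Matrix.det_mul_right_comm, ← Units.val_mul, mul_inv_cancel, Units.val_one,
        one_mul]
      exact o.det3 a hda
    · rw [map_mul, map_mul, map_inv, hXo, o.c9_kr, map_mul, map_mul, map_inv, o.inv3]
      have e1 : X * kr Y₁ Y₂ * sw * kr (o.c3 a) (o.c3 Y₂ * a * (o.c3 Y₂)⁻¹) * (X * kr Y₁ Y₂ * sw)⁻¹ =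
          X * (kr Y₁ Y₂ * (sw * kr (o.c3 a) (o.c3 Y₂ * a * (o.c3 Y₂)⁻¹) * sw) * (kr Y₁ Y₂)⁻¹) * X⁻¹ := by
        rw [_root_.mul_inv_rev, _root_.mul_inv_rev, sw_inv]
        simp only [mul_assoc]
      rw [e1, sw_kr_sw, kr_inv, ← kr_mul, ← kr_mul]
      have e2 : Y₁ * (o.c3 Y₂ * a * (o.c3 Y₂)⁻¹) * Y₁⁻¹ = (Y₁ * o.c3 Y₂) * a * (Y₁ * o.c3 Y₂)⁻¹ := by group
      have e3 : (scl (Fin 3) c) * a * (scl (Fin 3) c)⁻¹ = a := by
        rw [← scl_comm]
        group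
      rw [e2, hc, e3]
    · refine ⟨a, Y₂ * o.c3 a * Y₂⁻¹, Or.inl ?_⟩
      group
  -- scalars of order dividing three
  have hsc : ∀ c : Eˣ, (c : E) ^ 3 = 1 → ∃ k : P, A k = scl _ c := by
    intro c hc3
    have hz : (A C.z : Matrix (Fin 3) (Fin 3) E) = (p.ω * p.ω) • 1 := Cov.rep_z ha hb
    have h1 : ((c : E) - 1) * (((c : E) - p.ω) * ((c : E) - p.ω * p.ω)) = 0 := by
      linear_combination hc3 + p.ω_cube * ((c : E) - 1) + ((c : E) - (c : E) ^ 2) * p.hω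
    rcases mul_eq_zero.1 h1 with h2 | h2
    · refine ⟨1, ?_⟩
      have : c = 1 := Units.ext (sub_eq_zero.1 h2)
      rw [this, map_one, map_one]
    rcases mul_eq_zero.1 h2 with h2 | h2
    · refine ⟨C.z ^ 2, Units.ext ?_⟩
      rw [map_pow, pow_two, Units.val_mul, hz, Matrix.smul_mul, one_mul, smul_smul, val_scl, sub_eq_zero.1 h2]
      congr 1
      linear_combination p.ω * p.ω_cube
    · refine ⟨C.z, Units.ext ?_⟩
      rw [hz, val_scl, sub_eq_zero.1 h2]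
  -- the image is normal in `SL₃(E)`
  have hnorm : ∀ a : GL (Fin 3) E, (a : Matrix (Fin 3) (Fin 3) E).det = 1 → ∀ g : P, a * A g * a⁻¹ ∈ A.range := by
    intro a hda g
    have h1 := hn _ (hm a hda) g g.2
    obtain ⟨k, hk⟩ : ∃ k : P, (k : GL (Fin 9) E) = X * kr a (Y₂ * o.c3 a * Y₂⁻¹) * X⁻¹ * g *
      (X * kr a (Y₂ * o.c3 a * Y₂⁻¹) * X⁻¹)⁻¹ := ⟨⟨_, h1⟩, rfl⟩
    obtain ⟨b, hb⟩ : ∃ b, b = Y₂ * o.c3 a * Y₂⁻¹ := ⟨_, rfl⟩
    rw [← hb] at hk
    have h2 : kr (A k) (B k) = kr (a * A g * a⁻¹) (b * B g * b⁻¹) := by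
      have h3 : X * kr (A k) (B k) * X⁻¹ = X * (kr a b * kr (A g) (B g) * (kr a b)⁻¹) * X⁻¹ := by
        rw [← hX k, hk, hX g]
        group
      have h4 := mul_left_cancel (mul_right_cancel h3)
      rw [h4, kr_inv, ← kr_mul, ← kr_mul]
    obtain ⟨e, h5, -⟩ := kr_eq' h2
    have hdet : (e : E) ^ 3 = 1 := by
      have h6 := congrArg (fun M : GL (Fin 3) E => (M : Matrix (Fin 3) (Fin 3) E).det) h5
      simp only [val_scl_mul, Matrix.det_smul, Fintype.card_fin] at h6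
      rw [C.det_one A k, mul_one, Units.val_mul, Units.val_mul, Matrix.det_mul_right_comm, ← Units.val_mul,
        mul_inv_cancel, Units.val_one, one_mul, C.det_one A g] at h6
      exact h6.symm
    obtain ⟨l, hl⟩ := hsc e hdet
    exact ⟨l * k, by rw [map_mul, hl, h5]⟩
  let N : Subgroup (SpecialLinearGroup (Fin 3) E) := A.range.comap SpecialLinearGroup.toGL
  have hN : N.Normal := by
    constructor
    intro s hs t
    obtain ⟨g, hg⟩ : SpecialLinearGroup.toGL s ∈ A.range := hs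
    show SpecialLinearGroup.toGL (t * s * t⁻¹) ∈ A.range
    rw [map_mul, map_mul, map_inv, ← hg]
    exact hnorm _ t.2 g
  have hNtop : N ≠ ⊤ := by
    intro h
    have h1 : Nat.card N ≤ Nat.card A.range := by
      apply Nat.card_le_card_of_injective (fun s : N => (⟨SpecialLinearGroup.toGL s.1, s.2⟩ : A.range))
      intro s t hst
      apply Subtype.ext
      apply SpecialLinearGroup.toGL_injective
      exact congrArg Subtype.val hst
    have h2 : Nat.card A.range = 1080 := by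
      rw [← Nat.card_congr (MonoidHom.ofInjective hAi).toEquiv]
      have h4 := Subgroup.card_mul_index C.π.ker
      have h5 := Subgroup.index_ker C.π
      rw [MonoidHom.range_eq_top.2 C.surj, Subgroup.card_top, card_a6] at h5
      rw [C.card, h5] at h4
      omega
    rw [h, Subgroup.card_top, h2] at h1
    have := card_SL3 p
    omega
  have hle := Cfsg.Agent.Classification.PSLThreeRecog.le_center_of_normal N hNtop
  have mk : ∀ g : P, ∃ s : SpecialLinearGroup (Fin 3) E, SpecialLinearGroup.toGL s = A g := fun g =>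
    ⟨⟨(A g : Matrix (Fin 3) (Fin 3) E), C.det_one A g⟩, Units.ext rfl⟩
  obtain ⟨s, hs⟩ := mk C.a
  obtain ⟨t, ht⟩ := mk C.b
  have hs' : s ∈ Subgroup.center _ := hle (show SpecialLinearGroup.toGL s ∈ A.range from ⟨C.a, hs.symm⟩)
  have h1 := Subgroup.mem_center_iff.1 hs' t
  have h2 := congrArg SpecialLinearGroup.toGL h1
  rw [map_mul, map_mul, hs, ht, ← map_mul, ← map_mul] at h2
  have h3 := hAi h2
  apply C.pi_ab
  rw [← map_mul, ← map_mul, h3]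

/-- **The abstract contradiction.** -/
theorem kill (C : Cov P) (hz : ((C.z : GL (Fin 9) E) : Matrix (Fin 9) (Fin 9) E) = p.ω • 1)
    (hspan : Submodule.span E (Set.range (mo P.subtype)) = ⊤)
    (h5 : (5 : E) = 0 → ((C.a : GL (Fin 9) E) : Matrix (Fin 9) (Fin 9) E).trace = -3 ∧
      ((C.b : GL (Fin 9) E) : Matrix (Fin 9) (Fin 9) E).trace = 3)
    {G : Subgroup (GL (Fin 9) E)}
    (hG : ∀ g : GL (Fin 9) E, g ∈ G ↔ (g : Matrix (Fin 9) (Fin 9) E).det = 1 ∧ o.c9 g = g)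
    (hcard : 2 * Nat.card E ^ 18 < Nat.card G)
    (hHG : H ≤ G) (hmax : ∀ M, H ≤ M → M ≤ G → M = H ∨ M = G) (hPH : P ≤ H)
    (hn : ∀ h ∈ H, ∀ g ∈ P, h * g * h⁻¹ ∈ P) : False := by
  classical
  have : Fintype P := Fintype.ofFinite _
  obtain ⟨A, ha, hb, hAi⟩ := C.exists_rep p
  obtain ⟨B, ha', hb', hBi⟩ := C.exists_rep p.swap
  obtain ⟨X, hX⟩ := C.iso ha hb ha' hb' (V := P.subtype) hspan hz h5
  have hX' : ∀ g : P, (g : GL (Fin 9) E) = X * kr (A g) (B g) * X⁻¹ := hX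
  have hAz : (A C.z : Matrix (Fin 3) (Fin 3) E) = (p.ω * p.ω) • 1 := Cov.rep_z ha hb
  have hBz : (B C.z : Matrix (Fin 3) (Fin 3) E) = (p.ω * p.ω) • 1 := Cov.rep_z (p := p.swap) ha' hb'
  let M : Subgroup (GL (Fin 9) E) := G ⊓ (TW E).comap (MulAut.conj X⁻¹).toMonoidHom
  have hMmem : ∀ g, g ∈ M ↔ g ∈ G ∧ X⁻¹ * g * X ∈ TW E := by
    intro g
    rw [Subgroup.mem_inf, Subgroup.mem_comap]
    show g ∈ G ∧ X⁻¹ * g * X⁻¹⁻¹ ∈ TW E ↔ _
    rw [inv_inv]
  have hHM : H ≤ M := by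
    intro h hh
    rw [hMmem]
    refine ⟨hHG hh, ?_⟩
    let α : P →* P :=
      { toFun := fun g => ⟨h * g * h⁻¹, hn h hh g g.2⟩
        map_one' := Subtype.ext (by simp)
        map_mul' := fun g g' => Subtype.ext (by
          show h * (g * g' : GL (Fin 9) E) * h⁻¹ = h * g * h⁻¹ * (h * g' * h⁻¹)
          group) }
    have hαz : α C.z = C.z := by
      apply Subtype.ext
      show h * (C.z : GL (Fin 9) E) * h⁻¹ = C.z
      have h1 : (C.z : GL (Fin 9) E) = scl _ (Units.mk0 p.ω p.ω_ne_zero) := Units.ext hz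
      rw [h1, scl_comm]
      group
    have h1 : ∀ g : P, P.subtype g = (h⁻¹ * X) * kr (A.comp α g) (B.comp α g) * (h⁻¹ * X)⁻¹ := by
      intro g
      have h2 := hX' (α g)
      have h3 : ((α g : P) : GL (Fin 9) E) = h * g * h⁻¹ := rfl
      rw [h3] at h2
      calc (g : GL (Fin 9) E) = h⁻¹ * (h * g * h⁻¹) * h := by group
        _ = h⁻¹ * (X * kr (A (α g)) (B (α g)) * X⁻¹) * h := by rw [h2]
        _ = _ := by
          rw [_root_.mul_inv_rev, inv_inv]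
          simp only [mul_assoc]
          rfl
    have h4 : X⁻¹ * h⁻¹ * X ∈ TW E := by
      rcases C.utd ha hb ha' hb' hspan hX h1 (by rw [MonoidHom.comp_apply, hαz, hAz])
        (by rw [MonoidHom.comp_apply, hαz, hBz]) with ⟨Y₁, Y₂, h5, -, -⟩ | ⟨Y₁, Y₂, h5, -, -⟩
      · refine ⟨Y₁, Y₂, Or.inl ?_⟩
        rw [mul_assoc, h5]
        group
      · refine ⟨Y₁, Y₂, Or.inr ?_⟩
        rw [mul_assoc, h5]
        group
    have h6 := inv_mem h4
    have h7 : (X⁻¹ * h⁻¹ * X)⁻¹ = X⁻¹ * h * X := by group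
    rwa [h7] at h6
  have hMG : M ≠ G := by
    intro h
    have h1 : Nat.card G ≤ Nat.card (TW E) := by
      apply Nat.card_le_card_of_injective (fun g : G => (⟨X⁻¹ * g * X, ((hMmem g).1 (h.symm ▸ g.2)).2⟩ : TW E))
      intro g g' hgg
      apply Subtype.ext
      have h2 : X⁻¹ * (g : GL (Fin 9) E) * X = X⁻¹ * g' * X := congrArg Subtype.val hgg
      exact mul_left_cancel (mul_right_cancel h2)
    have h2 := card_TW_le (E := E)
    omega
  have hMH : M = H := (hmax M hHM inf_le_left).resolve_right hMG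
  have hHG' : ∀ g : GL (Fin 9) E, (g : Matrix (Fin 9) (Fin 9) E).det = 1 → o.c9 g = g → X⁻¹ * g * X ∈ TW E → g ∈ H := by
    intro g h1 h2 h3
    rw [← hMH, hMmem]
    exact ⟨(hG g).2 ⟨h1, h2⟩, h3⟩
  -- the twisted decomposition
  have hfix : ∀ g : P, o.c9 g = g := fun g => ((hG g).1 (hHG (hPH g.2))).2
  have hτ : o.c3 (scl _ (Units.mk0 p.ω p.ω_ne_zero)) = scl _ (Units.mk0 p.ω p.ω_ne_zero) := by
    have h1 : (C.z : GL (Fin 9) E) = scl _ (Units.mk0 p.ω p.ω_ne_zero) := Units.ext hz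
    have h2 := hfix C.z
    rw [h1, o.c9_scl] at h2
    have h3 := congrArg (fun M : GL (Fin 9) E => (M : Matrix (Fin 9) (Fin 9) E) 0 0) h2
    simp only [val_scl, Matrix.smul_apply, Matrix.one_apply_eq, smul_eq_mul, mul_one] at h3
    rw [o.c3_scl, Units.ext h3]
  have hz3 : ∀ R : P →* GL (Fin 3) E, (R C.z : Matrix (Fin 3) (Fin 3) E) = (p.ω * p.ω) • 1 →
      ((o.c3.comp R C.z : GL (Fin 3) E) : Matrix (Fin 3) (Fin 3) E) = (p.ω * p.ω) • 1 := by
    intro R hR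
    have h1 : R C.z = scl _ (Units.mk0 p.ω p.ω_ne_zero) * scl _ (Units.mk0 p.ω p.ω_ne_zero) := by
      apply Units.ext
      rw [hR, val_scl_mul, val_scl, smul_smul, Units.val_mk0]
    rw [MonoidHom.comp_apply, h1, map_mul, hτ, ← h1, hR]
  have h1 : ∀ g : P, P.subtype g = o.c9 X * kr (o.c3.comp A g) (o.c3.comp B g) * (o.c9 X)⁻¹ := by
    intro g
    show (g : GL (Fin 9) E) = _
    rw [← hfix g]
    nth_rewrite 1 [hX' g]
    rw [map_mul, map_mul, map_inv, o.c9_kr]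
    rfl
  rcases C.utd ha hb ha' hb' hspan hX h1 (hz3 A hAz) (hz3 B hBz) with ⟨Y₁, Y₂, h5, h6, h7⟩ | ⟨Y₁, Y₂, h5, h6, h7⟩
  · exact kill_K o C hAi hBi hX' h5 h6 hHG' hn
  · exact kill_KS o p C ha hb hAi hX' h5 hHG' hn

end kill

end Cfsg.Agent.H956.K1
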