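import Cfsg.Agent.H956.K1.Hom
import Cfsg.Agent.H95.StemCover
import Cfsg.Agent.S2116

/-!
# The three-dimensional representations of a perfect threefold cover of `A₆` (helper956)

* `ta`, `tb = zs6`, `tx = za6`, `tc = (3 4 5)`;
* `Par.exists_theta` : `θ : A₆ → GL₃(E) / scalars`;
* `Par.exists_hom` : `P` perfect, `π : P → A₆` onto with central kernel of order `3` : there is `A : P → GL₃(E)` over `θ`
  with determinant one.
-/

set_option autoImplicit false
set_option maxRecDepth 20000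

namespace Cfsg.Agent.H956.K1

open Matrix Cfsg Cfsg.Geo Cfsg.Agent.H173.Pres
open scoped commutatorElement
open Cfsg.Agent.H95.StemCover (EE EE_le pΓ pP mem_fib comp_eq commutator_EE map_surj pΓ_surj pP_surj isStem)

/-- the involution `(0 5)(2 3)` -/
def ta : alternatingGroup (Fin 6) :=
  ⟨Equiv.swap 0 5 * Equiv.swap 2 3, Equiv.Perm.mem_alternatingGroup.2 (by decide)⟩

/-- `(3 4 5)` -/
def tc : alternatingGroup (Fin 6) :=
  ⟨Equiv.swap 3 5 * Equiv.swap 3 4, Equiv.Perm.mem_alternatingGroup.2 (by decide)⟩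

theorem word_ta : za6 * zs6 * za6 * zs6⁻¹ * za6 * zs6⁻¹ * za6 * zs6 = ta := by decide

theorem word_tc : za6 * zs6 * za6 * zs6⁻¹ * za6 * zs6 = tc := by decide

theorem word_za : zs6 * ta * zs6⁻¹ * ta * zs6 ^ 2 * ta = za6 := by decide

theorem closure_za : Subgroup.closure {za6, zs6} = (⊤ : Subgroup (alternatingGroup (Fin 6))) :=
  closure_alt za6 zs6 (Equiv.swap 2 3 * Equiv.swap 3 4 * Equiv.swap 4 5) (Equiv.swap 0 1) 0 1 2 rfl rfl
      (by decide) (by decide) (by decide) (by decide) (by decide) (by decide) (Or.inr rfl)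

theorem closure_ta : Subgroup.closure {ta, zs6} = (⊤ : Subgroup (alternatingGroup (Fin 6))) := by
  rw [eq_top_iff, ← closure_za, Subgroup.closure_le]
  have h1 : ta ∈ Subgroup.closure {ta, zs6} := Subgroup.subset_closure (by simp)
  have h2 : zs6 ∈ Subgroup.closure {ta, zs6} := Subgroup.subset_closure (by simp)
  intro x hx
  rcases hx with rfl | hx
  · rw [← word_za]
    exact mul_mem (mul_mem (mul_mem (mul_mem (mul_mem h2 h1) (inv_mem h2)) h1) (pow_mem h2 2)) h1
  · rw [Set.mem_singleton_iff.1 hx]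
    exact h2

instance simple_a6 : IsSimpleGroup (alternatingGroup (Fin 6)) := alternatingGroup.isSimpleGroup (by simp)

theorem comm_a6 : commutator (alternatingGroup (Fin 6)) = ⊤ := by
  rcases (inferInstance : (commutator (alternatingGroup (Fin 6))).Normal).eq_bot_or_eq_top with h | h
  · exfalso
    have h1 : ⁅ta, zs6⁆ ∈ commutator (alternatingGroup (Fin 6)) :=
      Subgroup.commutator_mem_commutator (Subgroup.mem_top _) (Subgroup.mem_top _)
    rw [h, Subgroup.mem_bot] at h1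
    revert h1
    decide
  · exact h

theorem card_a6 : Nat.card (alternatingGroup (Fin 6)) = 360 := by
  have := card_alt_fin 6 (by norm_num)
  have h6 : Nat.factorial 6 = 720 := rfl
  omega

namespace Par

variable {E : Type*} [Field E] (p : Par E)

/-- the quotient map -/
abbrev q (E : Type*) [Field E] : GL (Fin 3) E →* GL (Fin 3) E ⧸ scalars (Fin 3) E := QuotientGroup.mk' _

theorem q_eq_one {g : GL (Fin 3) E} : q E g = 1 ↔ ∃ c : Eˣ, (g : Matrix (Fin 3) (Fin 3) E) = (c : E) • 1 := by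
  rw [← mem_scalars_iff]
  exact QuotientGroup.eq_one_iff g

theorem q_eq {g h : GL (Fin 3) E} : q E g = q E h ↔ ∃ c : Eˣ, (g : Matrix (Fin 3) (Fin 3) E) = (c : E) • (h : Matrix _ _ E) := by
  have h1 : q E g = q E h ↔ q E (h⁻¹ * g) = 1 := by
    rw [map_mul, map_inv, inv_mul_eq_one, eq_comm]
  rw [h1, q_eq_one]
  constructor
  · rintro ⟨c, hc⟩
    refine ⟨c, ?_⟩
    have h2 : (g : Matrix (Fin 3) (Fin 3) E) = (h : Matrix _ _ E) * ((h⁻¹ * g : GL (Fin 3) E) : Matrix _ _ E) := by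
      rw [← Units.val_mul, mul_inv_cancel_left]
    rw [h2, hc, Matrix.mul_smul, mul_one]
  · rintro ⟨c, hc⟩
    refine ⟨c, ?_⟩
    rw [Units.val_mul, hc, Matrix.mul_smul, ← Units.val_mul, inv_mul_cancel, Units.val_one]

theorem q_of_smul {g : GL (Fin 3) E} {c : E} (hc : c ≠ 0) (h : (g : Matrix (Fin 3) (Fin 3) E) = c • 1) : q E g = 1 :=
  q_eq_one.2 ⟨Units.mk0 c hc, h⟩

/-- `A₆` in `PGL₃(E)` -/
theorem exists_theta : ∃ θ : alternatingGroup (Fin 6) →* GL (Fin 3) E ⧸ scalars (Fin 3) E,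
    θ ta = q E p.gA ∧ θ zs6 = q E p.gB ∧ θ za6 = q E p.gX ∧ θ tc = q E p.gC ∧ Function.Injective θ := by
  have h0 := p.ω_ne_zero
  obtain ⟨θ, h1, h2⟩ := a6_hom (q E p.gX) (q E p.gB) (by rw [← map_pow, p.gX_cube, map_one])
    (by rw [← map_pow, p.gB_four, map_one])
    (by rw [← map_mul, ← map_pow]; exact q_of_smul (mul_ne_zero h0 h0) p.rel_five)
    (by rw [← map_inv, ← map_inv, ← map_mul, ← map_mul, ← map_mul, ← map_pow]
        exact q_of_smul (mul_ne_zero h0 h0) p.rel_six)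
    (by rw [← map_pow, ← map_inv, ← map_mul, ← map_mul, ← map_mul, ← map_pow]
        exact q_of_smul h0 p.rel_seven)
  refine ⟨θ, ?_, h2, h1, ?_, ?_⟩
  · rw [← word_ta]
    simp only [map_mul, map_inv, h1, h2]
    simp only [← map_mul, ← map_inv]
    exact q_eq.2 ⟨Units.mk0 _ h0, p.word_two⟩
  · rw [← word_tc]
    simp only [map_mul, map_inv, h1, h2]
    rfl
  · rcases (inferInstance : θ.ker.Normal).eq_bot_or_eq_top with h | h
    · exact (MonoidHom.ker_eq_bot_iff _).1 h
    · exfalso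
      have h3 : za6 ∈ θ.ker := by rw [h]; trivial
      rw [MonoidHom.mem_ker, h1, q_eq_one] at h3
      obtain ⟨c, hc⟩ := h3
      have h4 := congrFun (congrFun hc 0) 1
      apply h0
      simpa [val_gX, m, ev, mX, Q.ev] using h4

/-- the subgroup generated by the two matrices -/
def G : Subgroup (GL (Fin 3) E) := Subgroup.closure {p.gA, p.gB}

theorem gA_mem : p.gA ∈ p.G := Subgroup.subset_closure (by simp)
theorem gB_mem : p.gB ∈ p.G := Subgroup.subset_closure (by simp)

theorem G_det {g : GL (Fin 3) E} (hg : g ∈ p.G) : (g : Matrix (Fin 3) (Fin 3) E).det = 1 := by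
  have h1 : p.G ≤ specialLinear (Fin 3) E := by
    unfold G
    rw [Subgroup.closure_le]
    rintro x (rfl | hx)
    · show Matrix.GeneralLinearGroup.det _ = 1
      apply Units.ext
      rw [Matrix.GeneralLinearGroup.val_det_apply, p.det_A, Units.val_one]
    · rw [Set.mem_singleton_iff.1 hx]
      show Matrix.GeneralLinearGroup.det _ = 1
      apply Units.ext
      rw [Matrix.GeneralLinearGroup.val_det_apply, p.det_B, Units.val_one]
  have h2 := h1 hg
  have h3 : Matrix.GeneralLinearGroup.det g = 1 := h2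
  rw [← Matrix.GeneralLinearGroup.val_det_apply, h3, Units.val_one]

theorem cube_of_scalar {g : GL (Fin 3) E} (hg : (g : Matrix (Fin 3) (Fin 3) E).det = 1) {c : E}
    (hc : (g : Matrix (Fin 3) (Fin 3) E) = c • 1) : c ^ 3 = 1 := by
  rw [hc, Matrix.det_smul, Matrix.det_one, mul_one, Fintype.card_fin] at hg
  exact hg

/-- the map `G → A₆` -/
theorem exists_pi {θ : alternatingGroup (Fin 6) →* GL (Fin 3) E ⧸ scalars (Fin 3) E} (hA : θ ta = q E p.gA)
    (hB : θ zs6 = q E p.gB) (hinj : Function.Injective θ) :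
    ∃ π : p.G →* alternatingGroup (Fin 6), ∀ g : p.G, θ (π g) = q E g := by
  have h1 : ∀ g : p.G, q E g ∈ θ.range := by
    rintro ⟨g, hg⟩
    have h2 : p.G ≤ θ.range.comap (q E) := by
      unfold G
      rw [Subgroup.closure_le]
      rintro x (rfl | hx)
      · exact ⟨ta, hA⟩
      · rw [Set.mem_singleton_iff.1 hx]
        exact ⟨zs6, hB⟩
    exact h2 hg
  let e := MonoidHom.ofInjective hinj
  refine ⟨e.symm.toMonoidHom.comp (((q E).comp p.G.subtype).codRestrict θ.range h1), fun g => ?_⟩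
  have h3 : e (e.symm (⟨q E g, h1 g⟩ : θ.range)) = ⟨q E g, h1 g⟩ := e.apply_symm_apply _
  exact congrArg Subtype.val h3

section

variable {π : p.G →* alternatingGroup (Fin 6)} {θ : alternatingGroup (Fin 6) →* GL (Fin 3) E ⧸ scalars (Fin 3) E}

theorem pi_surj (hA : θ ta = q E p.gA) (hB : θ zs6 = q E p.gB) (hinj : Function.Injective θ)
    (hπ : ∀ g : p.G, θ (π g) = q E g) : Function.Surjective π := by
  rw [← MonoidHom.range_eq_top, eq_top_iff, ← closure_ta, Subgroup.closure_le]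
  rintro x (rfl | hx)
  · exact ⟨⟨p.gA, p.gA_mem⟩, hinj (by rw [hπ, hA])⟩
  · rw [Set.mem_singleton_iff.1 hx]
    exact ⟨⟨p.gB, p.gB_mem⟩, hinj (by rw [hπ, hB])⟩

theorem pi_ker (hπ : ∀ g : p.G, θ (π g) = q E g) {g : p.G} (hg : g ∈ π.ker) :
    ∃ c : E, c ^ 3 = 1 ∧ ((g : GL (Fin 3) E) : Matrix (Fin 3) (Fin 3) E) = c • 1 := by
  have h1 := hπ g
  rw [MonoidHom.mem_ker.1 hg, map_one] at h1
  obtain ⟨c, hc⟩ := q_eq_one.1 h1.symm
  exact ⟨c, cube_of_scalar (p.G_det g.2) hc, hc⟩

theorem pi_ker_cube (hπ : ∀ g : p.G, θ (π g) = q E g) {g : p.G} (hg : g ∈ π.ker) : g ^ 3 = 1 := by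
  obtain ⟨c, h1, h2⟩ := p.pi_ker hπ hg
  apply Subtype.ext
  apply Units.ext
  rw [Subgroup.coe_pow, Units.val_pow_eq_pow_val, h2, smul_pow, h1, one_pow, one_smul]
  rfl

theorem pi_ker_center (hπ : ∀ g : p.G, θ (π g) = q E g) : π.ker ≤ Subgroup.center p.G := by
  intro g hg
  obtain ⟨c, -, h2⟩ := p.pi_ker hπ hg
  rw [Subgroup.mem_center_iff]
  intro x
  apply Subtype.ext
  apply Units.ext
  rw [Subgroup.coe_mul, Subgroup.coe_mul, Units.val_mul, Units.val_mul, h2, Matrix.mul_smul, Matrix.smul_mul, mul_one,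
    one_mul]

theorem G_perfect (hπ : ∀ g : p.G, θ (π g) = q E g) (hs : Function.Surjective π) : commutator p.G = ⊤ := by
  -- cubes lie in the commutator subgroup
  have h1 : ∀ g : p.G, g ^ 3 ∈ commutator p.G := by
    intro g
    have h2 : π g ∈ (commutator p.G).map π := by
      rw [map_commutator_eq, MonoidHom.range_eq_top.2 hs]
      have : π g ∈ commutator (alternatingGroup (Fin 6)) := by rw [comm_a6]; trivial
      exact this
    obtain ⟨n, hn, hng⟩ := h2
    have h3 : n⁻¹ * g ∈ π.ker := by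
      rw [MonoidHom.mem_ker, map_mul, map_inv, hng, inv_mul_cancel]
    have h4 := p.pi_ker_cube hπ h3
    have h5 := Subgroup.mem_center_iff.1 (p.pi_ker_center hπ h3)
    have h6 : g = n * (n⁻¹ * g) := (mul_inv_cancel_left n g).symm
    have h7 : g ^ 3 = n ^ 3 := by
      have hc : Commute n (n⁻¹ * g) := h5 n
      conv_lhs => rw [h6]
      rw [hc.mul_pow, h4, mul_one]
    rw [h7]
    exact pow_mem hn 3
  rw [eq_top_iff]
  rintro ⟨g, hg⟩ -
  have h2 : p.G ≤ (commutator p.G).map p.G.subtype := by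
    conv_lhs => rw [G]
    rw [Subgroup.closure_le]
    rintro x (rfl | hx)
    · refine ⟨⟨p.gA, p.gA_mem⟩, ?_, rfl⟩
      have h3 := h1 ⟨p.gA, p.gA_mem⟩
      have h4 : (⟨p.gA, p.gA_mem⟩ : p.G) ^ 3 = ⟨p.gA, p.gA_mem⟩ := by
        apply Subtype.ext
        rw [Subgroup.coe_pow, pow_succ, p.gA_sq, one_mul]
      rw [h4] at h3
      exact h3
    · rw [Set.mem_singleton_iff.1 hx]
      refine ⟨⟨p.gB, p.gB_mem⟩, ?_, rfl⟩
      have h3 := pow_mem (h1 ⟨p.gB, p.gB_mem⟩) 3
      have h4 : ((⟨p.gB, p.gB_mem⟩ : p.G) ^ 3) ^ 3 = ⟨p.gB, p.gB_mem⟩ := by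
        apply Subtype.ext
        rw [Subgroup.coe_pow, Subgroup.coe_pow, ← pow_mul]
        show p.gB ^ (4 * 2 + 1) = p.gB
        rw [pow_add, pow_mul, p.gB_four, one_pow, one_mul, pow_one]
      rw [h4] at h3
      exact h3
  obtain ⟨y, hy, hyg⟩ := h2 hg
  have : y = ⟨g, hg⟩ := Subtype.ext hyg
  rw [← this]
  exact hy

end

/-- **The representation.** -/
theorem exists_hom {P : Type*} [Group P] [Finite P] (hP : commutator P = ⊤) (π : P →* alternatingGroup (Fin 6))
    (hs : Function.Surjective π) (hc : π.ker ≤ Subgroup.center P) (h3 : Nat.card π.ker = 3)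
    {θ : alternatingGroup (Fin 6) →* GL (Fin 3) E ⧸ scalars (Fin 3) E} (hA : θ ta = q E p.gA) (hB : θ zs6 = q E p.gB)
    (hinj : Function.Injective θ) :
    ∃ ρ : P →* GL (Fin 3) E, (∀ g, q E (ρ g) = θ (π g)) ∧ (∀ g, ρ g ∈ p.G) := by
  obtain ⟨π', hπ'⟩ := p.exists_pi hA hB hinj
  have hs' := p.pi_surj hA hB hinj hπ'
  have hc' := p.pi_ker_center hπ'
  have hG := p.G_perfect hπ' hs'
  have hst := isStem hP hs hc
  have hst' := isStem hG hs' hc'
  have hE := commutator_EE comm_a6 hs hs' hc hc'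
  have hm := map_surj (σ := π) (π := π') comm_a6 hs hs'
  have hcen : (π.comp (pΓ π π')).ker ≤ Subgroup.center (EE π π') :=
    (H95.StemCover.stem_EE comm_a6 hs hs' hc hc').2.1
  have h6 : Nat.card (π.comp (pΓ π π')).ker ∣ 6 :=
    H95.StemCover.card_ker_dvd_cyclic (Cfsg.Agent.S2116.result 6 (Or.inl rfl)) hE _ hm hcen
  have hsurj := pΓ_surj (σ := π) (π := π') comm_a6 hst hs'
  have hcube : ∀ x : (π.comp (pΓ π π')).ker, x ^ 3 = 1 := by
    rintro ⟨x, hx⟩
    apply Subtype.ext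
    apply Subtype.ext
    rw [SubmonoidClass.mk_pow, Subgroup.coe_pow]
    have h1 : π (x : P × p.G).1 = 1 := hx
    have h2 : π' (x : P × p.G).2 = 1 := by rw [← mem_fib.1 (EE_le x.2)]; exact h1
    refine Prod.ext ?_ ?_
    · show (x : P × p.G).1 ^ 3 = 1
      have h4 : (⟨(x : P × p.G).1, h1⟩ : π.ker) ^ Nat.card π.ker = 1 := pow_card_eq_one'
      rw [h3] at h4
      exact congrArg Subtype.val h4
    · exact p.pi_ker_cube hπ' h2
  -- the kernel has order at most three
  have hfin : Finite (π.comp (pΓ π π')).ker := Nat.finite_of_card_ne_zero (fun h0 => by rw [h0] at h6; norm_num at h6)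
  have hle : Nat.card (π.comp (pΓ π π')).ker ≤ 3 := by
    have h2 : ¬ 2 ∣ Nat.card (π.comp (pΓ π π')).ker := by
      intro h
      obtain ⟨x, hx⟩ := exists_prime_orderOf_dvd_card' 2 h
      have h5 := orderOf_dvd_of_pow_eq_one (hcube x)
      rw [hx] at h5
      norm_num at h5
    have h7 : Nat.card (π.comp (pΓ π π')).ker ∣ 3 := by
      have : (Nat.card (π.comp (pΓ π π')).ker).Coprime 2 := ((Nat.Prime.coprime_iff_not_dvd Nat.prime_two).2 h2).symm
      exact this.dvd_of_dvd_mul_left (by simpa using h6)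
    exact Nat.le_of_dvd (by norm_num) h7
  have hcardE : Nat.card (EE π π') = Nat.card (π.comp (pΓ π π')).ker * 360 := by
    rw [← Subgroup.card_mul_index (π.comp (pΓ π π')).ker, Subgroup.index_ker, MonoidHom.range_eq_top.2 hm,
      Subgroup.card_top, card_a6]
  have hcardP : Nat.card P = 3 * 360 := by
    rw [← Subgroup.card_mul_index π.ker, Subgroup.index_ker, MonoidHom.range_eq_top.2 hs, Subgroup.card_top, card_a6, h3]
  have hfinE : Finite (EE π π') := Nat.finite_of_card_ne_zero (by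
    rw [hcardE]
    have : 0 < Nat.card (π.comp (pΓ π π')).ker := Nat.card_pos
    omega)
  have hbij : Function.Bijective (pΓ π π') := by
    refine (Nat.bijective_iff_surjective_and_card _).2 ⟨hsurj, le_antisymm ?_ (Nat.card_le_card_of_surjective _ hsurj)⟩
    rw [hcardE, hcardP]
    omega
  let e : EE π π' ≃* P := MulEquiv.ofBijective (pΓ π π') hbij
  refine ⟨p.G.subtype.comp ((pP π π').comp e.symm.toMonoidHom), fun g => ?_, fun g => ?_⟩
  · show q E ((pP π π' (e.symm g) : p.G) : GL (Fin 3) E) = θ (π g)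
    rw [← hπ', ← comp_eq]
    congr 2
    exact e.apply_symm_apply g
  · exact (pP π π' (e.symm g)).2

end Par

end Cfsg.Agent.H956.K1
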