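import Cfsg.Agent.H956.K1.Circs
import Cfsg.Agent.H956.K1.Cards

/-!
# `3.A₆` in dimension nine is never maximal (helper956)

`not_core_linear_of`, `not_core_unitary_of` : the main theorems, given the traces in characteristic five.
-/

set_option autoImplicit false

namespace Cfsg.Agent.H956.K1

open Matrix Cfsg Cfsg.Geo Cfsg.Agent.H920.Nine Cfsg.Agent.H915.LD

universe u v

/-- the traces of a core in characteristic five -/
def Five {F : Type u} [Field F] (P : Subgroup (GL (Fin 9) F)) : Prop :=
  (5 : F) = 0 → (∀ x ∈ P, orderOf x = 2 → tr x = -3) ∧ (∀ x ∈ P, orderOf x = 4 → tr x = 3)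

theorem mem_sl {F : Type u} [Field F] {g : GL (Fin 9) F} :
    g ∈ specialLinear (Fin 9) F ↔ (g : Matrix (Fin 9) (Fin 9) F).det = 1 := by
  unfold specialLinear
  rw [MonoidHom.mem_ker, ← Matrix.GeneralLinearGroup.val_det_apply]
  exact ⟨fun h => by rw [h, Units.val_one], fun h => Units.ext h⟩

section lin

variable {F : Type u} [Field F] [Fintype F]

theorem mem_map_lin {E : Type v} [Field E] [Fintype E] (f : F →+* E)
    (σ : E →+* E) (hσ : ∀ x, σ x = x ^ Fintype.card F) (hσ2 : ∀ x, σ (σ x) = x) (g : GL (Fin 9) E) :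
    g ∈ (specialLinear (Fin 9) F).map (Matrix.GeneralLinearGroup.map f) ↔
      (g : Matrix (Fin 9) (Fin 9) E).det = 1 ∧ (circLin σ hσ2).c9 g = g := by
  constructor
  · rintro ⟨h, hh, rfl⟩
    have hd : (h : Matrix (Fin 9) (Fin 9) F).det = 1 := mem_sl.1 hh
    constructor
    · rw [val_gmap]
      have := (RingHom.map_det f (h : Matrix (Fin 9) (Fin 9) F)).symm
      rw [hd, map_one] at this
      exact this
    · show Matrix.GeneralLinearGroup.map σ (Matrix.GeneralLinearGroup.map f h) = _
      apply Units.ext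
      ext i j
      show σ (f ((h : Matrix (Fin 9) (Fin 9) F) i j)) = f ((h : Matrix (Fin 9) (Fin 9) F) i j)
      rw [hσ, ← map_pow, FiniteField.pow_card]
  · rintro ⟨hd, hg⟩
    have h1 : ∀ i j, ∃ a : F, f a = (g : Matrix (Fin 9) (Fin 9) E) i j := by
      intro i j
      apply mem_range_of_pow
      rw [Nat.card_eq_fintype_card, ← hσ]
      exact congrArg (fun M : GL (Fin 9) E => (M : Matrix (Fin 9) (Fin 9) E) i j) hg
    choose a ha using h1
    let A : Matrix (Fin 9) (Fin 9) F := Matrix.of a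
    have hA : A.map f = g := by
      ext i j
      exact ha i j
    have hdA : A.det = 1 := by
      apply f.injective
      rw [RingHom.map_det, map_one, RingHom.mapMatrix_apply, hA, hd]
    refine ⟨Matrix.GeneralLinearGroup.mkOfDetNeZero A (by rw [hdA]; exact one_ne_zero), ?_, ?_⟩
    · exact mem_sl.2 hdA
    · apply Units.ext
      exact hA

/-- **The linear case.** -/
theorem not_core_linear_of (p : ℕ) [hp : Fact p.Prime] [CharP F p] (hp3 : p ≠ 3) {H P : Subgroup (GL (Fin 9) F)}
    (hH : IsMaximalIn (specialLinear (Fin 9) F) H) (hP : IsResidualCore H P)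
    (e : Soc P ≃* alternatingGroup (Fin 6)) (hsd : ¬ SD P) (h5 : Five P) : False := by
  classical
  have hC := core_of_residual hP
  let E := FiniteField.Extension F p 2
  have : Fintype E := Fintype.ofFinite E
  have hE : Fintype.card E = Fintype.card F ^ 2 := by
    rw [← Nat.card_eq_fintype_card, ← Nat.card_eq_fintype_card]
    exact FiniteField.natCard_extension F p 2
  let f : F →+* E := algebraMap F E
  let σ : E →+* E := ((FiniteField.Extension.frob F p 2 : E ≃ₐ[F] E) : E →+* E)
  have hσ : ∀ x, σ x = x ^ Fintype.card F := by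
    intro x
    rw [← Nat.card_eq_fintype_card]
    exact FiniteField.Extension.frob_apply F p 2
  have hσ2 : ∀ x, σ (σ x) = x := by
    intro x
    rw [hσ, hσ, ← pow_mul, ← pow_two, ← hE, FiniteField.pow_card]
  have h3 : (3 : E) ≠ 0 := by
    intro h
    have h4 : ((3 : ℕ) : F) = 0 := by
      apply f.injective
      rw [map_natCast, map_zero]
      exact_mod_cast h
    rw [CharP.cast_eq_zero_iff F p] at h4
    exact hp3 ((Nat.prime_dvd_prime_iff_eq hp.out Nat.prime_three).1 h4)
  refine core_false f (circLin σ hσ2) (fun ω hω => exists_phi hE hω) h3 hH hP e (card_scalars hC e hsd) h5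
    (mem_map_lin f σ hσ hσ2) ?_
  rw [Nat.card_eq_fintype_card, hE, ← pow_mul]
  exact card_sl

end lin

section uni

variable {F : Type u} [Field F] [Fintype F] {q : ℕ}

theorem gu_iff (hF : Fintype.card F = q ^ 2) (σ : F →+* F) (hσ : ∀ x, σ x = x ^ q) (g : GL (Fin 9) F) :
    g ∈ GU 9 F q ↔ (g : Matrix (Fin 9) (Fin 9) F)ᵀ * (g : Matrix (Fin 9) (Fin 9) F).map σ = 1 := by
  have hq : q ≠ 0 := by
    have := Cfsg.Agent.ClassicalGeometry.GUBasic.two_le hF
    omega
  have hσ' : (σ : F → F) = fun x => x ^ q := funext hσ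
  constructor
  · intro h
    rw [hσ']
    exact Cfsg.Agent.ClassicalGeometry.GUBasic.transpose_mul_map hq
      ((Cfsg.Agent.ClassicalGeometry.GUBasic.mem_GU_iff g).1 h)
  · intro h
    rw [Cfsg.Agent.ClassicalGeometry.GUBasic.mem_GU_iff]
    have h1 : ∀ x y : Fin 9 → F, hermForm 9 F q x y = x ⬝ᵥ (fun i => σ (y i)) := by
      intro x y
      rw [Cfsg.Agent.ClassicalGeometry.GUBasic.hermForm_apply]
      apply Finset.sum_congr rfl
      intro i _
      show x i * y i ^ q = x i * σ (y i)
      rw [hσ]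
    intro x y
    rw [h1, h1]
    have h2 : (fun i => σ (((g : Matrix (Fin 9) (Fin 9) F) *ᵥ y) i)) =
        (g : Matrix (Fin 9) (Fin 9) F).map σ *ᵥ (fun i => σ (y i)) := by
      funext i
      change σ (∑ j, (g : Matrix (Fin 9) (Fin 9) F) i j * y j) = ∑ j, σ ((g : Matrix (Fin 9) (Fin 9) F) i j) * σ (y j)
      rw [map_sum]
      exact Finset.sum_congr rfl fun j _ => map_mul σ _ _
    rw [h2, Matrix.dotProduct_mulVec, ← Matrix.vecMul_transpose, Matrix.vecMul_vecMul, h, Matrix.vecMul_one]

/-- **The unitary case.** -/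
theorem not_core_unitary_of (p : ℕ) [hp : Fact p.Prime] [CharP F p] (hp3 : p ≠ 3) (hF : Fintype.card F = q ^ 2)
    {H P : Subgroup (GL (Fin 9) F)}
    (hH : IsMaximalIn (GU 9 F q ⊓ specialLinear (Fin 9) F) H) (hP : IsResidualCore H P)
    (e : Soc P ≃* alternatingGroup (Fin 6)) (hsd : ¬ SD P) (h5 : Five P) : False := by
  classical
  have hC := core_of_residual hP
  obtain ⟨σ, hσ⟩ := Cfsg.Agent.ClassicalGeometry.GUBasic.exists_powHom hF
  have hσ2 : ∀ x, σ (σ x) = x := by
    intro x
    rw [hσ, hσ, ← pow_mul, ← pow_two, ← hF, FiniteField.pow_card]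
  have h3 : (3 : F) ≠ 0 := by
    intro h
    have h4 : ((3 : ℕ) : F) = 0 := by exact_mod_cast h
    rw [CharP.cast_eq_zero_iff F p] at h4
    exact hp3 ((Nat.prime_dvd_prime_iff_eq hp.out Nat.prime_three).1 h4)
  refine core_false (RingHom.id F) (circUni σ hσ2) (fun ω hω => exists_phi hF hω) h3 hH hP e (card_scalars hC e hsd) h5
    ?_ ?_
  · intro g
    rw [Matrix.GeneralLinearGroup.map_id, Subgroup.map_id]
    rw [Subgroup.mem_inf, mem_sl, gu_iff hF σ hσ, and_comm]
    apply and_congr_right
    intro _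
    have h7 : (circUni σ hσ2).c9 g = ti (Matrix.GeneralLinearGroup.map σ g) := rfl
    rw [h7]
    constructor
    · intro h
      apply Units.ext
      rw [val_ti]
      have h8 : ((Matrix.GeneralLinearGroup.map σ g : GL (Fin 9) F) : Matrix (Fin 9) (Fin 9) F)ᵀ *
          (g : Matrix (Fin 9) (Fin 9) F) = 1 := by
        have h9 := congrArg (fun M => Mᵀ) h
        simp only [Matrix.transpose_mul, Matrix.transpose_transpose, Matrix.transpose_one] at h9
        exact h9
      have h9 : ((Matrix.GeneralLinearGroup.map σ g : GL (Fin 9) F) : Matrix (Fin 9) (Fin 9) F)ᵀ *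
          (((Matrix.GeneralLinearGroup.map σ g)⁻¹ : GL (Fin 9) F) : Matrix (Fin 9) (Fin 9) F)ᵀ = 1 := by
        rw [← Matrix.transpose_mul, ← Units.val_mul, inv_mul_cancel, Units.val_one, Matrix.transpose_one]
      have h10 := _root_.mul_eq_one_comm.1 h8
      calc _ = 1 * (((Matrix.GeneralLinearGroup.map σ g)⁻¹ : GL (Fin 9) F) : Matrix (Fin 9) (Fin 9) F)ᵀ := (one_mul _).symm
        _ = _ := by rw [← h10, mul_assoc, h9, mul_one]
    · intro h
      have h8 := congrArg (fun M : GL (Fin 9) F => (M : Matrix (Fin 9) (Fin 9) F)) h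
      simp only [val_ti] at h8
      nth_rewrite 1 [← h8]
      rw [Matrix.transpose_transpose, ← val_map σ g, ← Units.val_mul, inv_mul_cancel, Units.val_one]
  · rw [Nat.card_eq_fintype_card, hF, ← pow_mul]
    exact card_su hF

end uni

end Cfsg.Agent.H956.K1
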