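import Mathlib

/-!
# The three-dimensional representations of `3.A₆` (helper956)

`E` a field with `φ² = φ + 1`, `ω² + ω + 1 = 0`.  The matrices
`a = [[1, 1 + ωφ, -φ], [0, -1, 0], [0, 0, -1]]`, `b = ` companion matrix of `x³ - x² + x - 1`
satisfy `a² = b⁴ = (ab²)⁵ = 1`, `(ab)⁵ = ω²`; `x = b a b⁻¹ a b² a` has order three; modulo scalars `x` and `b` satisfy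
the relations of the generators `(0 1 2)`, `(0 1)(2 3 4 5)` of `A₆`.  All matrix identities are checked over `ℤ[φ, ω]`.
-/

set_option autoImplicit false

namespace Cfsg.Agent.H956.K1

open Matrix

/-- `a + b φ + c ω + d φ ω` -/
structure Q where
  a : ℤ
  b : ℤ
  c : ℤ
  d : ℤ
deriving DecidableEq

namespace Q

/-- sum -/
def add (x y : Q) : Q := ⟨x.a + y.a, x.b + y.b, x.c + y.c, x.d + y.d⟩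

/-- product -/
def mul (x y : Q) : Q :=
  ⟨x.a * y.a + x.b * y.b - (x.c * y.c + x.d * y.d),
   x.a * y.b + x.b * y.a + x.b * y.b - (x.c * y.d + x.d * y.c + x.d * y.d),
   x.a * y.c + x.b * y.d + (x.c * y.a + x.d * y.b) - (x.c * y.c + x.d * y.d),
   x.a * y.d + x.b * y.c + x.b * y.d + (x.c * y.b + x.d * y.a + x.d * y.b) - (x.c * y.d + x.d * y.c + x.d * y.d)⟩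

variable {E : Type*} [CommRing E]

/-- evaluation -/
def ev (φ ω : E) (x : Q) : E := (x.a : E) + x.b * φ + (x.c + x.d * φ) * ω

theorem ev_add (φ ω : E) (x y : Q) : (add x y).ev φ ω = x.ev φ ω + y.ev φ ω := by
  simp only [ev, add, Int.cast_add]
  ring

theorem ev_mul {φ ω : E} (hφ : φ * φ = φ + 1) (hω : ω * ω = -ω - 1) (x y : Q) :
    (mul x y).ev φ ω = x.ev φ ω * y.ev φ ω := by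
  simp only [ev, mul, Int.cast_add, Int.cast_sub, Int.cast_mul]
  linear_combination (-(x.b * y.b : E) - ((x.b * y.d : E) + x.d * y.b) * ω + (x.d * y.d : E) * (ω + 1)) * hφ -
    ((x.c : E) + x.d * φ) * ((y.c : E) + y.d * φ) * hω

end Q

/-- `3 × 3` matrices over `ℤ[φ, ω]` -/
abbrev M := Fin 3 → Fin 3 → Q

/-- the matrix product -/
def mm (X Y : M) : M := fun i j => ((X i 0).mul (Y 0 j)).add (((X i 1).mul (Y 1 j)).add ((X i 2).mul (Y 2 j)))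

section ev

variable {E : Type*} [CommRing E]

/-- evaluation of matrices -/
def ev (φ ω : E) (X : M) : Matrix (Fin 3) (Fin 3) E := Matrix.of fun i j => (X i j).ev φ ω

theorem ev_apply (φ ω : E) (X : M) (i j : Fin 3) : ev φ ω X i j = (X i j).ev φ ω := rfl

theorem ev_mm {φ ω : E} (hφ : φ * φ = φ + 1) (hω : ω * ω = -ω - 1) (X Y : M) :
    ev φ ω (mm X Y) = ev φ ω X * ev φ ω Y := by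
  ext i j
  rw [Matrix.mul_apply, Fin.sum_univ_three]
  simp only [ev_apply, mm, Q.ev_add, Q.ev_mul hφ hω]
  ring

end ev

/-- identity -/
def mI : M := ![![⟨1, 0, 0, 0⟩, ⟨0, 0, 0, 0⟩, ⟨0, 0, 0, 0⟩], ![⟨0, 0, 0, 0⟩, ⟨1, 0, 0, 0⟩, ⟨0, 0, 0, 0⟩], ![⟨0, 0, 0, 0⟩, ⟨0, 0, 0, 0⟩, ⟨1, 0, 0, 0⟩]]

/-- the involution -/
def mA : M := ![![⟨1, 0, 0, 0⟩, ⟨1, 0, 0, 1⟩, ⟨0, -1, 0, 0⟩], ![⟨0, 0, 0, 0⟩, ⟨-1, 0, 0, 0⟩, ⟨0, 0, 0, 0⟩], ![⟨0, 0, 0, 0⟩, ⟨0, 0, 0, 0⟩, ⟨-1, 0, 0, 0⟩]]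

/-- the element of order four -/
def mB : M := ![![⟨0, 0, 0, 0⟩, ⟨0, 0, 0, 0⟩, ⟨1, 0, 0, 0⟩], ![⟨1, 0, 0, 0⟩, ⟨0, 0, 0, 0⟩, ⟨-1, 0, 0, 0⟩], ![⟨0, 0, 0, 0⟩, ⟨1, 0, 0, 0⟩, ⟨1, 0, 0, 0⟩]]

/-- the square of `mB` -/
def mB2 : M := ![![⟨0, 0, 0, 0⟩, ⟨1, 0, 0, 0⟩, ⟨1, 0, 0, 0⟩], ![⟨0, 0, 0, 0⟩, ⟨-1, 0, 0, 0⟩, ⟨0, 0, 0, 0⟩], ![⟨1, 0, 0, 0⟩, ⟨1, 0, 0, 0⟩, ⟨0, 0, 0, 0⟩]]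

/-- the inverse of `mB` -/
def mB3 : M := ![![⟨1, 0, 0, 0⟩, ⟨1, 0, 0, 0⟩, ⟨0, 0, 0, 0⟩], ![⟨-1, 0, 0, 0⟩, ⟨0, 0, 0, 0⟩, ⟨1, 0, 0, 0⟩], ![⟨1, 0, 0, 0⟩, ⟨0, 0, 0, 0⟩, ⟨0, 0, 0, 0⟩]]

/-- the element of order three -/
def mX : M := ![![⟨0, 1, 0, 0⟩, ⟨0, 0, 1, 0⟩, ⟨0, -1, 0, 0⟩], ![⟨0, 0, 1, 0⟩, ⟨0, 0, 0, 0⟩, ⟨-1, 1, 0, 0⟩], ![⟨1, 0, 0, 0⟩, ⟨0, 0, 0, 1⟩, ⟨0, -1, 0, 0⟩]]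

/-- the inverse of `mX` -/
def mX2 : M := ![![⟨0, 0, -1, 0⟩, ⟨0, 0, -1, 0⟩, ⟨0, 0, -1, 1⟩], ![⟨-1, 1, 0, 1⟩, ⟨-1, 0, 0, 0⟩, ⟨-1, 0, 0, -1⟩], ![⟨0, -1, 0, -1⟩, ⟨0, 0, 0, -1⟩, ⟨1, 0, 1, 0⟩]]

/-- matrix -/
def c1 : M := ![![⟨0, 0, 1, 0⟩, ⟨0, 0, 0, 0⟩, ⟨0, 0, 0, 0⟩], ![⟨0, 0, 0, 0⟩, ⟨0, 0, 1, 0⟩, ⟨0, 0, 0, 0⟩], ![⟨0, 0, 0, 0⟩, ⟨0, 0, 0, 0⟩, ⟨0, 0, 1, 0⟩]]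

/-- matrix -/
def c2 : M := ![![⟨-1, 0, -1, 0⟩, ⟨0, 0, 0, 0⟩, ⟨0, 0, 0, 0⟩], ![⟨0, 0, 0, 0⟩, ⟨-1, 0, -1, 0⟩, ⟨0, 0, 0, 0⟩], ![⟨0, 0, 0, 0⟩, ⟨0, 0, 0, 0⟩, ⟨-1, 0, -1, 0⟩]]

/-- matrix -/
def wa1 : M := ![![⟨0, 0, 0, 0⟩, ⟨0, 0, 0, 0⟩, ⟨-1, 0, 0, 0⟩], ![⟨1, 0, 0, 0⟩, ⟨1, 0, 0, 1⟩, ⟨1, -1, 0, 0⟩], ![⟨0, 0, 0, 0⟩, ⟨-1, 0, 0, 0⟩, ⟨-1, 0, 0, 0⟩]]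

/-- matrix -/
def wa2 : M := ![![⟨-1, 0, 0, 0⟩, ⟨0, 0, 0, 0⟩, ⟨0, 0, 0, 0⟩], ![⟨1, -1, 0, -1⟩, ⟨1, 0, 0, 0⟩, ⟨1, 0, 0, 1⟩], ![⟨0, 0, 0, 0⟩, ⟨0, 0, 0, 0⟩, ⟨-1, 0, 0, 0⟩]]

/-- matrix -/
def wa3 : M := ![![⟨-1, 0, 0, 0⟩, ⟨-1, 0, 0, -1⟩, ⟨0, 1, 0, 0⟩], ![⟨1, -1, 0, -1⟩, ⟨1, 0, 0, 0⟩, ⟨0, 0, 1, 0⟩], ![⟨0, 0, 0, 0⟩, ⟨0, 0, 0, 0⟩, ⟨1, 0, 0, 0⟩]]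

/-- matrix -/
def wa4 : M := ![![⟨0, 1, 0, 0⟩, ⟨0, 1, 0, 1⟩, ⟨-1, 0, 0, 0⟩], ![⟨0, 0, 1, 0⟩, ⟨0, -1, 1, -1⟩, ⟨1, -1, 0, -1⟩], ![⟨1, 0, 0, 0⟩, ⟨1, 0, 0, 0⟩, ⟨0, 0, 0, 0⟩]]

/-- matrix -/
def bx : M := ![![⟨1, 0, 0, 0⟩, ⟨0, 0, 0, 1⟩, ⟨0, -1, 0, 0⟩], ![⟨-1, 1, 0, 0⟩, ⟨0, 0, 1, -1⟩, ⟨0, 0, 0, 0⟩], ![⟨1, 0, 1, 0⟩, ⟨0, 0, 0, 1⟩, ⟨-1, 0, 0, 0⟩]]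

/-- matrix -/
def bxx : M := ![![⟨1, -1, 1, -1⟩, ⟨1, 0, 0, 0⟩, ⟨0, 0, 0, 0⟩], ![⟨-1, 1, -2, 1⟩, ⟨-2, 1, -1, 1⟩, ⟨-1, 0, 0, 0⟩], ![⟨0, 0, 1, 0⟩, ⟨1, -1, 1, -1⟩, ⟨1, -1, 0, -1⟩]]

/-- matrix -/
def bxy : M := ![![⟨-1, 1, 0, 0⟩, ⟨-1, 0, 0, 0⟩, ⟨-1, 0, 0, 0⟩], ![⟨1, -1, 1, -1⟩, ⟨1, 0, 1, -1⟩, ⟨1, 0, 1, 0⟩], ![⟨0, 1, -1, 1⟩, ⟨0, 0, 0, 1⟩, ⟨0, -1, 0, 0⟩]]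

/-- matrix -/
def r1 : M := ![![⟨-1, 1, -1, 1⟩, ⟨-1, 0, -1, 0⟩, ⟨-1, 0, -1, 0⟩], ![⟨0, -1, 1, -1⟩, ⟨0, 0, 1, -1⟩, ⟨1, 0, 2, -1⟩], ![⟨0, 0, -1, 0⟩, ⟨0, 0, -1, 0⟩, ⟨0, 0, -1, 1⟩]]

/-- matrix -/
def r2 : M := ![![⟨-1, 0, -1, 0⟩, ⟨-1, 0, -1, 0⟩, ⟨-1, 1, -1, 1⟩], ![⟨0, 0, 1, -1⟩, ⟨1, 0, 2, -1⟩, ⟨1, -1, 2, -1⟩], ![⟨0, 0, -1, 0⟩, ⟨0, 0, -1, 1⟩, ⟨0, 0, -1, 1⟩]]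

/-- matrix -/
def r3 : M := ![![⟨-1, 0, -1, 1⟩, ⟨-2, 0, -2, 0⟩, ⟨-1, 1, -1, 0⟩], ![⟨1, 0, 1, -1⟩, ⟨1, 0, 2, -1⟩, ⟨1, -1, 2, -1⟩], ![⟨0, 0, 0, 1⟩, ⟨0, -1, -1, 0⟩, ⟨0, 0, -2, 0⟩]]

/-- matrix -/
def q1 : M := ![![⟨1, 0, 1, 0⟩, ⟨0, 0, 0, 1⟩, ⟨-1, 0, 0, 0⟩], ![⟨0, 0, -1, 0⟩, ⟨0, 0, 0, 0⟩, ⟨1, -1, 0, 0⟩], ![⟨0, 1, 1, 0⟩, ⟨0, 0, 1, 0⟩, ⟨-1, 0, 0, 0⟩]]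

/-- matrix -/
def q2 : M := ![![⟨-1, 0, 0, 0⟩, ⟨0, 0, 1, -1⟩, ⟨1, 0, 1, 0⟩], ![⟨1, -1, 0, 0⟩, ⟨1, -1, -1, 0⟩, ⟨0, 0, -1, 0⟩], ![⟨-1, 0, 0, 0⟩, ⟨-1, 1, 0, 0⟩, ⟨0, 1, 1, 0⟩]]

/-- matrix -/
def q3 : M := ![![⟨0, 0, 1, -1⟩, ⟨0, 0, 1, -1⟩, ⟨0, 0, 1, 0⟩], ![⟨1, -1, -1, 0⟩, ⟨1, 0, -1, 1⟩, ⟨0, 0, -1, 1⟩], ![⟨-1, 1, -1, 0⟩, ⟨-1, 1, 0, 0⟩, ⟨0, 0, 1, 0⟩]]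

/-- matrix -/
def wb1 : M := ![![⟨0, 0, 1, 0⟩, ⟨0, -1, 0, 0⟩, ⟨0, 0, -1, 0⟩], ![⟨0, 0, 0, 0⟩, ⟨-1, 1, 0, 0⟩, ⟨-1, 1, 1, 0⟩], ![⟨0, 0, 0, 1⟩, ⟨0, -1, 0, 0⟩, ⟨1, -1, 0, -1⟩]]

/-- matrix -/
def wb2 : M := ![![⟨0, 0, -1, 0⟩, ⟨-1, 1, -1, 1⟩, ⟨-1, 0, 0, 0⟩], ![⟨-1, 1, 0, 1⟩, ⟨0, -1, 1, -1⟩, ⟨1, -1, 0, -1⟩], ![⟨1, -1, 1, -1⟩, ⟨1, 0, 0, 0⟩, ⟨0, 0, 0, 0⟩]]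

/-- matrix -/
def wb3 : M := ![![⟨0, -1, 0, -1⟩, ⟨0, 0, -1, 0⟩, ⟨-1, 1, -1, 1⟩], ![⟨0, 1, -1, 1⟩, ⟨-1, 1, 0, 1⟩, ⟨0, -1, 1, -1⟩], ![⟨0, -1, 1, -1⟩, ⟨1, -1, 1, -1⟩, ⟨1, 0, 0, 0⟩]]

/-- matrix -/
def wb4 : M := ![![⟨-1, 0, -1, 0⟩, ⟨-1, 1, 0, 0⟩, ⟨0, 1, 1, 0⟩], ![⟨1, -1, 1, -1⟩, ⟨2, -1, 1, -1⟩, ⟨2, -1, 1, 0⟩], ![⟨-1, 0, -1, 0⟩, ⟨-1, 1, -1, 1⟩, ⟨-1, 1, -1, 1⟩]]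

/-- matrix -/
def wb5 : M := ![![⟨0, 0, 0, 0⟩, ⟨-1, 0, -1, 0⟩, ⟨-1, 1, 0, 0⟩], ![⟨1, -1, 1, 0⟩, ⟨1, -1, 1, -1⟩, ⟨2, -1, 1, -1⟩], ![⟨-1, 0, -1, 0⟩, ⟨-1, 0, -1, 0⟩, ⟨-1, 1, -1, 1⟩]]

/-- matrix -/
def wb6 : M := ![![⟨0, 1, 0, 0⟩, ⟨0, 0, 1, 0⟩, ⟨0, -1, 1, -1⟩], ![⟨0, 0, 1, 0⟩, ⟨0, 0, 0, 0⟩, ⟨0, 0, -1, 0⟩], ![⟨0, 0, -1, 0⟩, ⟨0, 0, 0, 0⟩, ⟨0, 0, 0, 0⟩]]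

/-- matrix -/
def wb7 : M := ![![⟨0, 0, 1, 0⟩, ⟨0, -1, 1, -1⟩, ⟨0, 0, 0, -1⟩], ![⟨0, 0, 0, 0⟩, ⟨0, 0, -1, 0⟩, ⟨0, 0, 0, 0⟩], ![⟨0, 0, 0, 0⟩, ⟨0, 0, 0, 0⟩, ⟨0, 0, -1, 0⟩]]

/-- matrix -/
def mU : M := ![![⟨0, -1, 0, 0⟩, ⟨0, -1, 0, -1⟩, ⟨1, 0, 0, 0⟩], ![⟨0, 0, 0, 0⟩, ⟨1, 0, 0, 0⟩, ⟨0, 0, 0, 0⟩], ![⟨-1, 0, 0, 0⟩, ⟨-1, 0, 0, 0⟩, ⟨0, 0, 0, 0⟩]]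

/-- matrix -/
def mU2 : M := ![![⟨0, 1, 0, 0⟩, ⟨0, 0, 1, 0⟩, ⟨0, -1, 0, 0⟩], ![⟨0, 0, 0, 0⟩, ⟨1, 0, 0, 0⟩, ⟨0, 0, 0, 0⟩], ![⟨0, 1, 0, 0⟩, ⟨-1, 1, 0, 1⟩, ⟨-1, 0, 0, 0⟩]]

/-- matrix -/
def mU4 : M := ![![⟨0, 0, 0, 0⟩, ⟨-1, 0, 0, 0⟩, ⟨-1, 0, 0, 0⟩], ![⟨0, 0, 0, 0⟩, ⟨1, 0, 0, 0⟩, ⟨0, 0, 0, 0⟩], ![⟨1, 0, 0, 0⟩, ⟨0, 0, 0, 1⟩, ⟨0, -1, 0, 0⟩]]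

/-- matrix -/
def mD : M := ![![⟨1, 0, 0, 1⟩, ⟨0, -1, 0, 0⟩, ⟨0, -1, 0, -1⟩], ![⟨-1, 0, 0, 0⟩, ⟨0, 0, 0, 0⟩, ⟨1, 0, 0, 0⟩], ![⟨0, 0, 0, 0⟩, ⟨-1, 0, 0, 0⟩, ⟨-1, 0, 0, 0⟩]]

/-- matrix -/
def mD2 : M := ![![⟨0, 0, -1, 1⟩, ⟨0, 0, -1, 0⟩, ⟨1, 0, 0, 0⟩], ![⟨-1, 0, 0, -1⟩, ⟨-1, 1, 0, 0⟩, ⟨-1, 1, 0, 1⟩], ![⟨1, 0, 0, 0⟩, ⟨1, 0, 0, 0⟩, ⟨0, 0, 0, 0⟩]]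

/-- matrix -/
def mD4 : M := ![![⟨-1, 0, -1, 0⟩, ⟨0, 1, 0, 0⟩, ⟨0, 1, 0, 1⟩], ![⟨1, 0, 1, 0⟩, ⟨1, -1, 1, 0⟩, ⟨1, -1, 1, -1⟩], ![⟨-1, 0, -1, 0⟩, ⟨-1, 1, -1, 0⟩, ⟨0, 1, 0, 1⟩]]

/-- matrix -/
def wc5 : M := ![![⟨-1, 1, 0, 0⟩, ⟨0, 1, 1, 0⟩, ⟨0, 0, 0, 0⟩], ![⟨2, -1, 1, -1⟩, ⟨2, -1, 1, 0⟩, ⟨1, -1, 1, 0⟩], ![⟨-1, 1, -1, 1⟩, ⟨-1, 1, -1, 1⟩, ⟨-1, 0, -1, 0⟩]]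

/-- matrix -/
def xc : M := ![![⟨-1, 1, 0, 0⟩, ⟨-1, 1, 0, 0⟩, ⟨-1, 1, 0, 0⟩], ![⟨2, -1, 1, 0⟩, ⟨1, -1, 1, 0⟩, ⟨1, -1, 1, -1⟩], ![⟨-1, 1, -1, 1⟩, ⟨-1, 0, -1, 0⟩, ⟨0, 0, -1, 0⟩]]

/-- matrix -/
def cx : M := ![![⟨0, 0, -1, 1⟩, ⟨0, 0, -1, 1⟩, ⟨0, 0, -1, 1⟩], ![⟨-1, 0, 1, -1⟩, ⟨-1, 0, 0, -1⟩, ⟨-1, 1, 0, 0⟩], ![⟨1, -1, 0, 0⟩, ⟨1, 0, 0, 0⟩, ⟨1, 0, 1, 0⟩]]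

theorem mul_mA_mA : mm mA mA = mI := by decide

theorem mul_mB_mB : mm mB mB = mB2 := by decide

theorem mul_mB_mB2 : mm mB mB2 = mB3 := by decide

theorem mul_mB_mB3 : mm mB mB3 = mI := by decide

theorem mul_mB3_mB : mm mB3 mB = mI := by decide

theorem mul_mB2_mB2 : mm mB2 mB2 = mI := by decide

theorem mul_mX_mX : mm mX mX = mX2 := by decide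

theorem mul_mX_mX2 : mm mX mX2 = mI := by decide

theorem mul_mX2_mX : mm mX2 mX = mI := by decide

theorem mul_mB_mA : mm mB mA = wa1 := by decide

theorem mul_wa1_mB3 : mm wa1 mB3 = wa2 := by decide

theorem mul_wa2_mA : mm wa2 mA = wa3 := by decide

theorem mul_wa3_mB2 : mm wa3 mB2 = wa4 := by decide

theorem mul_wa4_mA : mm wa4 mA = mX := by decide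

theorem mul_mB_mX : mm mB mX = bx := by decide

theorem mul_bx_bx : mm bx bx = bxx := by decide

theorem mul_bxx_bxx : mm bxx bxx = bxy := by decide

theorem mul_bxy_bx : mm bxy bx = c2 := by decide

theorem mul_mB3_mX2 : mm mB3 mX2 = r1 := by decide

theorem mul_r1_mB : mm r1 mB = r2 := by decide

theorem mul_mX_r2 : mm mX r2 = r3 := by decide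

theorem mul_r3_r3 : mm r3 r3 = c2 := by decide

theorem mul_mB2_mX : mm mB2 mX = q1 := by decide

theorem mul_q1_mB2 : mm q1 mB2 = q2 := by decide

theorem mul_mX_q2 : mm mX q2 = q3 := by decide

theorem mul_q3_q3 : mm q3 q3 = c1 := by decide

theorem mul_mX_mB : mm mX mB = wb1 := by decide

theorem mul_wb1_mX : mm wb1 mX = wb2 := by decide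

theorem mul_wb2_mB3 : mm wb2 mB3 = wb3 := by decide

theorem mul_wb3_mX : mm wb3 mX = wb4 := by decide

theorem mul_wb4_mB3 : mm wb4 mB3 = wb5 := by decide

theorem mul_wb5_mX : mm wb5 mX = wb6 := by decide

theorem mul_wb6_mB : mm wb6 mB = wb7 := by decide

theorem mul_mA_mB2 : mm mA mB2 = mU := by decide

theorem mul_mU_mU : mm mU mU = mU2 := by decide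

theorem mul_mU2_mU2 : mm mU2 mU2 = mU4 := by decide

theorem mul_mU4_mU : mm mU4 mU = mI := by decide

theorem mul_mA_mB : mm mA mB = mD := by decide

theorem mul_mD_mD : mm mD mD = mD2 := by decide

theorem mul_mD2_mD2 : mm mD2 mD2 = mD4 := by decide

theorem mul_mD4_mD : mm mD4 mD = c2 := by decide

theorem mul_wb4_mB : mm wb4 mB = wc5 := by decide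

theorem mul_mX_wc5 : mm mX wc5 = xc := by decide

theorem mul_wc5_mX : mm wc5 mX = cx := by decide

end Cfsg.Agent.H956.K1
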