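import Cfsg.Agent.H956.K1.Lift
import Cfsg.Agent.H956.K1.Dec

/-!
# The threefold cover of `A₆` (helper956)

`Cov P` : `P` is a perfect central extension of `A₆` with kernel of order `3`, with standard generators `a`, `b`.
-/

set_option autoImplicit false
set_option maxRecDepth 20000

namespace Cfsg.Agent.H956.K1

open Matrix Cfsg Cfsg.Geo Cfsg.Agent.H173.Pres Equiv

/-- a perfect threefold cover of `A₆` with standard generators -/
structure Cov (P : Type*) [Group P] where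
  /-- the projection -/
  π : P →* alternatingGroup (Fin 6)
  surj : Function.Surjective π
  cent : π.ker ≤ Subgroup.center P
  card : Nat.card π.ker = 3
  perf : commutator P = ⊤
  /-- the involution -/
  a : P
  /-- the element of order four -/
  b : P
  πa : π a = ta
  πb : π b = zs6
  a2 : a ^ 2 = 1
  b4 : b ^ 4 = 1

theorem ker_cube {P : Type*} [Group P] {π : P →* alternatingGroup (Fin 6)} (h : Nat.card π.ker = 3) {k : P}
    (hk : k ∈ π.ker) : k ^ 3 = 1 := by
  have h4 : (⟨k, hk⟩ : π.ker) ^ Nat.card π.ker = 1 := pow_card_eq_one'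
  rw [h] at h4
  exact congrArg Subtype.val h4

theorem exists_cov {P : Type*} [Group P] (π : P →* alternatingGroup (Fin 6)) (hs : Function.Surjective π)
    (hc : π.ker ≤ Subgroup.center P) (h3 : Nat.card π.ker = 3) (hp : commutator P = ⊤) :
    ∃ C : Cov P, C.π = π := by
  obtain ⟨g, hg⟩ := hs ta
  obtain ⟨k, hk⟩ := hs zs6
  have h1 : g ^ 2 ∈ π.ker := by
    rw [MonoidHom.mem_ker, map_pow, hg]
    decide
  have h2 : k ^ 4 ∈ π.ker := by
    rw [MonoidHom.mem_ker, map_pow, hk]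
    decide
  refine ⟨⟨π, hs, hc, h3, hp, g ^ 3, k ^ 9, ?_, ?_, ?_, ?_⟩, rfl⟩
  · rw [map_pow, hg]
    decide
  · rw [map_pow, hk]
    decide
  · rw [← pow_mul, mul_comm, pow_mul]
    exact ker_cube h3 h1
  · rw [← pow_mul, mul_comm, pow_mul, show 9 = 3 * 3 from rfl, pow_mul, ker_cube h3 h2, one_pow]

instance fact19 : Fact (Nat.Prime 19) := ⟨by norm_num⟩

/-- the parameters in the field with `19` elements -/
def par19 : Par (ZMod 19) where
  φ := 5
  ω := 7
  hφ := by decide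
  hω := by decide
  h3 := by decide

namespace Cov

variable {P : Type*} [Group P] (C : Cov P)

/-- the generator of the kernel -/
def z : P := (C.a * C.b) ^ 5
/-- an element of order three -/
def x : P := C.b * C.a * C.b⁻¹ * C.a * C.b ^ 2 * C.a
/-- an element of order three -/
def c : P := C.x * C.b * C.x * C.b⁻¹ * C.x * C.b
/-- the element of order five -/
def u : P := C.a * C.b ^ 2

theorem πx : C.π C.x = za6 := by
  unfold x
  simp only [map_mul, map_pow, map_inv, C.πa, C.πb]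
  exact word_za

theorem πc : C.π C.c = tc := by
  unfold c
  simp only [map_mul, map_inv, C.πx, C.πb]
  exact word_tc

theorem πu : C.π C.u = ta * zs6 ^ 2 := by
  unfold u
  simp only [map_mul, map_pow, C.πa, C.πb]

theorem z_mem : C.z ∈ C.π.ker := by
  unfold z
  rw [MonoidHom.mem_ker]
  simp only [map_mul, map_pow, C.πa, C.πb]
  decide

theorem ker_comm {k : P} (hk : k ∈ C.π.ker) (g : P) : g * k = k * g := Subgroup.mem_center_iff.1 (C.cent hk) g

theorem z_comm (g : P) : g * C.z = C.z * g := C.ker_comm C.z_mem g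

theorem z_cube : C.z ^ 3 = 1 := ker_cube C.card C.z_mem

/-- `a`, `b` generate `P` -/
theorem closure_ab : Subgroup.closure {C.a, C.b} = ⊤ := by
  set D := Subgroup.closure {C.a, C.b} with hD
  have ha : C.a ∈ D := Subgroup.subset_closure (by simp)
  have hb : C.b ∈ D := Subgroup.subset_closure (by simp)
  have hmap : D.map C.π = ⊤ := by
    rw [hD, MonoidHom.map_closure, eq_top_iff, ← closure_ta]
    apply Subgroup.closure_mono
    rintro y (rfl | hy)
    · exact ⟨C.a, by simp, C.πa⟩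
    · rw [Set.mem_singleton_iff.1 hy]
      exact ⟨C.b, by simp, C.πb⟩
  have hex : ∀ g : P, ∃ d ∈ D, ∃ k ∈ C.π.ker, g = d * k := by
    intro g
    have : C.π g ∈ D.map C.π := by rw [hmap]; trivial
    obtain ⟨d, hd, hdg⟩ := this
    exact ⟨d, hd, d⁻¹ * g, by rw [MonoidHom.mem_ker, map_mul, map_inv, hdg, inv_mul_cancel],
      (mul_inv_cancel_left d g).symm⟩
  have hle : commutator P ≤ D := by
    rw [commutator_def, Subgroup.commutator_le]
    intro g _ h _
    obtain ⟨d, hd, k, hk, hg⟩ := hex g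
    obtain ⟨e, he, l, hl, hh⟩ := hex h
    have c1 := C.ker_comm hk
    have c2 := C.ker_comm hl
    have e1 : g * h * g⁻¹ * h⁻¹ = d * e * d⁻¹ * e⁻¹ := by
      rw [hg, hh, _root_.mul_inv_rev, _root_.mul_inv_rev]
      calc d * k * (e * l) * (k⁻¹ * d⁻¹) * (l⁻¹ * e⁻¹)
          = d * (k * (e * l)) * k⁻¹ * d⁻¹ * l⁻¹ * e⁻¹ := by group
        _ = d * ((e * l) * k) * k⁻¹ * d⁻¹ * l⁻¹ * e⁻¹ := by rw [c1]
        _ = d * e * (l * d⁻¹) * l⁻¹ * e⁻¹ := by group
        _ = d * e * (d⁻¹ * l) * l⁻¹ * e⁻¹ := by rw [c2]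
        _ = d * e * d⁻¹ * e⁻¹ := by group
    rw [commutatorElement_def, e1]
    exact mul_mem (mul_mem (mul_mem hd he) (inv_mem hd)) (inv_mem he)
  rw [C.perf] at hle
  exact top_le_iff.1 hle

/-- **The explicit representation.** -/
theorem exists_rep [Finite P] {E : Type*} [Field E] (p : Par E) :
    ∃ ρ : P →* GL (Fin 3) E, ρ C.a = p.gA ∧ ρ C.b = p.gB ∧ Function.Injective ρ := by
  obtain ⟨θ, hA, hB, -, -, hinj⟩ := p.exists_theta
  obtain ⟨ρ, h1, h2⟩ := p.exists_hom C.perf C.π C.surj C.cent C.card hA hB hinj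
  have key : ∀ (g : P) (h : GL (Fin 3) E) (n : ℕ), Par.q E (ρ g) = Par.q E h → (h : Matrix (Fin 3) (Fin 3) E).det = 1 →
      g ^ n = 1 → h ^ n = 1 → n.Coprime 3 → ρ g = h := by
    intro g h n h3 hd hg hh hn
    obtain ⟨c, hc⟩ := Par.q_eq.1 h3
    have h4 : (c : E) ^ 3 = 1 := by
      have := p.G_det (h2 g)
      rw [hc, Matrix.det_smul, hd, mul_one, Fintype.card_fin] at this
      exact this
    have h5 : (c : E) ^ n = 1 := by
      have h6 : ((ρ g ^ n : GL (Fin 3) E) : Matrix (Fin 3) (Fin 3) E) = 1 := by rw [← map_pow, hg, map_one, Units.val_one]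
      have h8 : (h : Matrix (Fin 3) (Fin 3) E) ^ n = 1 := by rw [← Units.val_pow_eq_pow_val, hh, Units.val_one]
      rw [Units.val_pow_eq_pow_val, hc, smul_pow, h8] at h6
      have h7 := congrFun (congrFun h6 0) 0
      simpa using h7
    have h6 : (c : E) = 1 := by
      have h7 := orderOf_dvd_of_pow_eq_one h4
      have h8 := orderOf_dvd_of_pow_eq_one h5
      have h9 := Nat.dvd_gcd h8 h7
      rw [hn] at h9
      exact orderOf_eq_one_iff.1 (Nat.dvd_one.1 h9)
    apply Units.ext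
    rw [hc, h6, one_smul]
  have ea : ρ C.a = p.gA := key _ _ 2 (by rw [h1, C.πa, hA]) p.det_A C.a2 p.gA_sq (by decide)
  have eb : ρ C.b = p.gB := key _ _ 4 (by rw [h1, C.πb, hB]) p.det_B C.b4 p.gB_four (by decide)
  refine ⟨ρ, ea, eb, ?_⟩
  rw [injective_iff_map_eq_one]
  have hle : ρ.ker ≤ C.π.ker := by
    intro g hg
    rw [MonoidHom.mem_ker] at hg ⊢
    apply hinj
    rw [← h1, hg, map_one, map_one]
  have h3 : Nat.card ρ.ker ∣ 3 := by
    have := Subgroup.card_dvd_of_le hle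
    rwa [C.card] at this
  rcases (Nat.dvd_prime Nat.prime_three).1 h3 with h | h
  · intro g hg
    have := Subgroup.card_eq_one.1 h
    have h4 : g ∈ ρ.ker := hg
    rw [this] at h4
    exact h4
  · exfalso
    have h4 : ρ.ker = C.π.ker := by
      apply Subgroup.eq_of_le_of_card_ge hle
      rw [h, C.card]
    have h5 : C.z ∈ ρ.ker := by rw [h4]; exact C.z_mem
    rw [MonoidHom.mem_ker] at h5
    unfold z at h5
    rw [map_pow, map_mul, ea, eb] at h5
    have h6 := p.d_five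
    rw [h5, Units.val_one] at h6
    have h7 := congrFun (congrFun h6 0) 0
    simp at h7
    have h8 := p.ω_cube
    have h9 : p.ω * (p.ω * p.ω) = p.ω := by rw [← h7, mul_one]
    apply p.ω_ne_one
    linear_combination h8 - h9

section rep

variable {C} {E : Type*} [Field E] {p : Par E} {ρ : P →* GL (Fin 3) E} (ha : ρ C.a = p.gA) (hb : ρ C.b = p.gB)

include ha hb

theorem rep_x : ρ C.x = p.gX := by
  unfold x
  simp only [map_mul, map_pow, map_inv, ha, hb]
  exact p.gX_eq.symm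

theorem rep_c : ρ C.c = p.gC := by
  unfold c
  simp only [map_mul, map_inv, rep_x ha hb, hb]
  rfl

theorem rep_u : ρ C.u = p.gA * p.gB ^ 2 := by
  unfold u
  rw [map_mul, map_pow, ha, hb]

theorem rep_z : (ρ C.z : Matrix (Fin 3) (Fin 3) E) = (p.ω * p.ω) • 1 := by
  unfold z
  rw [map_pow, map_mul, ha, hb]
  exact p.d_five

end rep

/-- the relation between the two elements of order three -/
theorem rel [Finite P] : C.x * C.c = C.z * (C.c * C.x) := by
  obtain ⟨ρ, ha, hb, hi⟩ := C.exists_rep par19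
  apply hi
  apply Units.ext
  rw [map_mul, map_mul, map_mul, rep_x ha hb, rep_c ha hb, Units.val_mul (ρ C.z), rep_z ha hb, Matrix.smul_mul, one_mul]
  exact par19.comm_XC

theorem u_five [Finite P] : C.u ^ 5 = 1 := by
  obtain ⟨ρ, ha, hb, hi⟩ := C.exists_rep par19
  apply hi
  rw [map_pow, rep_u ha hb, map_one]
  exact par19.u_five

theorem z_ne_one [Finite P] : C.z ≠ 1 := by
  obtain ⟨ρ, ha, hb, hi⟩ := C.exists_rep par19
  intro h
  have h1 := rep_z ha hb
  rw [h, map_one, Units.val_one] at h1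
  have h2 := congrFun (congrFun h1 0) 0
  revert h2
  rw [Matrix.smul_apply, Matrix.one_apply_eq]
  show ¬ (1 : ZMod 19) = (7 * 7 : ZMod 19) • (1 : ZMod 19)
  decide

theorem mem_ker [Finite P] {k : P} (hk : k ∈ C.π.ker) : ∃ i : ℕ, k = C.z ^ i := by
  have h1 : Subgroup.zpowers C.z = C.π.ker := by
    apply Subgroup.eq_of_le_of_card_ge
    · rw [Subgroup.zpowers_le]
      exact C.z_mem
    · rw [C.card, Nat.card_zpowers]
      exact (orderOf_eq_prime C.z_cube C.z_ne_one).ge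
  rw [← h1] at hk
  rw [← mem_powers_iff_mem_zpowers, Submonoid.mem_powers_iff] at hk
  obtain ⟨i, hi⟩ := hk
  exact ⟨i, hi.symm⟩

/-- **Conjugacy lifts for elements of order prime to three.** -/
theorem conj_lift {n : ℕ} (hn : n.Coprime 3) {g h t : P} (hg : g ^ n = 1) (hh : h ^ n = 1)
    (ht : C.π t * C.π g = C.π h * C.π t) : t * g = h * t := by
  have h1 : h⁻¹ * (t * g * t⁻¹) ∈ C.π.ker := by
    rw [MonoidHom.mem_ker]
    simp only [map_mul, map_inv, ht]
    group
  obtain ⟨k, hk⟩ : ∃ k, k = h⁻¹ * (t * g * t⁻¹) := ⟨_, rfl⟩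
  rw [← hk] at h1
  have h2 : t * g * t⁻¹ = h * k := by rw [hk]; group
  have h3 : k ^ 3 = 1 := ker_cube C.card h1
  have h4 : k ^ n = 1 := by
    have h5 : (t * g * t⁻¹) ^ n = 1 := by rw [conj_pow, hg, mul_one, mul_inv_cancel]
    have hc : Commute h k := C.ker_comm h1 h
    rw [h2, hc.mul_pow, hh, one_mul] at h5
    exact h5
  have h6 : k = 1 := by
    have h9 := Nat.dvd_gcd (orderOf_dvd_of_pow_eq_one h4) (orderOf_dvd_of_pow_eq_one h3)
    rw [hn] at h9
    exact orderOf_eq_one_iff.1 (Nat.dvd_one.1 h9)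
  rw [h6, mul_one] at h2
  rw [← h2]
  group

theorem b_conj : ∃ t, t * C.b = C.b⁻¹ * t := by
  obtain ⟨t, ht⟩ := C.surj ⟨swap 2 3 * swap 4 5, Perm.mem_alternatingGroup.2 (by decide)⟩
  refine ⟨t, C.conj_lift (n := 4) (by decide) C.b4 (by rw [inv_pow, C.b4, inv_one]) ?_⟩
  rw [map_inv, ht, C.πb]
  decide

theorem u_conj [Finite P] : ∃ t, t * C.u = C.u⁻¹ * t := by
  obtain ⟨t, ht⟩ := C.surj ⟨swap 2 4 * swap 3 5, Perm.mem_alternatingGroup.2 (by decide)⟩
  refine ⟨t, C.conj_lift (n := 5) (by decide) C.u_five (by rw [inv_pow, C.u_five, inv_one]) ?_⟩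
  rw [map_inv, ht, C.πu]
  decide

/-- the lift of order five of `ab` -/
def d : P := C.a * C.b * C.z

theorem d_five : C.d ^ 5 = 1 := by
  have h : Commute (C.a * C.b) C.z := C.z_comm _
  unfold d
  rw [h.mul_pow]
  show C.z * C.z ^ 5 = 1
  rw [← pow_succ', show 5 + 1 = 3 * 2 from rfl, pow_mul, C.z_cube, one_pow]

theorem d_conj : ∃ t, t * C.d = C.d⁻¹ * t := by
  obtain ⟨t, ht⟩ := C.surj ⟨swap 1 4 * swap 3 5, Perm.mem_alternatingGroup.2 (by decide)⟩
  refine ⟨t, C.conj_lift (n := 5) (by decide) C.d_five (by rw [inv_pow, C.d_five, inv_one]) ?_⟩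
  have : C.π C.d = ta * zs6 := by
    unfold d
    rw [map_mul, MonoidHom.mem_ker.1 C.z_mem, mul_one, map_mul, C.πa, C.πb]
  rw [map_inv, ht, this]
  decide

/-- the seven representatives -/
def reps : Set P := {1, C.a, C.b, C.u, C.u ^ 2, C.x, C.x * C.c}

theorem t_reps (g : alternatingGroup (Fin 6)) : ∃ t r, (r = 1 ∨ r = ta ∨ r = zs6 ∨ r = ta * zs6 ^ 2 ∨
    r = (ta * zs6 ^ 2) ^ 2 ∨ r = za6 ∨ r = za6 * tc) ∧ t * g = r * t := by
  have ea : (ta : Perm (Fin 6)) = Dec.pa := by decide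
  have eb : (zs6 : Perm (Fin 6)) = Dec.pb := by decide
  have eu : ((ta * zs6 ^ 2 : alternatingGroup (Fin 6)) : Perm (Fin 6)) = Dec.pu := by decide
  have ex : (za6 : Perm (Fin 6)) = Dec.px := by decide
  have ew : ((za6 * tc : alternatingGroup (Fin 6)) : Perm (Fin 6)) = Dec.pw := by decide
  have hs : Perm.sign (g : Perm (Fin 6)) = 1 := Perm.mem_alternatingGroup.1 g.2
  have mk : ∀ (r : alternatingGroup (Fin 6)) (τ : Perm (Fin 6)), Perm.sign τ = 1 → τ * g = r * τ →
      ∃ t : alternatingGroup (Fin 6), t * g = r * t := by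
    intro r τ h1 h2
    exact ⟨⟨τ, Perm.mem_alternatingGroup.2 h1⟩, Subtype.ext h2⟩
  have one : ∀ n : ℕ, g ^ n = 1 ↔ (g : Perm (Fin 6)) ^ n = 1 := by
    intro n
    rw [← Subgroup.coe_pow]
    exact ⟨fun h => by rw [h]; rfl, fun h => Subtype.ext h⟩
  have one' : g = 1 ↔ (g : Perm (Fin 6)) = 1 := ⟨fun h => by rw [h]; rfl, fun h => Subtype.ext h⟩
  by_cases h1 : g = 1
  · exact ⟨1, 1, Or.inl rfl, by rw [h1]⟩
  rw [one'] at h1
  by_cases h4 : (g : Perm (Fin 6)) ^ 4 = 1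
  · by_cases h2 : (g : Perm (Fin 6)) ^ 2 = 1
    · obtain ⟨τ, -, -, h5, h6⟩ := Dec.two_dec g h2 h1 hs
      rw [← ea] at h6
      obtain ⟨t, ht⟩ := mk _ τ h5 h6
      exact ⟨t, ta, Or.inr (Or.inl rfl), ht⟩
    · obtain ⟨τ, -, -, h5, h6⟩ := Dec.four_dec g h4 h2 hs
      rw [← eb] at h6
      obtain ⟨t, ht⟩ := mk _ τ h5 h6
      exact ⟨t, zs6, Or.inr (Or.inr (Or.inl rfl)), ht⟩
  · by_cases h3 : (g : Perm (Fin 6)) ^ 3 = 1
    · obtain ⟨τ, ⟨-, -, h5, h6⟩ | ⟨-, -, h5, h6⟩⟩ := Dec.three_dec g h3 h1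
      · rw [← ex] at h6
        obtain ⟨t, ht⟩ := mk _ τ h5 h6
        exact ⟨t, za6, Or.inr (Or.inr (Or.inr (Or.inr (Or.inr (Or.inl rfl))))), ht⟩
      · rw [← ew] at h6
        obtain ⟨t, ht⟩ := mk _ τ h5 h6
        exact ⟨t, za6 * tc, Or.inr (Or.inr (Or.inr (Or.inr (Or.inr (Or.inr rfl))))), ht⟩
    · have h5 : (g : Perm (Fin 6)) ^ 5 = 1 := by
        by_contra h5
        exact Dec.ord_dec g h4 h3 h5 hs
      obtain ⟨τ, ⟨-, -, h5, h6⟩ | ⟨-, -, h5, h6⟩⟩ := Dec.five_dec g h5 h1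
      · rw [← eu] at h6
        obtain ⟨t, ht⟩ := mk _ τ h5 h6
        exact ⟨t, ta * zs6 ^ 2, Or.inr (Or.inr (Or.inr (Or.inl rfl))), ht⟩
      · rw [← eu, ← Subgroup.coe_pow] at h6
        obtain ⟨t, ht⟩ := mk _ τ h5 h6
        exact ⟨t, (ta * zs6 ^ 2) ^ 2, Or.inr (Or.inr (Or.inr (Or.inr (Or.inl rfl)))), ht⟩

/-- **Every element is conjugate to a representative up to the centre.** -/
theorem exists_reps [Finite P] (g : P) : ∃ (t r : P) (i : ℕ), r ∈ C.reps ∧ t * g = C.z ^ i * r * t := by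
  obtain ⟨t, r, hr, ht⟩ := t_reps (C.π g)
  obtain ⟨t, rfl⟩ := C.surj t
  obtain ⟨r', hr', hrr⟩ : ∃ r' ∈ C.reps, C.π r' = r := by
    rcases hr with rfl | rfl | rfl | rfl | rfl | rfl | rfl
    · exact ⟨1, by simp [reps], map_one _⟩
    · exact ⟨C.a, by simp [reps], C.πa⟩
    · exact ⟨C.b, by simp [reps], C.πb⟩
    · exact ⟨C.u, by simp [reps], C.πu⟩
    · exact ⟨C.u ^ 2, by simp [reps], by rw [map_pow, C.πu]⟩
    · exact ⟨C.x, by simp [reps], C.πx⟩
    · exact ⟨C.x * C.c, by simp [reps], by rw [map_mul, C.πx, C.πc]⟩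
  have h1 : t * g * t⁻¹ * r'⁻¹ ∈ C.π.ker := by
    rw [MonoidHom.mem_ker]
    simp only [map_mul, map_inv, ht, hrr]
    group
  obtain ⟨i, hi⟩ := C.mem_ker h1
  refine ⟨t, r', i, hr', ?_⟩
  rw [← hi]
  group

/-- a class function with a central character is determined by its values on the representatives -/
theorem eq_zero_of_reps [Finite P] {E : Type*} [Field E] {ζ : E} (D : P → E) (h1 : ∀ g t, D (t * g * t⁻¹) = D g)
    (h2 : ∀ g, D (C.z * g) = ζ * D g) (h3 : ∀ r ∈ C.reps, D r = 0) (g : P) : D g = 0 := by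
  obtain ⟨t, r, i, hr, ht⟩ := C.exists_reps g
  have h4 : ∀ (i : ℕ) (g : P), D (C.z ^ i * g) = ζ ^ i * D g := by
    intro i
    induction i with
    | zero => intro g; rw [pow_zero, one_mul, pow_zero, one_mul]
    | succ i ih => intro g; rw [pow_succ, mul_assoc, ih, h2, pow_succ, mul_assoc]
  have h5 : t * g * t⁻¹ = C.z ^ i * r := by rw [ht]; group
  rw [← h1 g t, h5, h4, h3 r hr, mul_zero]

end Cov

end Cfsg.Agent.H956.K1
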