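import Cfsg.Agent.H956.K1.PSide

/-!
# The three-dimensional representations of `3.A₆` (helper956)

`Cov.rep3` : every `R : P → GL₃(E)` with `R z = ω²` is conjugate to the explicit representation for `φ` or for `1 - φ`.
-/

set_option autoImplicit false
set_option maxRecDepth 20000

namespace Cfsg.Agent.H956.K1

open Matrix Cfsg Cfsg.Geo Cfsg.Agent.H173.Pres Module

section three

variable {E : Type*} [Field E]

/-- the formula for the adjugate of a `3 × 3` matrix -/
theorem adj_three (M : Matrix (Fin 3) (Fin 3) E) :
    M.adjugate = M * M - M.trace • M + M.adjugate.trace • 1 := by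
  rw [Matrix.adjugate_fin_three]
  ext i j
  fin_cases i <;> fin_cases j <;>
    simp [Matrix.mul_apply, Fin.sum_univ_three, Matrix.trace_fin_three, Matrix.smul_apply] <;> ring

theorem adj_add_one (M : Matrix (Fin 3) (Fin 3) E) :
    (M + 1).adjugate = M.adjugate + (M.trace • 1 - M) + 1 := by
  rw [Matrix.adjugate_fin_three, Matrix.adjugate_fin_three]
  ext i j
  fin_cases i <;> fin_cases j <;>
    simp [Matrix.trace_fin_three, Matrix.smul_apply] <;> ring

theorem adj_of_inv {M N : Matrix (Fin 3) (Fin 3) E} (h : M * N = 1) (hd : M.det = 1) : M.adjugate = N := by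
  have h1 : M.adjugate * M = 1 := by rw [Matrix.adjugate_mul, hd, one_smul]
  calc M.adjugate = M.adjugate * (M * N) := by rw [h, mul_one]
    _ = N := by rw [← mul_assoc, h1, one_mul]

set_option maxHeartbeats 2000000 in
/-- a `3 × 3` matrix with adjugate zero has rank at most one -/
theorem rank_one_of_adj {N : Matrix (Fin 3) (Fin 3) E} (h : N.adjugate = 0) (h0 : N ≠ 0) :
    ∃ v l : Fin 3 → E, v ≠ 0 ∧ N = vecMulVec v l := by
  have key : ∀ i j k m, N k m * N i j = N i m * N k j := by
    rw [Matrix.adjugate_fin_three] at h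
    have h00 := congrFun (congrFun h 0) 0
    have h01 := congrFun (congrFun h 0) 1
    have h02 := congrFun (congrFun h 0) 2
    have h10 := congrFun (congrFun h 1) 0
    have h11 := congrFun (congrFun h 1) 1
    have h12 := congrFun (congrFun h 1) 2
    have h20 := congrFun (congrFun h 2) 0
    have h21 := congrFun (congrFun h 2) 1
    have h22 := congrFun (congrFun h 2) 2
    simp at h00 h01 h02 h10 h11 h12 h20 h21 h22
    clear h h0
    intro i j k m
    fin_cases i <;> fin_cases j <;> fin_cases k <;> fin_cases m <;>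
      first | rfl | exact mul_comm _ _ | (simp only [Fin.zero_eta, Fin.mk_one, Fin.reduceFinMk]; first | rfl | exact mul_comm _ _ | linear_combination h00 | linear_combination -h00 | linear_combination h01 | linear_combination -h01 | linear_combination h02 | linear_combination -h02 | linear_combination h10 | linear_combination -h10 | linear_combination h11 | linear_combination -h11 | linear_combination h12 | linear_combination -h12 | linear_combination h20 | linear_combination -h20 | linear_combination h21 | linear_combination -h21 | linear_combination h22 | linear_combination -h22)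
  obtain ⟨i, j, hij⟩ : ∃ i j, N i j ≠ 0 := by
    by_contra hcon
    push Not at hcon
    exact h0 (Matrix.ext hcon)
  refine ⟨fun k => N k j, fun m => N i m / N i j, ?_, ?_⟩
  · intro h1
    exact hij (congrFun h1 i)
  · ext k m
    rw [vecMulVec_apply, mul_div_assoc', eq_div_iff hij, key i j k m]
    ring

/-- involutions of determinant one in dimension three -/
theorem inv_three {M : Matrix (Fin 3) (Fin 3) E} (h2 : M * M = 1) (hd : M.det = 1) (h1 : M ≠ 1) :
    M.trace = -1 ∧ ∃ v l : Fin 3 → E, v ≠ 0 ∧ M = vecMulVec v l - 1 := by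
  have ha : M.adjugate = M := adj_of_inv h2 hd
  have ht : M.trace = -1 := by
    have h3 := adj_three M
    rw [ha, h2] at h3
    by_contra hne
    apply h1
    have h4 : (1 + M.trace) • (M - 1) = 0 := by
      rw [smul_sub, add_smul, add_smul, one_smul, one_smul]
      have h5 : M - (1 - M.trace • M + M.trace • 1) = 0 := sub_eq_zero.2 h3
      rw [← h5]
      abel
    rcases smul_eq_zero.1 h4 with h5 | h5
    · exact absurd (by linear_combination h5) hne
    · exact sub_eq_zero.1 h5
  refine ⟨ht, ?_⟩
  have hN : (M + 1).adjugate = 0 := by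
    rw [adj_add_one, ha, ht]
    ext i j
    simp
  have h0 : M + 1 ≠ 0 := by
    intro h
    have h3 : M = -1 := eq_neg_of_add_eq_zero_left h
    rw [h3, Matrix.det_neg, Matrix.det_one, Fintype.card_fin] at hd
    have h4 : (-1 : E) = 1 := by linear_combination hd
    apply h1
    rw [h3]
    ext i j
    rw [Matrix.neg_apply]
    by_cases hij : i = j
    · rw [hij, Matrix.one_apply_eq, h4]
    · rw [Matrix.one_apply_ne hij, neg_zero]
  obtain ⟨v, l, hv, hl⟩ := rank_one_of_adj hN h0
  exact ⟨v, l, hv, by rw [← hl, add_sub_cancel_right]⟩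

end three

/-- a homomorphism from a perfect group to a field is trivial -/
theorem hom_eq_one {P : Type*} [Group P] (hP : commutator P = ⊤) {E : Type*} [Field E] (f : P →* E) (g : P) :
    f g = 1 := by
  have h1 : g ∈ (MonoidHom.toHomUnits f).ker := by
    have h2 := Abelianization.commutator_subset_ker (MonoidHom.toHomUnits f)
    rw [hP] at h2
    exact h2 (Subgroup.mem_top g)
  have h3 := congrArg Units.val h1
  exact h3

/-- a subspace invariant under a perfect group with a scalar `c` has `c ^ dim = 1` -/
theorem pow_finrank {P : Type*} [Group P] (hP : commutator P = ⊤) {E : Type*} [Field E] {n : Type*} [Fintype n]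
    [DecidableEq n] (R : P →* GL n E) (W : Submodule E (n → E))
    (hW : ∀ g, ∀ w ∈ W, (R g : Matrix n n E) *ᵥ w ∈ W) {z : P} {c : E} (hz : (R z : Matrix n n E) = c • 1) :
    c ^ finrank E W = 1 := by
  let f : P →* E :=
    { toFun := fun g => LinearMap.det ((Matrix.toLin' (R g : Matrix n n E)).restrict (p := W) (q := W)
        (fun w hw => by rw [Matrix.toLin'_apply]; exact hW g w hw))
      map_one' := by
        rw [← LinearMap.det_id (M := W) (A := E)]
        congr 1
        ext w
        simp
      map_mul' := fun g h => by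
        rw [← LinearMap.det_comp]
        congr 1
        ext w
        simp [Matrix.mulVec_mulVec] }
  have h1 := hom_eq_one hP f z
  have h2 : f z = c ^ finrank E W := by
    show LinearMap.det _ = _
    have h3 : (Matrix.toLin' (R z : Matrix n n E)).restrict (p := W) (q := W)
        (fun w hw => by rw [Matrix.toLin'_apply]; exact hW z w hw) = c • LinearMap.id := by
      ext w
      simp [hz]
    rw [h3, LinearMap.det_smul, LinearMap.det_id, mul_one]
  rw [← h2, h1]

namespace Cov

variable {P : Type*} [Group P] (C : Cov P) {E : Type*} [Field E]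

include C in
theorem det_one (R : P →* GL (Fin 3) E) (g : P) : (R g : Matrix (Fin 3) (Fin 3) E).det = 1 :=
  hom_eq_one C.perf (Matrix.detMonoidHom.comp ((Units.coeHom _).comp R)) g

/-- invariance under the generators is invariance -/
theorem invariant [Finite P] {n : Type*} [Fintype n] [DecidableEq n] (R : P →* GL n E) (W : Submodule E (n → E))
    (ha : ∀ w ∈ W, (R C.a : Matrix n n E) *ᵥ w ∈ W) (hb : ∀ w ∈ W, (R C.b : Matrix n n E) *ᵥ w ∈ W) (g : P) :
    ∀ w ∈ W, (R g : Matrix n n E) *ᵥ w ∈ W := by
  have hmul : ∀ g h : P, (∀ w ∈ W, (R g : Matrix n n E) *ᵥ w ∈ W) → (∀ w ∈ W, (R h : Matrix n n E) *ᵥ w ∈ W) →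
      ∀ w ∈ W, (R (g * h) : Matrix n n E) *ᵥ w ∈ W := by
    intro g h hg hh w hw
    rw [map_mul, Units.val_mul, ← Matrix.mulVec_mulVec]
    exact hg _ (hh _ hw)
  have hone : ∀ w ∈ W, (R 1 : Matrix n n E) *ᵥ w ∈ W := by
    intro w hw
    rw [map_one, Units.val_one, Matrix.one_mulVec]
    exact hw
  have hg : g ∈ Subgroup.closure {C.a, C.b} := by rw [C.closure_ab]; trivial
  induction hg using Subgroup.closure_induction with
  | mem x hx =>
    rcases hx with rfl | hx
    · exact ha
    · rw [Set.mem_singleton_iff.1 hx]; exact hb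
  | one => exact hone
  | mul x y _ _ hx hy => exact hmul x y hx hy
  | inv x _ hx =>
    have h1 : x⁻¹ = x ^ (orderOf x - 1) := by
      rw [inv_eq_iff_mul_eq_one, ← pow_succ', Nat.sub_add_cancel (orderOf_pos x), pow_orderOf_eq_one]
    rw [h1]
    generalize orderOf x - 1 = k
    induction k with
    | zero => rw [pow_zero]; exact hone
    | succ k ih => rw [pow_succ]; exact hmul _ _ ih hx

/-- a representation with `R z = c ≠ 1` has kernel inside the centre -/
theorem ker_le {n : Type*} [Fintype n] [DecidableEq n] (R : P →* GL n E) (hz : R C.z ≠ 1) {g : P} (hg : R g = 1) :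
    C.π g = 1 := by
  have h1 : (R.ker.map C.π).Normal := Subgroup.Normal.map inferInstance _ C.surj
  rcases h1.eq_bot_or_eq_top with h | h
  · have : C.π g ∈ R.ker.map C.π := ⟨g, hg, rfl⟩
    rw [h] at this
    exact this
  · exfalso
    have hex : ∀ g : P, ∃ d ∈ R.ker, ∃ k ∈ C.π.ker, g = d * k := by
      intro g
      have : C.π g ∈ R.ker.map C.π := by rw [h]; trivial
      obtain ⟨d, hd, hdg⟩ := this
      exact ⟨d, hd, d⁻¹ * g, by rw [MonoidHom.mem_ker, map_mul, map_inv, hdg, inv_mul_cancel],
        (mul_inv_cancel_left d g).symm⟩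
    have hle : commutator P ≤ R.ker := by
      rw [commutator_def, Subgroup.commutator_le]
      intro g _ h _
      obtain ⟨d, hd, k, hk, rfl⟩ := hex g
      obtain ⟨e, he, l, hl, rfl⟩ := hex h
      have c1 := C.ker_comm hk l
      have e1 : R (k * l * k⁻¹ * l⁻¹) = 1 := by
        rw [← c1, show l * k * k⁻¹ * l⁻¹ = 1 by group, map_one]
      rw [MonoidHom.mem_ker, commutatorElement_def]
      simp only [map_mul, map_inv, MonoidHom.mem_ker.1 hd, MonoidHom.mem_ker.1 he, one_mul]
      simpa only [map_mul, map_inv] using e1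
    rw [C.perf] at hle
    exact hz (hle (Subgroup.mem_top C.z))

variable {C}

theorem R_z_ne {n : Type*} [Fintype n] [DecidableEq n] [Nonempty n] {R : P →* GL n E} {c : E}
    (hz : (R C.z : Matrix n n E) = c • 1) (hc : c ≠ 1) : R C.z ≠ 1 := by
  intro h
  rw [h, Units.val_one] at hz
  obtain ⟨i⟩ := ‹Nonempty n›
  have h7 := congrFun (congrFun hz i) i
  rw [Matrix.smul_apply, Matrix.one_apply_eq, smul_eq_mul, mul_one] at h7
  exact hc h7.symm

theorem ww_ne (p : Par E) : p.ω * p.ω ≠ 1 := by
  intro h
  apply p.ω_ne_one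
  have := p.ω_cube
  calc p.ω = p.ω ^ 3 * p.ω := by rw [this, one_mul]
    _ = (p.ω * p.ω) * (p.ω * p.ω) := by ring
    _ = 1 := by rw [h, one_mul]

/-- no invariant subspaces -/
theorem irr3 [Finite P] {p : Par E} {R : P →* GL (Fin 3) E}
    (hz : (R C.z : Matrix (Fin 3) (Fin 3) E) = (p.ω * p.ω) • 1) (W : Submodule E (Fin 3 → E))
    (ha : ∀ w ∈ W, (R C.a : Matrix (Fin 3) (Fin 3) E) *ᵥ w ∈ W)
    (hb : ∀ w ∈ W, (R C.b : Matrix (Fin 3) (Fin 3) E) *ᵥ w ∈ W) (h0 : W ≠ ⊥) : W = ⊤ := by
  have h1 := pow_finrank C.perf R W (C.invariant R W ha hb) hz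
  have h2 : finrank E W ≤ 3 := by
    have := Submodule.finrank_le W
    rwa [Module.finrank_fin_fun] at this
  have h3 : finrank E W ≠ 0 := fun h => h0 (Submodule.finrank_eq_zero.1 h)
  have h4 := ww_ne p
  have h5 := p.ω_cube
  have h6 : finrank E W = 3 := by
    interval_cases hf : finrank E W
    · exact absurd rfl h3
    · exact absurd (by simpa using h1) h4
    · exfalso
      apply p.ω_ne_one
      calc p.ω = p.ω ^ 3 * p.ω := by rw [h5, one_mul]
        _ = (p.ω * p.ω) ^ 2 := by ring
        _ = 1 := h1
    · rfl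
  apply Submodule.eq_top_of_finrank_eq
  rw [h6, Module.finrank_fin_fun]

end Cov

end Cfsg.Agent.H956.K1
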