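import Cfsg.Agent.H956.K1.Rep3

/-!
# The three-dimensional representations of `3.A₆`: uniqueness (helper956)

`Cov.rep3` : every `R : P → GL₃(E)` with `R z = ω²` is conjugate to the explicit representation for `φ` or for `1 - φ`.
-/

set_option autoImplicit false
set_option maxRecDepth 20000

namespace Cfsg.Agent.H956.K1

open Matrix Cfsg Cfsg.Geo Cfsg.Agent.H173.Pres Module

theorem trace_conj_GL {n : Type*} [Fintype n] [DecidableEq n] {E : Type*} [Field E] {P : Type*} [Group P]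
    (R : P →* GL n E) {g h t : P} (ht : t * g = h * t) : (R g : Matrix n n E).trace = (R h : Matrix n n E).trace := by
  have h1 : h = t * g * t⁻¹ := by rw [ht]; group
  rw [h1, map_mul, map_mul, Units.val_mul, Units.val_mul, Matrix.trace_mul_cycle, ← Units.val_mul, ← map_mul,
    inv_mul_cancel, map_one, Units.val_one, one_mul]

namespace Par

variable {E : Type*} [Field E] (p : Par E)

theorem m_B : p.m mB = !![0, 0, 1; 1, 0, -1; 0, 1, 1] := by
  ext i j
  fin_cases i <;> fin_cases j <;> simp [m, ev, mB, Q.ev]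

theorem m_A : p.m mA = !![1, 1 + p.ω * p.φ, -p.φ; 0, -1, 0; 0, 0, -1] := by
  ext i j
  fin_cases i <;> fin_cases j <;> simp [m, ev, mA, Q.ev]
  ring

end Par

namespace Cov

variable {P : Type*} [Group P] {C : Cov P} {E : Type*} [Field E]

theorem rep3 [Finite P] (p : Par E) (R : P →* GL (Fin 3) E)
    (hz : (R C.z : Matrix (Fin 3) (Fin 3) E) = (p.ω * p.ω) • 1) :
    ∃ (Y : GL (Fin 3) E) (p' : Par E), (p' = p ∨ p' = p.swap) ∧ R C.a = Y * p'.gA * Y⁻¹ ∧ R C.b = Y * p'.gB * Y⁻¹ := by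
  have hzne : R C.z ≠ 1 := R_z_ne (C := C) hz (ww_ne p)
  obtain ⟨a', ha'⟩ : ∃ M, M = (R C.a : Matrix (Fin 3) (Fin 3) E) := ⟨_, rfl⟩
  obtain ⟨b', hb'⟩ : ∃ M, M = (R C.b : Matrix (Fin 3) (Fin 3) E) := ⟨_, rfl⟩
  -- the involution
  have ha2 : a' * a' = 1 := by
    rw [ha', ← Units.val_mul, ← map_mul, ← pow_two, C.a2, map_one, Units.val_one]
  have ha1 : a' ≠ 1 := by
    intro h
    have h1 : R C.a = 1 := Units.ext (by rw [← ha', h, Units.val_one])
    have h2 := C.ker_le R hzne h1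
    rw [C.πa] at h2
    revert h2
    decide
  obtain ⟨-, v, l, hv, hvl⟩ := inv_three ha2 (by rw [ha']; exact C.det_one R _) ha1
  have htr : a'.trace = -1 := (inv_three ha2 (by rw [ha']; exact C.det_one R _) ha1).1
  have hlv : l ⬝ᵥ v = 2 := by
    rw [hvl, Matrix.trace_sub, Matrix.trace_vecMulVec, Matrix.trace_one, Fintype.card_fin] at htr
    rw [dotProduct_comm]
    push_cast at htr
    linear_combination htr
  have hav : ∀ w : Fin 3 → E, a' *ᵥ w = (l ⬝ᵥ w) • v - w := by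
    intro w
    rw [hvl, Matrix.sub_mulVec, Matrix.one_mulVec, Matrix.vecMulVec_mulVec, op_smul_eq_smul]
  -- the element of order four
  have hb4 : b' * b' * (b' * b') = 1 := by
    rw [hb', ← Units.val_mul, ← map_mul, ← Units.val_mul, ← map_mul]
    have : C.b * C.b * (C.b * C.b) = C.b ^ 4 := by rw [← pow_two, ← pow_two, ← pow_mul]
    rw [this, C.b4, map_one, Units.val_one]
  have hbb : b' * b' ≠ 1 := by
    intro h
    have h1 : R (C.b * C.b) = 1 := Units.ext (by rw [map_mul, Units.val_mul, ← hb', h, Units.val_one])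
    have h2 := C.ker_le R hzne h1
    rw [map_mul, C.πb] at h2
    revert h2
    decide
  have hdb : b'.det = 1 := by rw [hb']; exact C.det_one R _
  have htb2 : (b' * b').trace = -1 := (inv_three hb4 (by rw [Matrix.det_mul, hdb, one_mul]) hbb).1
  obtain ⟨bi, hbi⟩ : ∃ M, M = (R C.b⁻¹ : Matrix (Fin 3) (Fin 3) E) := ⟨_, rfl⟩
  have hbbi : b' * bi = 1 := by rw [hb', hbi, ← Units.val_mul, ← map_mul, mul_inv_cancel, map_one, Units.val_one]
  have htbi : b'.trace = bi.trace := by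
    obtain ⟨t, ht⟩ := C.b_conj
    rw [hb', hbi]
    exact trace_conj_GL R ht
  have hadj := adj_of_inv hbbi hdb
  have h3 := adj_three b'
  rw [hadj, ← htbi] at h3
  have hτ : b'.trace = 1 := by
    have h4 := congrArg Matrix.trace h3
    rw [Matrix.trace_add, Matrix.trace_sub, Matrix.trace_smul, Matrix.trace_smul, Matrix.trace_one, htb2,
      Fintype.card_fin, ← htbi, smul_eq_mul, smul_eq_mul] at h4
    push_cast at h4
    have h5 : (b'.trace - 1) ^ 2 = 0 := by linear_combination h4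
    exact sub_eq_zero.1 (pow_eq_zero_iff two_ne_zero |>.1 h5)
  rw [hτ, one_smul, one_smul] at h3
  have hb3 : b' * (b' * b') = b' * b' - b' + 1 := by
    have h5 : b' * bi = b' * (b' * b') - b' * b' + b' := by
      rw [h3, mul_add, mul_sub, mul_one]
    rw [hbbi] at h5
    rw [h5]
    abel
  have hbv : ∀ w : Fin 3 → E, b' *ᵥ (b' *ᵥ (b' *ᵥ w)) = b' *ᵥ (b' *ᵥ w) - b' *ᵥ w + w := by
    intro w
    rw [Matrix.mulVec_mulVec, Matrix.mulVec_mulVec, mul_assoc, hb3, Matrix.add_mulVec, Matrix.sub_mulVec,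
      Matrix.one_mulVec, ← Matrix.mulVec_mulVec]
  -- the basis
  obtain ⟨v1, hv1⟩ : ∃ w, w = b' *ᵥ v := ⟨_, rfl⟩
  obtain ⟨v2, hv2⟩ : ∃ w, w = b' *ᵥ v1 := ⟨_, rfl⟩
  have hv3 : b' *ᵥ v2 = v2 - v1 + v := by rw [hv2, hv1, hbv]
  obtain ⟨y, hy⟩ : ∃ y, y = l ⬝ᵥ v1 := ⟨_, rfl⟩
  obtain ⟨x, hx⟩ : ∃ x, x = l ⬝ᵥ v2 := ⟨_, rfl⟩
  let Y : Matrix (Fin 3) (Fin 3) E := Matrix.of fun i j => ![v, v1, v2] j i
  have hY : ∀ w : Fin 3 → E, Y *ᵥ w = w 0 • v + w 1 • v1 + w 2 • v2 := by
    intro w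
    ext i
    rw [Matrix.mulVec, dotProduct, Fin.sum_univ_three]
    simp [Y]
    ring
  let A0 : Matrix (Fin 3) (Fin 3) E := !![1, y, x; 0, -1, 0; 0, 0, -1]
  let B0 : Matrix (Fin 3) (Fin 3) E := !![0, 0, 1; 1, 0, -1; 0, 1, 1]
  have hA0 : ∀ w, A0 *ᵥ w = ![w 0 + y * w 1 + x * w 2, -w 1, -w 2] := by
    intro w
    ext i
    fin_cases i <;> simp [A0, Matrix.mulVec, dotProduct, Fin.sum_univ_three]
  have hB0 : ∀ w, B0 *ᵥ w = ![w 2, w 0 - w 2, w 1 + w 2] := by
    intro w
    ext i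
    fin_cases i <;> simp [B0, Matrix.mulVec, dotProduct, Fin.sum_univ_three]
    ring
  have hAY : a' * Y = Y * A0 := by
    apply Matrix.ext_of_mulVec_single
    intro i
    rw [← Matrix.mulVec_mulVec, ← Matrix.mulVec_mulVec, hA0, hY, hY, Matrix.mulVec_add, Matrix.mulVec_add,
      Matrix.mulVec_smul, Matrix.mulVec_smul, Matrix.mulVec_smul, hav, hav, hav, hlv, ← hy, ← hx]
    fin_cases i <;> simp
    all_goals first | (rw [two_smul]; abel) | abel
  have hBY : b' * Y = Y * B0 := by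
    apply Matrix.ext_of_mulVec_single
    intro i
    rw [← Matrix.mulVec_mulVec, ← Matrix.mulVec_mulVec, hB0, hY, hY, Matrix.mulVec_add, Matrix.mulVec_add,
      Matrix.mulVec_smul, Matrix.mulVec_smul, Matrix.mulVec_smul, ← hv1, ← hv2, hv3]
    fin_cases i <;> simp
    abel
  have hunit : IsUnit Y := by
    rw [← Matrix.mulVec_surjective_iff_isUnit]
    have h6 := irr3 (C := C) hz (LinearMap.range Y.mulVecLin) (by
        rintro _ ⟨w, rfl⟩
        exact ⟨A0 *ᵥ w, by rw [Matrix.mulVecLin_apply, Matrix.mulVecLin_apply, Matrix.mulVec_mulVec, ← hAY, ← ha',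
          Matrix.mulVec_mulVec]⟩) (by
        rintro _ ⟨w, rfl⟩
        exact ⟨B0 *ᵥ w, by rw [Matrix.mulVecLin_apply, Matrix.mulVecLin_apply, Matrix.mulVec_mulVec, ← hBY, ← hb',
          Matrix.mulVec_mulVec]⟩) (by
        intro h
        apply hv
        have h7 : Y *ᵥ ![1, 0, 0] ∈ LinearMap.range Y.mulVecLin := ⟨_, rfl⟩
        rw [h, Submodule.mem_bot, hY] at h7
        simpa using h7)
    intro w
    have : w ∈ LinearMap.range Y.mulVecLin := by rw [h6]; trivial
    obtain ⟨w', hw'⟩ := this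
    exact ⟨w', hw'⟩
  obtain ⟨Z, hZ⟩ := hunit
  have hYi : Y * ((Z⁻¹ : GL (Fin 3) E) : Matrix (Fin 3) (Fin 3) E) = 1 := by rw [← hZ, ← Units.val_mul, mul_inv_cancel, Units.val_one]
  have hiY : ((Z⁻¹ : GL (Fin 3) E) : Matrix (Fin 3) (Fin 3) E) * Y = 1 := by rw [← hZ, ← Units.val_mul, inv_mul_cancel, Units.val_one]
  have haY : a' = Y * A0 * ((Z⁻¹ : GL (Fin 3) E) : Matrix (Fin 3) (Fin 3) E) := by rw [← hAY, mul_assoc, hYi, mul_one]
  have hbY : b' = Y * B0 * ((Z⁻¹ : GL (Fin 3) E) : Matrix (Fin 3) (Fin 3) E) := by rw [← hBY, mul_assoc, hYi, mul_one]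
  -- the element of order five
  have hu : SemiconjBy Y (A0 * B0 * B0) (a' * b' * b') := by
    have h6 : SemiconjBy Y A0 a' := hAY.symm
    have h7 : SemiconjBy Y B0 b' := hBY.symm
    exact (h6.mul_right h7).mul_right h7
  have hu5 : (a' * b' * b') ^ 5 = 1 := by
    have h6 : a' * b' * b' = (R C.u : Matrix (Fin 3) (Fin 3) E) := by
      rw [ha', hb', ← Units.val_mul, ← map_mul, ← Units.val_mul, ← map_mul, mul_assoc, ← pow_two]
      rfl
    rw [h6, ← Units.val_pow_eq_pow_val, ← map_pow, C.u_five, map_one, Units.val_one]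
  have hc5 : (A0 * B0 * B0) ^ 5 = 1 := by
    have h6 := hu.pow_right 5
    rw [hu5] at h6
    have h7 : Y * (A0 * B0 * B0) ^ 5 = Y := by rw [h6.eq, one_mul]
    calc (A0 * B0 * B0) ^ 5 = ((Z⁻¹ : GL (Fin 3) E) : Matrix (Fin 3) (Fin 3) E) * (Y * (A0 * B0 * B0) ^ 5) := by
          rw [← mul_assoc, hiY, one_mul]
      _ = 1 := by rw [h7, hiY]
  have hc : ∀ s t : E, (A0 * B0 * B0) *ᵥ ![s, 0, t] = ![x * s + t, 0, -s] := by
    intro s t
    rw [← Matrix.mulVec_mulVec, ← Matrix.mulVec_mulVec, hB0, hB0, hA0]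
    ext i
    fin_cases i <;> simp <;> ring
  have hc6 : (A0 * B0 * B0) ^ 5 *ᵥ ![0, 0, 1] = ![x ^ 4 - 3 * x ^ 2 + 1, 0, 2 * x - x ^ 3] := by
    generalize A0 * B0 * B0 = c0 at hc
    rw [Par.pow_five, ← Matrix.mulVec_mulVec, ← Matrix.mulVec_mulVec, ← Matrix.mulVec_mulVec, ← Matrix.mulVec_mulVec,
      hc, hc, hc, hc, hc]
    ext i
    fin_cases i <;> simp <;> ring
  rw [hc5, Matrix.one_mulVec] at hc6
  have e0 : x ^ 4 - 3 * x ^ 2 + 1 = 0 := by
    have := congrFun hc6 0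
    simpa using this.symm
  have e2 : 2 * x - x ^ 3 = 1 := by
    have := congrFun hc6 2
    simpa using this.symm
  have ex : (x + p.φ) * (x + (1 - p.φ)) = 0 := by
    have h6 : x ^ 2 + x - 1 = 0 := by
      have h7 : (x - 1) * (x ^ 2 + x - 1) = 0 := by linear_combination -e2
      rcases mul_eq_zero.1 h7 with h8 | h8
      · exfalso
        have h9 : x = 1 := sub_eq_zero.1 h8
        rw [h9] at e0
        have h10 : (1 : E) = 0 := by linear_combination -e0
        exact one_ne_zero h10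
      · exact h8
    linear_combination h6 - p.hφ
  -- the element `ab`
  have hy1 : y = 1 - p.ω * x := by
    obtain ⟨t, ht⟩ := C.d_conj
    have h6 := trace_conj_GL R ht
    have h7 : (R C.d : Matrix (Fin 3) (Fin 3) E) = (p.ω * p.ω) • (a' * b') := by
      show (R (C.a * C.b * C.z) : Matrix (Fin 3) (Fin 3) E) = _
      rw [map_mul, map_mul, Units.val_mul, Units.val_mul, hz, ha', hb', Matrix.mul_smul, mul_one]
    have hzi : (R C.z⁻¹ : Matrix (Fin 3) (Fin 3) E) = p.ω • 1 := by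
      have h8 : (R C.z : Matrix (Fin 3) (Fin 3) E) * (R C.z⁻¹ : Matrix (Fin 3) (Fin 3) E) = 1 := by
        rw [← Units.val_mul, ← map_mul, mul_inv_cancel, map_one, Units.val_one]
      rw [hz, Matrix.smul_mul, one_mul] at h8
      have h9 := congrArg (fun M => p.ω • M) h8
      simp only [smul_smul] at h9
      rw [show p.ω * (p.ω * p.ω) = p.ω ^ 3 by ring, p.ω_cube, one_smul] at h9
      exact h9
    have h8 : (R C.d⁻¹ : Matrix (Fin 3) (Fin 3) E) = p.ω • (bi * a') := by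
      have h9 : C.d⁻¹ = C.z⁻¹ * (C.b⁻¹ * C.a) := by
        have h10 : C.a⁻¹ = C.a := by
          rw [inv_eq_iff_mul_eq_one, ← pow_two, C.a2]
        unfold d
        rw [_root_.mul_inv_rev, _root_.mul_inv_rev, h10]
      rw [h9, map_mul, map_mul, Units.val_mul, Units.val_mul, hzi, ← hbi, ← ha', Matrix.smul_mul, one_mul]
    rw [h7, h8, Matrix.trace_smul, Matrix.trace_smul, smul_eq_mul, smul_eq_mul] at h6
    have h9 : (a' * b').trace = y - 1 := by
      have : a' * b' = Y * (A0 * B0) * ((Z⁻¹ : GL (Fin 3) E) : Matrix (Fin 3) (Fin 3) E) := by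
        rw [haY, hbY]
        calc Y * A0 * _ * (Y * B0 * _) = Y * A0 * (((Z⁻¹ : GL (Fin 3) E) : Matrix (Fin 3) (Fin 3) E) * Y) * B0 *
              ((Z⁻¹ : GL (Fin 3) E) : Matrix (Fin 3) (Fin 3) E) := by simp only [mul_assoc]
          _ = _ := by rw [hiY, mul_one]; simp only [mul_assoc]
      rw [this, Matrix.trace_mul_cycle, hiY, one_mul, Matrix.trace_fin_three]
      simp [A0, B0, Matrix.mul_apply, Fin.sum_univ_three]
      ring
    have h10 : (bi * a').trace = 1 + x - y := by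
      rw [h3, add_mul, sub_mul, one_mul, Matrix.trace_add, Matrix.trace_sub, htr]
      have h11 : (b' * b' * a').trace = 1 + x := by
        rw [Matrix.trace_mul_comm, ← mul_assoc]
        have : a' * b' * b' = Y * (A0 * B0 * B0) * ((Z⁻¹ : GL (Fin 3) E) : Matrix (Fin 3) (Fin 3) E) := by
          rw [hu.eq, mul_assoc (a' * b' * b'), hYi, mul_one]
        rw [this, Matrix.trace_mul_cycle, hiY, one_mul, Matrix.trace_fin_three]
        simp [A0, B0, Matrix.mul_apply, Fin.sum_univ_three]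
        ring
      rw [h11, Matrix.trace_mul_comm, h9]
      ring
    rw [h9, h10] at h6
    linear_combination (-p.ω ^ 3) * h6 + ((y - 1) * (p.ω ^ 3 - p.ω + 1) + x * p.ω * (1 - p.ω)) * p.hω
  -- end
  have hBB : B0 = p.m mB := p.m_B.symm
  rcases mul_eq_zero.1 ex with h | h
  · refine ⟨Z, p, Or.inl rfl, ?_, ?_⟩
    · apply Units.ext
      rw [Units.val_mul, Units.val_mul, hZ, ← ha', haY, Par.val_gA, Par.m_A]
      have hx' : x = -p.φ := by linear_combination h
      have hy' : y = 1 + p.ω * p.φ := by rw [hy1, hx']; ring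
      rw [← hx', ← hy']
    · apply Units.ext
      rw [Units.val_mul, Units.val_mul, hZ, ← hb', hbY, Par.val_gB, Par.m_B]
  · refine ⟨Z, p.swap, Or.inr rfl, ?_, ?_⟩
    · apply Units.ext
      rw [Units.val_mul, Units.val_mul, hZ, ← ha', haY, Par.val_gA, Par.m_A]
      have hx' : x = -p.swap.φ := by
        show x = -(1 - p.φ)
        linear_combination h
      have hy' : y = 1 + p.swap.ω * p.swap.φ := by
        rw [hy1, hx']
        show 1 - p.ω * -p.swap.φ = 1 + p.ω * p.swap.φ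
        ring
      rw [← hx', ← hy']
    · apply Units.ext
      rw [Units.val_mul, Units.val_mul, hZ, ← hb', hbY, Par.val_gB, Par.m_B]

/-- two representations with the same values on the generators are equal -/
theorem rep_ext {n : Type*} [Fintype n] [DecidableEq n] {R S : P →* GL n E} (ha : R C.a = S C.a) (hb : R C.b = S C.b) :
    R = S := by
  apply MonoidHom.eq_of_eqOn_dense C.closure_ab
  rintro x (rfl | hx)
  · exact ha
  · rw [Set.mem_singleton_iff.1 hx]; exact hb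

/-- **Uniqueness of the three-dimensional representations.** -/
theorem rep3' [Finite P] (p : Par E) {A B : P →* GL (Fin 3) E} (hAa : A C.a = p.gA) (hAb : A C.b = p.gB)
    (hBa : B C.a = p.swap.gA) (hBb : B C.b = p.swap.gB) (R : P →* GL (Fin 3) E)
    (hz : (R C.z : Matrix (Fin 3) (Fin 3) E) = (p.ω * p.ω) • 1) :
    ∃ Y : GL (Fin 3) E, (∀ g, R g = Y * A g * Y⁻¹) ∨ (∀ g, R g = Y * B g * Y⁻¹) := by
  obtain ⟨Y, p', h1, h2, h3⟩ := rep3 p R hz
  have key : ∀ S : P →* GL (Fin 3) E, S C.a = p'.gA → S C.b = p'.gB → ∀ g, R g = Y * S g * Y⁻¹ := by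
    intro S hSa hSb g
    have : R = (MulAut.conj Y).toMonoidHom.comp S := by
      apply rep_ext (C := C)
      · rw [h2, ← hSa]; rfl
      · rw [h3, ← hSb]; rfl
    rw [this]
    rfl
  rcases h1 with rfl | rfl
  · exact ⟨Y, Or.inl (key A hAa hAb)⟩
  · exact ⟨Y, Or.inr (key B hBa hBb)⟩

end Cov

end Cfsg.Agent.H956.K1
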