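import Cfsg.Agent.H956.K1.Kill
import Cfsg.Agent.H937.T2Rep
import Cfsg.Agent.S2116

/-!
# `3.A₆` in dimension nine: from the residual core to the abstract contradiction (helper956)
-/

set_option autoImplicit false
set_option maxRecDepth 20000

namespace Cfsg.Agent.H956.K1

open Matrix Cfsg Cfsg.Geo Cfsg.Agent.H173.Pres Cfsg.Agent.H920.Nine Cfsg.Agent.H956.Sep Cfsg.Agent.H915.LD

universe u v

/-- transport of a cover along an isomorphism -/
def Cov.transport {P : Type*} [Group P] {Q : Type*} [Group Q] (C : Cov P) (ε : P ≃* Q) : Cov Q where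
  π := C.π.comp ε.symm.toMonoidHom
  surj := C.surj.comp ε.symm.surjective
  cent := by
    intro k hk
    have h1 : ε.symm k ∈ C.π.ker := hk
    rw [Subgroup.mem_center_iff]
    intro g
    apply ε.symm.injective
    rw [map_mul, map_mul]
    exact C.ker_comm h1 _
  card := by
    rw [← C.card]
    exact Nat.card_congr (Equiv.subtypeEquiv ε.symm.toEquiv (fun k => Iff.rfl))
  perf := by
    have h1 := congrArg (Subgroup.map ε.toMonoidHom) C.perf
    rw [commutator_def, Subgroup.map_commutator] at h1
    have h2 : Subgroup.map ε.toMonoidHom ⊤ = ⊤ := by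
      rw [← MonoidHom.range_eq_map, MonoidHom.range_eq_top]
      exact ε.surjective
    rwa [h2] at h1
  a := ε C.a
  b := ε C.b
  πa := by
    rw [MonoidHom.comp_apply]
    show C.π (ε.symm (ε C.a)) = _
    rw [ε.symm_apply_apply, C.πa]
  πb := by
    rw [MonoidHom.comp_apply]
    show C.π (ε.symm (ε C.b)) = _
    rw [ε.symm_apply_apply, C.πb]
  a2 := by rw [← map_pow, C.a2, map_one]
  b4 := by rw [← map_pow, C.b4, map_one]

theorem Cov.transport_z {P : Type*} [Group P] {Q : Type*} [Group Q] (C : Cov P) (ε : P ≃* Q) :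
    (C.transport ε).z = ε C.z := by
  show (ε C.a * ε C.b) ^ 5 = ε ((C.a * C.b) ^ 5)
  rw [map_pow, map_mul]

section

variable {F : Type u} [Field F] {E : Type v} [Field E] (f : F →+* E)

theorem val_gmap (g : GL (Fin 9) F) : (Matrix.GeneralLinearGroup.map f g : Matrix (Fin 9) (Fin 9) E) =
    (g : Matrix (Fin 9) (Fin 9) F).map f := rfl

theorem gmap_injective : Function.Injective (Matrix.GeneralLinearGroup.map (n := Fin 9) f) := by
  intro g h hgh
  apply Units.ext
  ext i j
  have h1 := congrArg (fun M : GL (Fin 9) E => (M : Matrix (Fin 9) (Fin 9) E) i j) hgh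
  exact f.injective h1

/-- absolutely irreducible groups span after base change -/
theorem span_map {P : Subgroup (GL (Fin 9) F)} (hP : ActsAbsolutelyIrreducibly (matrixSet P)) :
    Submodule.span E (Set.range (mo (P.map (Matrix.GeneralLinearGroup.map f)).subtype)) = ⊤ := by
  have h1 := Cfsg.Agent.H920.span_eq_top hP
  set W := Submodule.span E (Set.range (mo (P.map (Matrix.GeneralLinearGroup.map f)).subtype)) with hW
  have key : ∀ X : Matrix (Fin 9) (Fin 9) F, X.map f ∈ W := by
    intro X
    have hX : X ∈ Submodule.span F (matrixSet P) := by rw [h1]; trivial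
    induction hX using Submodule.span_induction with
    | mem x hx =>
      obtain ⟨g, hg, rfl⟩ := hx
      apply Submodule.subset_span
      exact ⟨⟨Matrix.GeneralLinearGroup.map f g, g, hg, rfl⟩, rfl⟩
    | zero =>
      have : (0 : Matrix (Fin 9) (Fin 9) F).map f = 0 := by ext i j; simp
      rw [this]
      exact W.zero_mem
    | add a b _ _ ha hb =>
      have : (a + b).map f = a.map f + b.map f := by ext i j; simp
      rw [this]
      exact W.add_mem ha hb
    | smul c a _ ha =>
      have : (c • a).map f = f c • a.map f := by ext i j; simp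
      rw [this]
      exact W.smul_mem _ ha
  rw [eq_top_iff]
  intro M _
  rw [Matrix.matrix_eq_sum_single M]
  apply Submodule.sum_mem
  intro i _
  apply Submodule.sum_mem
  intro j _
  have h2 : Matrix.single i j (M i j) = M i j • (Matrix.single i j (1 : F)).map f := by
    ext a b
    simp only [Matrix.smul_apply, Matrix.map_apply, Matrix.single_apply, smul_eq_mul]
    split_ifs
    · rw [map_one, mul_one]
    · rw [map_zero, mul_zero]
  rw [h2]
  exact W.smul_mem _ (key _)

end

/-- the order of the centre -/
theorem card_scalars {F : Type u} [Field F] [Finite F] {P : Subgroup (GL (Fin 9) F)} (hC : Core P)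
    (e : Soc P ≃* alternatingGroup (Fin 6)) (hsd : ¬ SD P) : Nat.card ((scalars (Fin 9) F).subgroupOf P) = 3 := by
  have h3 : 3 ∣ Nat.card ((scalars (Fin 9) F).subgroupOf P) := by
    by_contra h
    exact hsd (H937.T2.a6_sd hC e h)
  have h6 : Nat.card ((scalars (Fin 9) F).subgroupOf P) ∣ 6 := by
    have h1 := hC.card_scalars_dvd e (Cfsg.Agent.S2116.result 6 (Or.inl rfl))
    rwa [Nat.card_eq_fintype_card (α := Multiplicative (ZMod 6)), Fintype.card_multiplicative, ZMod.card] at h1
  have h2 : ¬ 2 ∣ Nat.card ((scalars (Fin 9) F).subgroupOf P) := by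
    intro h
    have : Fact (Nat.Prime 2) := ⟨Nat.prime_two⟩
    obtain ⟨x, hx⟩ := exists_prime_orderOf_dvd_card' 2 h
    have h4 := hC.pow_card x.2
    rw [Fintype.card_fin] at h4
    have h5 : x ^ 9 = 1 := Subtype.ext h4
    have h7 := orderOf_dvd_of_pow_eq_one h5
    rw [hx] at h7
    omega
  have h7 := Nat.le_of_dvd (by norm_num) h6
  interval_cases Nat.card ((scalars (Fin 9) F).subgroupOf P) <;> omega

end Cfsg.Agent.H956.K1
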