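import Cfsg.Agent.H956.K1.Iso

/-!
# Uniqueness of the tensor decomposition (helper956)
-/

set_option autoImplicit false
set_option maxRecDepth 20000

namespace Cfsg.Agent.H956.K1

open Matrix Cfsg Cfsg.Geo Cfsg.Agent.H173.Pres Cfsg.Agent.H920.Nine Cfsg.Agent.H956.Sep

section scl

variable {E : Type*} [Field E] {n : Type*} [Fintype n] [DecidableEq n]

/-- scalar matrices -/
def scl (n : Type*) [Fintype n] [DecidableEq n] : Eˣ →* GL n E where
  toFun c :=
    { val := (c : E) • 1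
      inv := ((c⁻¹ : Eˣ) : E) • 1
      val_inv := by rw [Matrix.smul_mul, one_mul, smul_smul, Units.mul_inv, one_smul]
      inv_val := by rw [Matrix.smul_mul, one_mul, smul_smul, Units.inv_mul, one_smul] }
  map_one' := Units.ext (by
    show ((1 : Eˣ) : E) • (1 : Matrix n n E) = 1
    rw [Units.val_one, one_smul])
  map_mul' c d := Units.ext (by
    show ((c * d : Eˣ) : E) • (1 : Matrix n n E) = ((c : E) • 1) * ((d : E) • 1)
    rw [Matrix.smul_mul, one_mul, smul_smul, Units.val_mul])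

theorem val_scl (c : Eˣ) : ((scl n c : GL n E) : Matrix n n E) = (c : E) • 1 := rfl

theorem scl_comm (c : Eˣ) (g : GL n E) : g * scl n c = scl n c * g := by
  apply Units.ext
  rw [Units.val_mul, Units.val_mul, val_scl, Matrix.smul_mul, Matrix.mul_smul, one_mul, mul_one]

theorem val_scl_mul (c : Eˣ) (g : GL n E) : ((scl n c * g : GL n E) : Matrix n n E) = (c : E) • (g : Matrix n n E) := by
  rw [Units.val_mul, val_scl, Matrix.smul_mul, one_mul]

theorem kr_scl (c : Eˣ) (X Y : GL (Fin 3) E) : kr (scl _ c * X) Y = scl _ c * kr X Y := by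
  apply Units.ext
  rw [val_kr, val_scl_mul, val_scl_mul, kron9_smul_left, val_kr]

theorem kr_scl_right (c : Eˣ) (X Y : GL (Fin 3) E) : kr X (scl _ c * Y) = scl _ c * kr X Y := by
  apply Units.ext
  rw [val_kr, val_scl_mul, val_scl_mul, kron9_smul_right, val_kr]

theorem kr_eq' {X Y X' Y' : GL (Fin 3) E} (h : kr X Y = kr X' Y') :
    ∃ c : Eˣ, X' = scl _ c * X ∧ Y = scl _ c * Y' := by
  obtain ⟨c, hc, h1, h2⟩ := kr_eq h
  refine ⟨Units.mk0 c hc, Units.ext ?_, Units.ext ?_⟩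
  · rw [val_scl_mul, h1, Units.val_mk0]
  · rw [val_scl_mul, h2, Units.val_mk0]

theorem conj_scl (c : Eˣ) (Y g : GL n E) : (scl n c * Y) * g * (scl n c * Y)⁻¹ = Y * g * Y⁻¹ := by
  rw [_root_.mul_inv_rev]
  calc scl n c * Y * g * (Y⁻¹ * (scl n c)⁻¹) = scl n c * (Y * g * Y⁻¹) * (scl n c)⁻¹ := by group
    _ = (Y * g * Y⁻¹) * scl n c * (scl n c)⁻¹ := by rw [scl_comm]
    _ = _ := by group

omit [Fintype n] [DecidableEq n] in
theorem exists_scl {P : Type*} [Group P] [Fintype P] {n : Type} [Fintype n] [DecidableEq n] [Nonempty n]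
    {V : P →* GL n E} (hV : Submodule.span E (Set.range (mo V)) = ⊤) {W : GL n E} (h : ∀ g, V g * W = W * V g) :
    ∃ c : Eˣ, W = scl n c := by
  obtain ⟨c, hc⟩ := scalar_of_comm hV (X := (W : Matrix n n E)) (by
    intro g
    rw [mo_apply, ← Units.val_mul, ← Units.val_mul, h])
  have h0 : c ≠ 0 := by
    rintro rfl
    rw [zero_smul] at hc
    exact val_ne_zero W hc
  exact ⟨Units.mk0 c h0, Units.ext (by rw [hc, val_scl, Units.val_mk0])⟩

end scl

namespace Cov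

variable {P : Type*} [Group P] [Fintype P] {C : Cov P} {E : Type*} [Field E] {p : Par E} {A B : P →* GL (Fin 3) E}
  {V : P →* GL (Fin 9) E}

/-- **The tensor decomposition is unique.** -/
theorem utd (ha : A C.a = p.gA) (hb : A C.b = p.gB) (ha' : B C.a = p.swap.gA) (hb' : B C.b = p.swap.gB)
    (hV : Submodule.span E (Set.range (mo V)) = ⊤) {X X' : GL (Fin 9) E} {A' B' : P →* GL (Fin 3) E}
    (h : ∀ g, V g = X * kr (A g) (B g) * X⁻¹) (h' : ∀ g, V g = X' * kr (A' g) (B' g) * X'⁻¹)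
    (hA' : (A' C.z : Matrix (Fin 3) (Fin 3) E) = (p.ω * p.ω) • 1)
    (hB' : (B' C.z : Matrix (Fin 3) (Fin 3) E) = (p.ω * p.ω) • 1) :
    (∃ Y₁ Y₂, X' = X * kr Y₁ Y₂ ∧ (∀ g, A g = Y₁ * A' g * Y₁⁻¹) ∧ ∀ g, B g = Y₂ * B' g * Y₂⁻¹) ∨
    (∃ Y₁ Y₂, X' = X * kr Y₁ Y₂ * sw ∧ (∀ g, A g = Y₁ * B' g * Y₁⁻¹) ∧ ∀ g, B g = Y₂ * A' g * Y₂⁻¹) := by
  obtain ⟨Y, hY⟩ := rep3' (C := C) p ha hb ha' hb' A' hA'
  obtain ⟨Z, hZ⟩ := rep3' (C := C) p ha hb ha' hb' B' hB'
  rcases hY with hY | hY <;> rcases hZ with hZ | hZ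
  · -- both of type A
    exfalso
    refine not_sym (A := A) (V := V) hV (X := X' * kr Y Z) (fun g => ?_)
    rw [h' g, hY g, hZ g, kr_mul, kr_mul, _root_.mul_inv_rev, kr_inv]
    simp only [mul_assoc]
  · -- (A, B)
    left
    obtain ⟨c, hc⟩ := exists_scl hV (W := X' * kr Y Z * X⁻¹) (by
      intro g
      have h1 : V g = X' * kr Y Z * kr (A g) (B g) * (X' * kr Y Z)⁻¹ := by
        rw [h' g, hY g, hZ g, kr_mul, kr_mul, _root_.mul_inv_rev, kr_inv]
        simp only [mul_assoc]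
      nth_rewrite 1 [h1]
      rw [h g]
      group)
    refine ⟨scl _ c * Y⁻¹, Z⁻¹, ?_, ?_, ?_⟩
    · rw [kr_scl, ← mul_assoc, scl_comm, ← hc, ← kr_inv]
      group
    · intro g
      rw [conj_scl, hY g]
      group
    · intro g
      rw [hZ g]
      group
  · -- (B, A)
    right
    obtain ⟨c, hc⟩ := exists_scl hV (W := X' * kr Y Z * sw * X⁻¹) (by
      intro g
      have h1 : V g = X' * kr Y Z * sw * kr (A g) (B g) * (X' * kr Y Z * sw)⁻¹ := by
        rw [h' g, hY g, hZ g, kr_mul, kr_mul, _root_.mul_inv_rev, _root_.mul_inv_rev, kr_inv, sw_inv,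
          ← sw_kr_sw (A g) (B g)]
        simp only [mul_assoc]
      nth_rewrite 1 [h1]
      rw [h g]
      group)
    refine ⟨scl _ c * Z⁻¹, Y⁻¹, ?_, ?_, ?_⟩
    · have h2 : kr Z⁻¹ Y⁻¹ * sw = sw * (kr Y Z)⁻¹ := by rw [kr_inv, sw_kr]
      rw [kr_scl, ← mul_assoc, scl_comm, mul_assoc, mul_assoc, h2, ← hc]
      calc X' = X' * kr Y Z * (sw * sw) * (kr Y Z)⁻¹ := by rw [sw_mul_sw]; group
        _ = _ := by group
    · intro g
      rw [conj_scl, hZ g]
      group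
    · intro g
      rw [hY g]
      group
  · -- both of type B
    exfalso
    refine not_sym (A := B) (V := V) hV (X := X' * kr Y Z) (fun g => ?_)
    rw [h' g, hY g, hZ g, kr_mul, kr_mul, _root_.mul_inv_rev, kr_inv]
    simp only [mul_assoc]

end Cov

end Cfsg.Agent.H956.K1
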